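import Cfsg.Agent.Lib.FischerClass.OrthThreeSpace
import Cfsg.Agent.Lib.Fischer.OrthThreeStructure

/-!
The reflection groups of norm one over the field with three elements modulo their centres, as coordinates.
-/

set_option autoImplicit false
set_option linter.unusedSectionVars false
set_option linter.style.haveILetI false

namespace CfsgLib.FischerClass

open Cfsg CfsgLib.Orth
open CfsgLib.ThreeTransp CfsgLib.ThreeTransp.Relations

variable {ι : Type} [Fintype ι] [DecidableEq ι]

/-- The reflection group. -/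
abbrev KG (Q : QuadraticForm (ZMod 3) (ι → ZMod 3)) : Subgroup (Grp Q) := Cfsg.reflectionSubgroup (⇑Q) 1

/-- Its quotient by the centre. -/
abbrev HG (Q : QuadraticForm (ZMod 3) (ι → ZMod 3)) : Type := ↥(KG Q) ⧸ Subgroup.center ↥(KG Q)

/-- The class of reflections in it. -/
abbrev EG (Q : QuadraticForm (ZMod 3) (ι → ZMod 3)) : Set (HG Q) :=
  (QuotientGroup.mk : ↥(KG Q) → HG Q) ''
    {g : ↥(KG Q) | (g : Grp Q) ∈ Cfsg.reflectionsOfNorm (⇑Q) 1}

variable {Q : QuadraticForm (ZMod 3) (ι → ZMod 3)}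

local notation "B" => QuadraticMap.polar (DFunLike.coe Q)

theorem refl_one_apply {v : ι → ZMod 3} {g : Grp Q} (h : IsRefl v g) (hv : Q v = 1) (x : ι → ZMod 3) :
    ap g x = x - B v x • v := by
  rw [Fischer.refl_apply_three h, hv, one_mul]

theorem refl_vec_three {u v : ι → ZMod 3} {g : Grp Q} (hu : IsRefl u g) (hv : IsRefl v g) (hv1 : Q v = 1) :
    ∃ c : ZMod 3, c • v = u := by
  refine ⟨2 * B v u, ?_⟩
  have h := refl_self hu
  rw [refl_one_apply hv hv1, sub_eq_iff_eq_add, neg_add_eq_sub, eq_sub_iff_add_eq] at h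
  rw [mul_smul, ← h, smul_add]
  match_scalars <;> decide +kernel

/-- What the reflections of norm one give in the quotient. -/
structure Model (Q : QuadraticForm (ZMod 3) (ι → ZMod 3)) (T : (ι → ZMod 3) → HG Q) : Prop where
  base : Base (EG Q)
  mem : ∀ v, Q v = 1 → T v ∈ EG Q
  surj : ∀ y ∈ EG Q, ∃ v, Q v = 1 ∧ T v = y
  flip : ∀ u v, Q u = 1 → Q v = 1 → T u * T v * T u = T (v - QuadraticMap.polar (⇑Q) u v • u)
  inj : ∀ u v, Q u = 1 → Q v = 1 → (T u = T v ↔ ∃ c : ZMod 3, c • v = u)
  comm : ∀ u v, Q u = 1 → Q v = 1 →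
    (Commute (T u) (T v) ↔ QuadraticMap.polar (⇑Q) u v = 0 ∨ ∃ c : ZMod 3, c • v = u)

theorem center_quot_eq_bot (hB : Nondeg Q) (hn : 5 ≤ Module.finrank (ZMod 3) (ι → ZMod 3)) :
    Subgroup.center (HG Q) = ⊥ := by
  set Z := Subgroup.center ↥(KG Q)
  set π := QuotientGroup.mk' Z
  refine eq_bot_iff.2 fun y hy => ?_
  obtain ⟨x, rfl⟩ := QuotientGroup.mk'_surjective Z y
  have hN : Group.IsSolvable ↥((Subgroup.center (HG Q)).comap π) := by
    haveI : Group.IsSolvable ↥((Subgroup.center (HG Q))) := isSolvable_of_comm fun a b => Subtype.ext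
      (Subgroup.mem_center_iff.1 b.2 a)
    haveI : Group.IsSolvable Z := isSolvable_of_comm fun a b => Subtype.ext
      (Subgroup.mem_center_iff.1 b.2 a)
    let φ : ↥((Subgroup.center (HG Q)).comap π) →* ↥(Subgroup.center (HG Q)) :=
      π.subgroupComap (Subgroup.center (HG Q))
    refine solvable_of_ker_le_range (Subgroup.inclusion (H := Z) (fun z hz => ?_)) φ fun z hz => ?_
    · show π z ∈ Subgroup.center (HG Q)
      rw [show π z = 1 from (QuotientGroup.eq_one_iff z).2 hz]
      exact one_mem _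
    · exact ⟨⟨z.1, (QuotientGroup.eq_one_iff z.1).1 (congrArg Subtype.val hz)⟩, rfl⟩
  exact Subgroup.mem_bot.2 ((QuotientGroup.eq_one_iff x).2
    (Fischer.solvable_normal_le_center hB hn one_ne_zero hN (show π x ∈ Subgroup.center (HG Q) from hy)))

theorem exists_model (hB : Nondeg Q) (hn : 5 ≤ Fintype.card ι) : ∃ T, Model Q T := by
  classical
  have hn' : 5 ≤ Module.finrank (ZMod 3) (ι → ZMod 3) := by rwa [Module.finrank_fintype_fun_eq_card]
  have hcls := Fischer.orth_three_class hB hn' (one_ne_zero (α := ZMod 3))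
  have hR : ∀ v, Q v = 1 → ∃ g : ↥(KG Q), IsRefl v (g : Grp Q) := fun v hv => by
    obtain ⟨g, hg⟩ := exists_refl hB (show Q v ≠ 0 by rw [hv]; exact one_ne_zero)
    exact ⟨⟨g, Subgroup.subset_closure ((Fischer.norm_one_iff one_ne_zero g).2 ⟨v, hv, hg⟩)⟩, hg⟩
  choose R hR using hR
  have hRD : ∀ v (h : Q v = 1), (R v h : Grp Q) ∈ Cfsg.reflectionsOfNorm (⇑Q) 1 := fun v h =>
    (Fischer.norm_one_iff one_ne_zero _).2 ⟨v, h, hR v h⟩
  have hflip : ∀ u v (hu : Q u = 1) (hv : Q v = 1),
      R u hu * R v hv * R u hu = R (v - B u v • u) (refl_norm hu hv) := by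
    intro u v hu hv
    have h := refl_conj (hR v hv) (R u hu : Grp Q)
    rw [refl_inv (hR u hu), refl_one_apply (hR u hu) hu] at h
    exact Subtype.ext (refl_unique h (hR _ _))
  have hsame : ∀ u v (hu : Q u = 1) (hv : Q v = 1), R u hu = R v hv → ∃ c : ZMod 3, c • v = u := fun u v hu hv e =>
    refl_vec_three (hR u hu) (by rw [e]; exact hR v hv) hv
  have hscal : ∀ u v (hu : Q u = 1) (hv : Q v = 1), (∃ c : ZMod 3, c • v = u) → R u hu = R v hv := by
    rintro u v hu hv ⟨c, rfl⟩
    have hc : c ≠ 0 := fun e => ne_of_norm hu (by rw [e, zero_smul])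
    exact Subtype.ext (refl_unique (hR _ hu) (refl_smul (hR v hv) hc))
  have hcomm : ∀ u v (hu : Q u = 1) (hv : Q v = 1),
      Commute (R u hu) (R v hv) ↔ B u v = 0 ∨ ∃ c : ZMod 3, c • v = u := by
    intro u v hu hv
    have hsq : R u hu * R u hu = 1 := Subtype.ext (refl_mul_self (hR u hu))
    have h1 : Commute (R u hu) (R v hv) ↔ R (v - B u v • u) (refl_norm hu hv) = R v hv := by
      rw [← hflip u v hu hv]
      constructor
      · intro h; rw [h.eq, mul_assoc, hsq, mul_one]
      · intro h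
        show R u hu * R v hv = R v hv * R u hu
        calc R u hu * R v hv = R u hu * R v hv * (R u hu * R u hu) := by rw [hsq, mul_one]
          _ = R v hv * R u hu := by rw [← mul_assoc, h]
    rw [h1]
    constructor
    · intro e
      obtain ⟨c, hc⟩ := hsame _ _ _ _ e
      by_cases hb : B u v = 0
      · exact Or.inl hb
      · refine Or.inr ⟨B u v * (1 - c), ?_⟩
        rw [mul_smul, sub_smul, one_smul, hc, sub_sub_cancel, smul_smul, f3_sq hb, one_smul]
    · rintro (hb | ⟨c, hc⟩) <;> refine hscal _ _ _ _ ?_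
      · exact ⟨1, by rw [one_smul, hb, zero_smul, sub_zero]⟩
      · refine ⟨1 - B u v * c, ?_⟩
        rw [sub_smul, one_smul, mul_smul, hc]
  -- the map to the quotient is injective on the class
  have hinj : ∀ u v (hu : Q u = 1) (hv : Q v = 1),
      (QuotientGroup.mk (R u hu) : HG Q) = QuotientGroup.mk (R v hv) → ∃ c : ZMod 3, c • v = u := by
    intro u v hu hv e
    have hz : (R u hu)⁻¹ * R v hv ∈ Subgroup.center ↥(KG Q) := QuotientGroup.eq.1 e
    have hc : Commute (R u hu) (R v hv) := by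
      have h := Subgroup.mem_center_iff.1 hz (R u hu)
      rw [mul_inv_cancel_left] at h
      show R u hu * R v hv = R v hv * R u hu
      calc R u hu * R v hv = R u hu * ((R u hu)⁻¹ * R v hv * R u hu) := by rw [← h]
        _ = R v hv * R u hu := by group
    refine ((hcomm u v hu hv).1 hc).elim (fun hb => ?_) id
    exfalso
    obtain ⟨t, ht, ht0, htq⟩ := exists_singular (Q := Q) (U := orth Q (Submodule.span (ZMod 3) {u, v})) (by
      have := finrank_orth_pair hB u v
      omega)
    have htu := mem_orth_span.1 ht u (Set.mem_insert _ _)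
    have htv := mem_orth_span.1 ht v (Set.mem_insert_of_mem _ rfl)
    have hzq : Q (u + t) = 1 := by rw [q_add, hu, htq, htu]; ring
    have hfix := Subgroup.mem_center_iff.1 hz (R (u + t) hzq)
    have h := refl_conj (hR _ hzq) (((R u hu)⁻¹ * R v hv : ↥(KG Q)) : Grp Q)
    have hzz : ((R u hu)⁻¹ * R v hv) * R (u + t) hzq * ((R u hu)⁻¹ * R v hv)⁻¹ = R (u + t) hzq := by
      rw [← hfix, mul_inv_cancel_right]
    have hzz' := congrArg Subtype.val hzz
    simp only [Subgroup.coe_mul, Subgroup.coe_inv] at hzz' h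
    rw [hzz', ap_mul, refl_inv (hR u hu), refl_one_apply (hR v hv) hv, b_add_right, b_comm v u, hb, htv,
      zero_add, zero_smul, sub_zero, refl_one_apply (hR u hu) hu, b_add_right, b_self, hu, htu] at h
    obtain ⟨c, hc'⟩ := refl_vec_three h (hR _ hzq) hzq
    have h1 := congrArg (B u) hc'
    simp only [b_smul_right, b_sub_right, b_add_right, b_self, hu, htu] at h1
    have : c = 2 := by revert h1; clear hc' h; revert c; decide +kernel
    subst this
    apply ht0
    have h3 : (3 : ZMod 3) • u + t = 0 := by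
      rw [← sub_eq_zero] at hc'
      rw [← hc']
      match_scalars <;> decide +kernel
    rwa [Fischer.three_eq_zero, zero_smul, zero_add] at h3
  have hne1 : ∀ g ∈ {g : ↥(KG Q) | (g : Grp Q) ∈ Cfsg.reflectionsOfNorm (⇑Q) 1},
      QuotientGroup.mk' (Subgroup.center ↥(KG Q)) g ≠ 1 := by
    intro g hg e
    rw [← map_one (QuotientGroup.mk' (Subgroup.center ↥(KG Q)))] at e
    obtain ⟨v, hv, hgv⟩ := (Fischer.norm_one_iff one_ne_zero _).1 hg
    obtain rfl : g = R v hv := Subtype.ext (refl_unique hgv (hR v hv))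
    have hc : R v hv ∈ Subgroup.center ↥(KG Q) := (QuotientGroup.eq_one_iff _).1 (e.trans (map_one _))
    obtain ⟨t, ht, ht0, htq⟩ := exists_singular (Q := Q) (U := orth Q (Submodule.span (ZMod 3) {v, v})) (by
      have := finrank_orth_pair hB v v
      omega)
    have htu := mem_orth_span.1 ht v (Set.mem_insert _ _)
    have hzq : Q (v + t) = 1 := by rw [q_add, hv, htq, htu]; ring
    rcases (hcomm v (v + t) hv hzq).1 (Subgroup.mem_center_iff.1 hc _).symm with hb | ⟨c, hc'⟩
    · rw [b_add_right, b_self, hv, htu, add_zero, mul_one] at hb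
      exact f3_two hb
    · have h1 := congrArg (B v) hc'
      rw [b_smul_right, b_add_right, b_self, hv, htu, add_zero, mul_eq_right₀ (by simpa using f3_two)] at h1
      rw [h1, one_smul, add_eq_left] at hc'
      exact ht0 hc'
  let T : (ι → ZMod 3) → HG Q := fun v => if h : Q v = 1 then QuotientGroup.mk (R v h) else 1
  have hT : ∀ v (h : Q v = 1), T v = QuotientGroup.mk (R v h) := fun v h => dif_pos h
  have hcls' : IsThreeTranspositionClass (EG Q) :=
    class_image (QuotientGroup.mk' _) (QuotientGroup.mk'_surjective _) hcls hne1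
  refine ⟨T, ⟨class_isGroup hcls', hcls', center_quot_eq_bot hB hn'⟩, fun v hv => ?_, ?_, fun u v hu hv => ?_,
    fun u v hu hv => ?_, fun u v hu hv => ?_⟩
  · rw [hT v hv]; exact ⟨_, hRD v hv, rfl⟩
  · rintro _ ⟨g, hg, rfl⟩
    obtain ⟨v, hv, hgv⟩ := (Fischer.norm_one_iff one_ne_zero _).1 hg
    exact ⟨v, hv, by rw [hT v hv, show g = R v hv from Subtype.ext (refl_unique hgv (hR v hv))]⟩
  · rw [hT u hu, hT v hv, hT _ (refl_norm hu hv), ← QuotientGroup.mk_mul, ← QuotientGroup.mk_mul, hflip]
  · rw [hT u hu, hT v hv]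
    exact ⟨hinj u v hu hv, fun h => congrArg QuotientGroup.mk (hscal u v hu hv h)⟩
  · rw [hT u hu, hT v hv, ← hcomm u v hu hv]
    refine ⟨fun h => ?_, fun h => h.map (QuotientGroup.mk' _)⟩
    rcases eq_or_commute_of_map_commute (QuotientGroup.mk' _) hcls.1 (hRD u hu) (hRD v hv) h with e | e
    · exact (hcomm u v hu hv).2 (Or.inr (hinj u v hu hv e))
    · exact e

end CfsgLib.FischerClass
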