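import Cfsg.Agent.Lib.FischerClass.SympShape
import Cfsg.Agent.Lib.Fischer.OrthTwoClass

/-!
The orthogonal groups over the field of two elements from their coordinates at a transvection.
-/

set_option autoImplicit false
set_option linter.style.haveILetI false
set_option linter.unusedSectionVars false

namespace CfsgLib.FischerClass

open Cfsg CfsgLib.Orth
open CfsgLib.ThreeTransp CfsgLib.ThreeTransp.Relations

/-- A quadratic space split as an anisotropic plane and a space with the given form. -/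
structure Emb {ι : Type} [Fintype ι] [DecidableEq ι] (Q : QuadraticForm (ZMod 2) (ι → ZMod 2)) {m : ℕ}
    (c : SV m) where
  δ : ι → ZMod 2
  α : ι → ZMod 2
  L : SV m →ₗ[ZMod 2] (ι → ZMod 2)
  qδ : Q δ = 1
  qα : Q α = 1
  δα : QuadraticMap.polar (DFunLike.coe Q) δ α = 1
  δL : ∀ v, QuadraticMap.polar (DFunLike.coe Q) δ (L v) = 0
  αL : ∀ v, QuadraticMap.polar (DFunLike.coe Q) α (L v) = 0
  qL : ∀ v, Q (L v) = qf c v
  surj : ∀ x, ∃ (s t : ZMod 2) (v : SV m), x = s • δ + t • α + L v

variable {ι : Type} [Fintype ι] [DecidableEq ι] {Q : QuadraticForm (ZMod 2) (ι → ZMod 2)}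

local notation "B" => QuadraticMap.polar (DFunLike.coe Q)

theorem refl_vec (hB : Nondeg Q) {v w : ι → ZMod 2} {g : Grp Q} (hv : Q v = 1) (hg : IsRefl v g)
    (hh : IsRefl w g) : v = w := by
  obtain ⟨y, hy⟩ : ∃ y, B v y ≠ 0 := by
    by_contra h
    push Not at h
    rw [hB v h, QuadraticMap.map_zero] at hv
    exact zero_ne_one hv
  have e := Fischer.refl_apply_two hg y
  rw [Fischer.refl_apply_two hh y, add_right_inj, (two_cases _).resolve_left hy, one_smul] at e
  rcases two_cases (B w y) with h | h <;> rw [h] at e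
  · rw [zero_smul] at e
    rw [← e, QuadraticMap.map_zero] at hv
    exact absurd hv zero_ne_one
  · rw [one_smul] at e; exact e.symm

variable {m : ℕ} {c : SV m} (M : Emb Q c)
include M

/-- The vector of norm one over a symplectic vector. -/
def Emb.lift (v : SV m) : ι → ZMod 2 := M.L v + (1 + qf c v) • M.δ

theorem Emb.bL (u v : SV m) : B (M.L u) (M.L v) = sw u v := by
  show Q (M.L u + M.L v) - Q (M.L u) - Q (M.L v) = _
  rw [← map_add, M.qL, M.qL, M.qL, qf_add]
  ring

theorem Emb.bδδ : B M.δ M.δ = 0 := by rw [b_self, M.qδ]; rfl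

theorem Emb.bαα : B M.α M.α = 0 := by rw [b_self, M.qα]; rfl

theorem Emb.q_gen (s t : ZMod 2) (v : SV m) :
    Q (s • M.δ + t • M.α + M.L v) = s + t + s * t + qf c v := by
  rw [q_add, q_add, q_smul, q_smul, M.qδ, M.qα, M.qL, b_smul_left, b_smul_right, M.δα, b_add_left, b_smul_left,
    b_smul_left, M.δL, M.αL]
  simp only [mul_zero, add_zero, mul_one]
  revert s t
  generalize qf c v = z
  revert z
  decide

theorem Emb.bδ_gen (s t : ZMod 2) (v : SV m) : B M.δ (s • M.δ + t • M.α + M.L v) = t := by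
  rw [b_add_right, b_add_right, b_smul_right, b_smul_right, M.bδδ, M.δα, M.δL]; ring

theorem Emb.q_lift (v : SV m) : Q (M.lift v) = 1 := by
  rw [Emb.lift, q_add, q_smul, M.qδ, M.qL, b_smul_right, b_comm, M.δL]
  generalize qf c v = z
  revert z
  decide

theorem Emb.bδ_lift (v : SV m) : B M.δ (M.lift v) = 0 := by
  rw [Emb.lift, b_add_right, b_smul_right, M.δL, M.bδδ]; ring

theorem Emb.bα_lift (v : SV m) : B M.α (M.lift v) = 1 + qf c v := by
  rw [Emb.lift, b_add_right, b_smul_right, M.αL, b_comm M.α M.δ, M.δα]; ring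

theorem Emb.b_lift (u v : SV m) : B (M.lift u) (M.lift v) = sw u v := by
  rw [Emb.lift, Emb.lift, b_add_left, b_add_right, b_add_right, M.bL, b_smul_left, b_smul_right, b_smul_right,
    b_smul_left, M.δL, b_comm (M.L u) M.δ, M.δL, M.bδδ]
  ring

theorem Emb.L_inj : Function.Injective M.L := fun u v h => by
  have : ∀ z, sw z (u + v) = 0 := fun z => by
    rw [sw_add_right, ← M.bL, ← M.bL, h]
    exact (by decide : ∀ y : ZMod 2, y + y = 0) _
  rw [← add_two u v, sw_nondeg this, add_zero]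

theorem Emb.lift_inj : Function.Injective M.lift := fun u v h => by
  have hb : ∀ z, sw z (u + v) = 0 := fun z => by
    rw [sw_add_right, ← M.b_lift, ← M.b_lift, h]
    exact (by decide : ∀ y : ZMod 2, y + y = 0) _
  rw [← add_two u v, sw_nondeg hb, add_zero]

theorem Emb.lift_ne_δ {v : SV m} (hv : v ≠ 0) : M.lift v ≠ M.δ := fun e => by
  obtain ⟨z, -, hz⟩ := adjust (s := ∅) (v := v) (by simpa using hv) 0 1
  have h1 := M.b_lift z v
  rw [e, b_comm, M.bδ_lift, hz] at h1
  exact zero_ne_one h1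

/-- A vector fixed by all transvections in vectors of norm one: the centre is trivial. -/
theorem Emb.center (hB : Nondeg Q)
    (hgen : Subgroup.closure {g : Grp Q | ∃ v, Q v = 1 ∧ IsRefl v g} = ⊤) :
    Subgroup.center (Grp Q) = ⊥ := by
  refine (Subgroup.eq_bot_iff_forall _).2 fun g hg => ext_ap fun x => ?_
  have hfix : ∀ v, Q v = 1 → ap g v = v := by
    intro v hv
    obtain ⟨r, hr⟩ := exists_refl hB (show Q v ≠ 0 by rw [hv]; exact one_ne_zero)
    have h := refl_conj hr g
    rw [show g * r * g⁻¹ = r by rw [← Subgroup.mem_center_iff.1 hg r, mul_inv_cancel_right]] at h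
    exact refl_vec hB (by rw [ap_q, hv]) h hr
  have hL : ∀ v, ap g (M.L v) = M.L v := fun v => by
    have h := hfix _ (M.q_lift v)
    rw [Emb.lift, ap_add, ap_smul, hfix _ M.qδ] at h
    exact add_right_cancel h
  obtain ⟨s, t, v, rfl⟩ := M.surj x
  rw [ap_one, ap_add, ap_add, ap_smul, ap_smul, hfix _ M.qδ, hfix _ M.qα, hL]

variable {G : Type*} [Group G] [Finite G] {D : Set G} {f : SP m → G} {d a : G}

/-- The group is the orthogonal group. -/
theorem Emb.recog (X : Ctx D) (hB : Nondeg Q) (hn : 6 ≤ Module.finrank (ZMod 2) (ι → ZMod 2))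
    (C : Co D d pop f) (hd : d ∈ D) (ha : a ∈ D) (hda : ¬ Commute d a)
    (hS : ∀ p : SP m, p ∈ Sc f a ↔ qf c p.1 = 1) {e : SP m} (he : e ∈ Sc f a)
    (conn : ∀ p ∈ Sc f a, Relation.ReflTransGen (Link pop (Sc f a)) p e)
    (hperp : ∀ u : SV m, u ≠ 0 → qf c u = 0 → ∃ p, p ≠ 0 ∧ p ≠ u ∧ qf c p = 0 ∧ sw p u = 0) :
    ∃ φ : G ≃* Grp Q, φ '' D =
      {g : Grp Q | (((g : GL ι (ZMod 2)) : Matrix ι ι (ZMod 2)) - 1).rank = 1} := by
  have hcls := Fischer.orth_class hB hn
  simp only [Fischer.rank_one_iff hB] at hcls ⊢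
  set E : Set (Grp Q) := {g | ∃ v, Q v = 1 ∧ IsRefl v g}
  have hE : IsThreeTranspositionGroup E := ThreeTransp.class_isGroup hcls
  have Y : Base E := ⟨hE, hcls, M.center hB hcls.2.2⟩
  choose R hR using fun (v : ι → ZMod 2) (h : Q v ≠ 0) => exists_refl hB h
  let T : (ι → ZMod 2) → Grp Q := fun v => if h : Q v ≠ 0 then R v h else 1
  have hT : ∀ v, Q v = 1 → IsRefl v (T v) := fun v h => by
    have h' : Q v ≠ 0 := by rw [h]; exact one_ne_zero
    simp only [T, dif_pos h']; exact hR v h'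
  have hTE : ∀ v, Q v = 1 → T v ∈ E := fun v h => ⟨v, h, hT v h⟩
  have hTflip : ∀ v w, Q v = 1 → Q w = 1 → T v * T w * T v = T (w + B v w • v) := by
    intro v w hv hw
    have h := refl_conj (hT w hw) (T v)
    rw [refl_inv (hT v hv), Fischer.refl_apply_two (hT v hv)] at h
    refine refl_unique h (hT _ ?_)
    rw [← Fischer.refl_apply_two (hT v hv), ap_q, hw]
  have hTinj : ∀ v w, Q v = 1 → Q w = 1 → T v = T w → v = w := fun v w hv hw e =>
    refl_vec hB hv (hT v hv) (e ▸ hT w hw)
  have hTcomm : ∀ v w, Q v = 1 → Q w = 1 → (Commute (T v) (T w) ↔ B v w = 0) := by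
    intro v w hv hw
    have hsq : T v * T v = 1 := refl_mul_self (hT v hv)
    constructor
    · intro h
      have h1 : T v * T w * T v = T w := by rw [h.eq, mul_assoc, hsq, mul_one]
      rw [hTflip v w hv hw] at h1
      have hq : Q (w + B v w • v) = 1 := by rw [← Fischer.refl_apply_two (hT v hv), ap_q, hw]
      have h2 := hTinj _ _ hq hw h1
      rw [add_eq_left, smul_eq_zero] at h2
      refine h2.resolve_right fun e => ?_
      rw [e, QuadraticMap.map_zero] at hv
      exact zero_ne_one hv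
    · intro h
      have h1 := hTflip v w hv hw
      rw [h, zero_smul, add_zero] at h1
      show T v * T w = T w * T v
      calc T v * T w = T v * T w * (T v * T v) := by rw [hsq, mul_one]
        _ = T w * T v := by rw [← mul_assoc, h1]
  set f' : SP m → Grp Q := fun p => T (M.lift p.1)
  have C' : Co E (T M.δ) pop f' := by
    refine ⟨fun p q h => Subtype.ext (M.lift_inj (hTinj _ _ (M.q_lift _) (M.q_lift _) h)), ?_, fun p q => ?_⟩
    · ext y
      constructor
      · rintro ⟨p, rfl⟩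
        exact ⟨hTE _ (M.q_lift _), fun h => M.lift_ne_δ p.2 (hTinj _ _ (M.q_lift _) M.qδ h),
          (hTcomm _ _ M.qδ (M.q_lift _)).2 (M.bδ_lift _)⟩
      · rintro ⟨⟨x, hx, hy⟩, hne, hc⟩
        obtain rfl := refl_unique hy (hT x hx)
        have hb := (hTcomm _ _ M.qδ hx).1 hc
        obtain ⟨s, t, v, rfl⟩ := M.surj x
        rw [M.bδ_gen] at hb
        subst hb
        rw [M.q_gen] at hx
        have hs : s = 1 + qf c v := by
          exact (by decide : ∀ s z : ZMod 2, s + 0 + s * 0 + z = 1 → s = 1 + z) _ _ hx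
        have hv : v ≠ 0 := fun hv => hne (by
          rw [hv, map_zero, add_zero, zero_smul, add_zero, hs, hv, qf_zero, add_zero, one_smul])
        refine ⟨⟨v, hv⟩, congrArg T ?_⟩
        show M.lift v = _
        rw [Emb.lift, hs, zero_smul, add_zero, add_comm]
    · show T (M.lift (pop p q).1) = T (M.lift p.1) * T (M.lift q.1) * T (M.lift p.1)
      rw [hTflip _ _ (M.q_lift _) (M.q_lift _), M.b_lift]
      refine congrArg T ?_
      rw [pop_val, sw_comm p.1 q.1]
      rcases two_cases (sw p.1 q.1) with h | h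
      · simp [h]
      · rw [h, one_smul, one_smul, Emb.lift, Emb.lift, Emb.lift, qf_add, sw_comm, h, map_add]
        rw [(by decide : ∀ x y : ZMod 2, (1 : ZMod 2) + (x + y + 1) = (1 + x) + (1 + y)), add_smul]
        abel
  have hda' : ¬ Commute (T M.δ) (T M.α) := fun h => one_ne_zero (M.δα.symm.trans ((hTcomm _ _ M.qδ M.qα).1 h))
  have hSc : Sc f a = Sc f' (T M.α) := by
    ext p
    refine (hS p).trans ?_
    show _ ↔ Commute (T M.α) (T (M.lift p.1))
    rw [hTcomm _ _ M.qα (M.q_lift _), M.bα_lift]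
    exact (by decide : ∀ z : ZMod 2, z = 1 ↔ 1 + z = 0) _
  refine X.exists_match Y space extends_symp hd ha hda C (hTE _ M.qδ) (hTE _ M.qα) hda' C' hSc he conn ?_
  rintro w ⟨x, hx, hw⟩ hnc
  obtain rfl := refl_unique hw (hT x hx)
  obtain ⟨s, t, u, rfl⟩ := M.surj x
  have ht : t = 1 := by
    by_contra ht
    exact hnc ((hTcomm _ _ M.qδ hx).2 (by rw [M.bδ_gen]; exact (two_cases t).resolve_right ht))
  subst ht
  have hu : qf c u = 0 := by
    rw [M.q_gen] at hx
    exact (by decide : ∀ s z : ZMod 2, s + 1 + s * 1 + z = 1 → z = 0) _ _ hx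
  have hrefl : ∀ p, qf c p = 0 → M.lift p = M.L p + M.δ := fun p hp => by
    rw [Emb.lift, hp, add_zero, one_smul]
  have hone : ∀ p, qf c p = 0 → T (M.lift p) * T M.α * T (M.lift p) = T (M.α + M.L p + M.δ) := fun p hp => by
    rw [hTflip _ _ (M.q_lift _) M.qα, b_comm, M.bα_lift, hp, add_zero, one_smul, hrefl p hp, add_assoc]
  by_cases hu0 : u = 0
  · subst hu0
    rcases two_cases s with rfl | rfl
    · exact Or.inl (by rw [zero_smul, zero_add, one_smul, map_zero, add_zero])
    · refine Or.inr (Or.inl ?_)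
      rw [hTflip _ _ M.qδ M.qα, M.δα, one_smul, one_smul, map_zero, add_zero, add_comm]
  rcases two_cases s with rfl | rfl
  · obtain ⟨p, hp0, hpu, hp, hpu'⟩ := hperp u hu0 hu
    have ht0 : u + p ≠ 0 := fun e => hpu (by rw [← add_two u p, e, add_zero])
    have htq : qf c (u + p) = 0 := by rw [qf_add, hu, hp, sw_comm, hpu']; rfl
    refine Or.inr (Or.inr (Or.inr ⟨⟨p, hp0⟩, ⟨u + p, ht0⟩, ?_⟩))
    show _ = T (M.lift (u + p)) * (T (M.lift p) * T M.α * T (M.lift p)) * T (M.lift (u + p))
    have hqv : Q (M.α + M.L p + M.δ) = 1 := by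
      rw [show M.α + M.L p + M.δ = (1 : ZMod 2) • M.δ + (1 : ZMod 2) • M.α + M.L p by
        rw [one_smul, one_smul]; abel, M.q_gen, hp]
      rfl
    rw [hone p hp, hTflip _ _ (M.q_lift _) hqv]
    refine congrArg T ?_
    rw [b_add_right, b_add_right, b_comm (M.lift (u + p)) M.α, M.bα_lift, htq,
      b_comm (M.lift (u + p)) M.δ, M.bδ_lift, hrefl _ htq, b_add_left, M.bL, M.δL, sw_add_left, sw_comm p u,
      hpu', sw_self]
    simp only [add_zero, zero_add, one_smul, map_add, zero_smul]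
    rw [show M.α + M.L p + M.δ + (M.L u + M.L p + M.δ) =
      M.α + M.L u + (M.L p + M.L p) + (M.δ + M.δ) by abel]
    have h2 : ∀ y : ι → ZMod 2, y + y = 0 := Fischer.two_add_self
    rw [h2, h2, add_zero, add_zero]
  · refine Or.inr (Or.inr (Or.inl ⟨⟨u, hu0⟩, ?_⟩))
    show _ = T (M.lift u) * T M.α * T (M.lift u)
    rw [hone u hu, one_smul, one_smul]
    exact congrArg T (by abel)

end CfsgLib.FischerClass
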