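import Cfsg.Agent.Lib.FischerClass.Coords
import Cfsg.Agent.Lib.Fischer.OrthTwoClass

/-!
The orthogonal groups over the field of two elements in dimension at least eight are no neighbourhoods.
-/

set_option autoImplicit false
set_option linter.style.haveILetI false
set_option linter.unusedSectionVars false

namespace CfsgLib.FischerClass

open Cfsg CfsgLib.Orth
open CfsgLib.ThreeTransp CfsgLib.ThreeTransp.Relations

/-- The vectors of norm one. -/
abbrev OV {ι : Type} [Fintype ι] [DecidableEq ι] (Q : QuadraticForm (ZMod 2) (ι → ZMod 2)) : Type :=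
  {v : ι → ZMod 2 // Q v = 1}

variable {ι : Type} [Fintype ι] [DecidableEq ι] {Q : QuadraticForm (ZMod 2) (ι → ZMod 2)}

local notation "B" => QuadraticMap.polar (DFunLike.coe Q)

/-- The transvection at the first point applied to the second. -/
def oop (p q : OV Q) : OV Q :=
  ⟨q.1 + B p.1 q.1 • p.1, by
    rw [q_add, q_smul, b_smul_right, p.2, q.2, b_comm q.1 p.1]
    exact (by decide : ∀ x : ZMod 2, 1 + x * x * 1 + x * x = 1) _⟩

theorem oop_eq_iff (p q : OV Q) : oop p q = q ↔ B p.1 q.1 = 0 := by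
  have hp : p.1 ≠ 0 := fun e => by
    have := p.2
    rw [e, QuadraticMap.map_zero] at this
    exact zero_ne_one this
  rw [Subtype.ext_iff]
  show q.1 + B p.1 q.1 • p.1 = q.1 ↔ _
  rw [add_eq_left, smul_eq_zero, or_iff_left hp]

theorem zmod_two (x : ZMod 2) : x = 0 ∨ x = 1 := by revert x; decide

theorem b_self_two (x : ι → ZMod 2) : B x x = 0 := by
  rw [b_self, show (2 : ZMod 2) = 0 from rfl, zero_mul]

/-- A vector orthogonal to some and outside the span of others. -/
theorem exists_orth_out (s t : Finset (ι → ZMod 2)) (h : s.card + t.card < Fintype.card ι) :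
    ∃ w, (∀ x ∈ s, B w x = 0) ∧ w ∉ Submodule.span (ZMod 2) (t : Set (ι → ZMod 2)) := by
  by_contra hc
  push Not at hc
  let L : (ι → ZMod 2) →ₗ[ZMod 2] (↥s → ZMod 2) :=
    { toFun := fun w x => B w x.1
      map_add' := fun u v => funext fun x => b_add_left _ _ _
      map_smul' := fun c v => funext fun x => b_smul_left _ _ _ }
  have hker : LinearMap.ker L ≤ Submodule.span (ZMod 2) (t : Set (ι → ZMod 2)) := fun w hw =>
    hc w fun x hx => congrFun (LinearMap.mem_ker.1 hw) ⟨x, hx⟩
  have h1 := L.finrank_range_add_finrank_ker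
  have h2 : Module.finrank (ZMod 2) (LinearMap.range L) ≤ s.card := by
    refine (Submodule.finrank_le _).trans ?_
    rw [Module.finrank_fintype_fun_eq_card, Fintype.card_coe]
  have h3 := (Submodule.finrank_mono hker).trans (finrank_span_finset_le_card (R := ZMod 2) t)
  rw [Module.finrank_fintype_fun_eq_card] at h1
  omega

variable {G : Type*} [Group G] [Finite G] {D : Set G} {f : OV Q → G} {d a : G}

/-- Next to a common neighbour the others are cut out by a functional. -/
theorem orth_section (hB : Nondeg Q) (X : Ctx D) (C : Co D d oop f) (hd : d ∈ D) (ha : a ∈ D)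
    (hda : ¬ Commute d a) {e : OV Q} (he : e ∈ Sc f a) :
    ∃ l : (ι → ZMod 2) → ZMod 2, (∀ u v, B e.1 u = 0 → B e.1 v = 0 → l (u + v) = l u + l v) ∧
      l e.1 = 1 ∧ ∀ q : OV Q, q ≠ e → B e.1 q.1 = 0 → (q ∈ Sc f a ↔ l q.1 = 0) := by
  classical
  obtain ⟨V⟩ := exists_view X.base C hd ha hda he
  have hnb : ∀ {p q : OV Q}, q ∈ Nb oop p ↔ q ≠ p ∧ B p.1 q.1 = 0 := fun {p q} => by
    show q ≠ p ∧ _ ↔ _
    rw [oop_eq_iff]
  have hform : ∀ r ∈ Nb oop V.A, ∀ s ∈ Nb oop V.A, B (V.τ r).1 (V.τ s).1 = B r.1 s.1 := by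
    intro r hr s hs
    obtain ⟨h1, h2⟩ := V.τ_op X.hS C hr hs
    have h : oop (V.τ r) (V.τ s) = V.τ s ↔ oop r s = s := by
      rw [← h2]
      exact ⟨fun h => V.bij.injOn h1 hs h, congrArg V.τ⟩
    rw [oop_eq_iff, oop_eq_iff] at h
    rcases zmod_two (B (V.τ r).1 (V.τ s).1) with h3 | h3 <;> rcases zmod_two (B r.1 s.1) with h4 | h4 <;>
      rw [h3, h4] at h ⊢
    · exact absurd (h.1 rfl) one_ne_zero
    · exact absurd (h.2 rfl) one_ne_zero
  -- the isometry of the perps
  have qA : Q V.A.1 = 1 := V.A.2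
  have qe : Q e.1 = 1 := e.2
  have hlift : ∀ x, B V.A.1 x = 0 → x ≠ 0 → x ≠ V.A.1 →
      ∃ r ∈ Nb oop V.A, r.1 = x + (1 + Q x) • V.A.1 := by
    intro x hx h0 hA
    refine ⟨⟨x + (1 + Q x) • V.A.1, ?_⟩, hnb.2 ⟨fun e' => ?_, ?_⟩, rfl⟩
    · rw [q_add, q_smul, b_smul_right, qA, b_comm x V.A.1, hx]
      generalize Q x = z; revert z; decide
    · have h' : x + (1 + Q x) • V.A.1 = V.A.1 := congrArg Subtype.val e'
      rcases zmod_two (Q x) with h | h <;> rw [h] at h'
      · rw [add_zero, one_smul] at h'; exact h0 (add_eq_right.1 h')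
      · rw [show (1 : ZMod 2) + 1 = 0 from rfl, zero_smul, add_zero] at h'; exact hA h'
    · show B V.A.1 (x + (1 + Q x) • V.A.1) = 0
      rw [b_add_right, b_smul_right, hx, b_self_two, mul_zero, add_zero]
  let φ : (ι → ZMod 2) → (ι → ZMod 2) := fun x =>
    if h : B V.A.1 x = 0 ∧ x ≠ 0 ∧ x ≠ V.A.1 then
      (V.τ (hlift x h.1 h.2.1 h.2.2).choose).1 + (1 + Q x) • e.1
    else if x = V.A.1 then e.1 else 0
  have φτ : ∀ x, B V.A.1 x = 0 → x ≠ 0 → x ≠ V.A.1 → ∀ r ∈ Nb oop V.A, r.1 = x + (1 + Q x) • V.A.1 →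
      φ x = (V.τ r).1 + (1 + Q x) • e.1 := by
    intro x h1 h2 h3 r _ hr
    simp only [φ, dif_pos (And.intro h1 (And.intro h2 h3))]
    rw [show (hlift x h1 h2 h3).choose = r from Subtype.ext ((hlift x h1 h2 h3).choose_spec.2.trans hr.symm)]
  have φA : φ V.A.1 = e.1 := by simp [φ]
  have φ0 : φ 0 = 0 := by
    have : (0 : ι → ZMod 2) ≠ V.A.1 := fun h =>
      zero_ne_one ((QuadraticMap.map_zero Q).symm.trans ((congrArg Q h).trans qA))
    simp [φ, this]
  have hmem : ∀ x, B V.A.1 x = 0 → B e.1 (φ x) = 0 ∧ Q (φ x) = Q x ∧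
      ∀ s ∈ Nb oop V.A, B (φ x) (V.τ s).1 = B x s.1 := by
    intro x hx
    have he0 : ∀ s ∈ Nb oop V.A, B e.1 (V.τ s).1 = 0 := fun s hs => (hnb.1 (V.bij.mapsTo hs)).2
    by_cases h0 : x = 0
    · subst h0
      rw [φ0]
      exact ⟨QuadraticMap.polar_zero_right Q _, rfl, fun s _ => by
        rw [QuadraticMap.polar_zero_left, QuadraticMap.polar_zero_left]⟩
    by_cases hA : x = V.A.1
    · subst hA
      rw [φA]
      exact ⟨b_self_two _, qe.trans qA.symm, fun s hs => (he0 s hs).trans (hnb.1 hs).2.symm⟩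
    obtain ⟨r, hr, hr'⟩ := hlift x hx h0 hA
    rw [φτ x hx h0 hA r hr hr']
    refine ⟨?_, ?_, fun s hs => ?_⟩
    · rw [b_add_right, b_smul_right, he0 r hr, b_self_two, mul_zero, add_zero]
    · rw [q_add, q_smul, b_smul_right, b_comm, he0 r hr, (V.τ r).2, qe]
      generalize Q x = z; revert z; decide
    · rw [b_add_left, b_smul_left, hform r hr s hs, he0 s hs, hr', b_add_left, b_smul_left, (hnb.1 hs).2]
      ring
  have φadd : ∀ x y, B V.A.1 x = 0 → B V.A.1 y = 0 → φ (x + y) = φ x + φ y := by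
    intro x y hx hy
    have hxy : B V.A.1 (x + y) = 0 := by rw [b_add_right, hx, hy, add_zero]
    obtain ⟨a1, a2, a3⟩ := hmem x hx
    obtain ⟨b1, b2, b3⟩ := hmem y hy
    obtain ⟨c1, c2, c3⟩ := hmem (x + y) hxy
    set z := φ (x + y) + (φ x + φ y)
    have hz : B e.1 z = 0 := by rw [b_add_right, b_add_right, a1, b1, c1, add_zero, add_zero]
    have hz' : ∀ s ∈ Nb oop V.A, B z (V.τ s).1 = 0 := fun s hs => by
      rw [b_add_left, b_add_left, a3 s hs, b3 s hs, c3 s hs, b_add_left]
      exact (by decide : ∀ u : ZMod 2, u + u = 0) _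
    -- `z` is orthogonal to the perp of the point
    have hall : ∀ w, B e.1 w = 0 → B z w = 0 := by
      intro w hw
      by_cases h0 : w = 0
      · rw [h0]; exact QuadraticMap.polar_zero_right Q _
      by_cases hwe : w = e.1
      · rw [hwe, b_comm]; exact hz
      rcases zmod_two (Q w) with hq | hq
      · have hq1 : Q (w + e.1) = 1 := by rw [q_add, hq, qe, b_comm, hw]; rfl
        have hne : (⟨w + e.1, hq1⟩ : OV Q) ≠ e := fun h' => h0 (add_eq_right.1 (congrArg Subtype.val h'))
        obtain ⟨s, hs, hs'⟩ := V.bij.surjOn (hnb.2 (⟨hne, by rw [b_add_right, hw, b_self_two, add_zero]⟩ :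
            (⟨w + e.1, hq1⟩ : OV Q) ≠ e ∧ B e.1 (w + e.1) = 0))
        have h1 := hz' s hs
        rw [hs'] at h1
        change B z (w + e.1) = 0 at h1
        rwa [b_add_right, b_comm z e.1, hz, add_zero] at h1
      · obtain ⟨s, hs, hs'⟩ := V.bij.surjOn (hnb.2 (⟨fun h' => hwe (congrArg Subtype.val h'), hw⟩ :
            (⟨w, hq⟩ : OV Q) ≠ e ∧ B e.1 w = 0))
        have h1 := hz' s hs
        rwa [hs'] at h1
    have hze : z = 0 ∨ z = e.1 := by
      by_cases hze : ∀ w, B z w = 0
      · exact Or.inl (hB z hze)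
      push Not at hze
      obtain ⟨w₀, hw₀⟩ := hze
      have hew : B e.1 w₀ = 1 := (zmod_two _).resolve_left fun h => hw₀ (hall w₀ h)
      refine Or.inr ?_
      have : z + e.1 = 0 := hB _ fun w => by
        rcases zmod_two (B e.1 w) with h | h
        · rw [b_add_left, hall w h, h, add_zero]
        · have h2 := hall (w + w₀) (by rw [b_add_right, h, hew]; rfl)
          rw [b_add_right, (zmod_two _).resolve_left hw₀] at h2
          rw [b_add_left, h]; exact h2
      rw [← add_zero e.1, ← this, ← add_assoc, add_comm e.1 z, add_assoc, Fischer.two_add_self, add_zero]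
    have hQz : Q z = 0 := by
      have hb : B (φ x) (φ y) = B x y := by
        by_cases h0 : y = 0
        · rw [h0, φ0, QuadraticMap.polar_zero_right, QuadraticMap.polar_zero_right]
        by_cases hA : y = V.A.1
        · rw [hA, φA, b_comm, a1, b_comm, hx]
        obtain ⟨s, hs, hs'⟩ := hlift y hy h0 hA
        rw [φτ y hy h0 hA s hs hs', b_add_right, b_smul_right, a3 s hs, hs', b_add_right, b_smul_right,
          b_comm (φ x) e.1, a1, b_comm x V.A.1, hx]
        ring
      have hbz : B (φ (x + y)) (φ x + φ y) = B (x + y) (x + y) := by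
        rcases hze with h | h
        all_goals
          have hsum : φ x + φ y = φ (x + y) + z := by
            show _ = φ (x + y) + (φ (x + y) + (φ x + φ y))
            rw [← add_assoc, Fischer.two_add_self, zero_add]
          rw [hsum, h, b_add_right, b_self_two, b_self_two]
        · rw [QuadraticMap.polar_zero_right, add_zero]
        · rw [b_comm, c1, add_zero]
      rw [q_add, c2, hbz, q_add (x := φ x), a2, b2, hb, q_add, b_self_two, add_zero]
      exact (by decide : ∀ u : ZMod 2, u + u = 0) _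
    rcases hze with h | h
    · calc φ (x + y) = φ (x + y) + z := by rw [h, add_zero]
        _ = φ x + φ y := by rw [← add_assoc, Fischer.two_add_self, zero_add]
    · rw [h, qe] at hQz; exact absurd hQz one_ne_zero
  have φsurj : ∀ v, B e.1 v = 0 → ∃ x, B V.A.1 x = 0 ∧ φ x = v := by
    intro v hv
    by_cases h0 : v = 0
    · exact ⟨0, QuadraticMap.polar_zero_right Q _, φ0.trans h0.symm⟩
    by_cases hve : v = e.1
    · exact ⟨V.A.1, b_self_two _, φA.trans hve.symm⟩
    have hq : Q (v + (1 + Q v) • e.1) = 1 := by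
      rw [q_add, q_smul, b_smul_right, b_comm, hv, qe]
      generalize Q v = z; revert z; decide
    have hne : (⟨v + (1 + Q v) • e.1, hq⟩ : OV Q) ≠ e := fun h' => by
      have h'' : v + (1 + Q v) • e.1 = e.1 := congrArg Subtype.val h'
      rcases zmod_two (Q v) with h | h <;> rw [h] at h''
      · rw [add_zero, one_smul] at h''; exact h0 (add_eq_right.1 h'')
      · rw [show (1 : ZMod 2) + 1 = 0 from rfl, zero_smul, add_zero] at h''; exact hve h''
    obtain ⟨s, hs, hs'⟩ := V.bij.surjOn (hnb.2 (⟨hne, by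
      rw [b_add_right, b_smul_right, hv, b_self_two, mul_zero, add_zero]⟩ :
      (⟨v + (1 + Q v) • e.1, hq⟩ : OV Q) ≠ e ∧ B e.1 (v + (1 + Q v) • e.1) = 0))
    refine ⟨s.1 + (1 + Q v) • V.A.1, ?_, ?_⟩
    · rw [b_add_right, b_smul_right, (hnb.1 hs).2, b_self_two, mul_zero, add_zero]
    · have hA0 : B V.A.1 ((1 + Q v) • V.A.1) = 0 := by rw [b_smul_right, b_self_two, mul_zero]
      have hsA := (hnb.1 hs).2
      have hs0 : s.1 ≠ 0 := fun h => by
        have := s.2; rw [h, QuadraticMap.map_zero] at this; exact zero_ne_one this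
      have e1 : φ s.1 = (V.τ s).1 := by
        rw [φτ s.1 hsA hs0 (fun h => (hnb.1 hs).1 (Subtype.ext h)) s hs (by
          rw [s.2, show (1 : ZMod 2) + 1 = 0 from rfl, zero_smul, add_zero]), s.2,
          show (1 : ZMod 2) + 1 = 0 from rfl, zero_smul, add_zero]
      have e2 : φ ((1 + Q v) • V.A.1) = (1 + Q v) • e.1 := by
        rcases zmod_two (1 + Q v) with h | h <;> rw [h]
        · rw [zero_smul, zero_smul, φ0]
        · rw [one_smul, one_smul, φA]
      rw [φadd _ _ hsA hA0, e1, hs', e2]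
      show v + (1 + Q v) • e.1 + (1 + Q v) • e.1 = v
      rw [add_assoc, Fischer.two_add_self, add_zero]
  choose ψ hψ using φsurj
  let l : (ι → ZMod 2) → ZMod 2 := fun v => if h : B e.1 v = 0 then B (ψ v h) V.B.1 else 0
  have hAB : B V.A.1 V.B.1 = 1 := (zmod_two _).resolve_left fun h => V.noncomm ((oop_eq_iff _ _).2 h)
  have hinj : ∀ x y, B V.A.1 x = 0 → B V.A.1 y = 0 → φ x = φ y → x = y := by
    intro x y hx hy hxy
    by_contra hne
    have hd' : B V.A.1 (x + y) = 0 := by rw [b_add_right, hx, hy, add_zero]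
    have h := φadd x y hx hy
    rw [hxy, Fischer.two_add_self] at h
    obtain ⟨-, hq, hs⟩ := hmem _ hd'
    have h0 : x + y ≠ 0 := fun h0 => hne (by
      rw [← add_zero x, ← Fischer.two_add_self y, ← add_assoc, h0, zero_add])
    by_cases hA : x + y = V.A.1
    · rw [hA, φA] at h; rw [h, QuadraticMap.map_zero] at qe; exact zero_ne_one qe
    obtain ⟨r, hr, hr'⟩ := hlift _ hd' h0 hA
    rw [φτ _ hd' h0 hA r hr hr'] at h
    have := hnb.1 (V.bij.mapsTo hr)
    refine this.1 (Subtype.ext ?_)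
    rcases zmod_two (1 + Q (x + y)) with h2 | h2 <;> rw [h2] at h
    · rw [zero_smul, add_zero] at h
      have h3 := (V.τ r).2
      rw [h, QuadraticMap.map_zero] at h3
      exact absurd h3 zero_ne_one
    · rw [one_smul] at h
      rw [← add_zero (V.τ r).1, ← Fischer.two_add_self e.1, ← add_assoc, h, zero_add]
  have hl : ∀ x, B V.A.1 x = 0 → l (φ x) = B x V.B.1 := fun x hx => by
    have h1 := (hmem x hx).1
    simp only [l, dif_pos h1]
    rw [hinj _ x (hψ _ h1).1 hx (hψ _ h1).2]
  refine ⟨l, fun u v hu hv => ?_, ?_, fun q hne hq => ?_⟩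
  · obtain ⟨hxA, hx⟩ := hψ u hu
    obtain ⟨hyA, hy⟩ := hψ v hv
    rw [← hx, ← hy, ← φadd _ _ hxA hyA, hl _ (by rw [b_add_right, hxA, hyA, add_zero]), hl _ hxA, hl _ hyA,
      b_add_left]
  · rw [← φA, hl _ (b_self_two _), hAB]
  · obtain ⟨r, hr, rfl⟩ := V.bij.surjOn (hnb.2 ⟨hne, hq⟩)
    have hrA := (hnb.1 hr).2
    have hr0 : r.1 ≠ 0 := fun h => by
      have := r.2; rw [h, QuadraticMap.map_zero] at this; exact zero_ne_one this
    have e1 : φ r.1 = (V.τ r).1 := by
      rw [φτ r.1 hrA hr0 (fun h => (hnb.1 hr).1 (Subtype.ext h)) r hr (by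
        rw [r.2, show (1 : ZMod 2) + 1 = 0 from rfl, zero_smul, add_zero]), r.2,
        show (1 : ZMod 2) + 1 = 0 from rfl, zero_smul, add_zero]
    rw [V.mem_iff X.hS hr, oop_eq_iff, ← e1, hl _ hrA, b_comm]

/-- No primitive class has an orthogonal neighbourhood of dimension at least eight. -/
theorem orth_two_case (hB : Nondeg Q) (hn : 8 ≤ Fintype.card ι) (X : Ctx D) (C : Co D d oop f) (hd : d ∈ D)
    (ha : a ∈ D) (hda : ¬ Commute d a) : False := by
  obtain ⟨e, he⟩ := X.sc_nonempty C hd ha hda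
  obtain ⟨le, hle, hlee, hse⟩ := orth_section hB X C hd ha hda he
  have card_le : ∀ (u v : ι → ZMod 2), ({u, v} : Finset (ι → ZMod 2)).card ≤ 2 := fun u v => Finset.card_le_two
  have card_le3 : ∀ (u v w : ι → ZMod 2), ({u, v, w} : Finset (ι → ZMod 2)).card ≤ 3 := fun u v w =>
    Finset.card_le_three
  -- a common neighbour next to the first
  obtain ⟨x0, hx0, hx0s⟩ := exists_orth_out ({e.1} : Finset _) ({e.1} : Finset _) (by simp; omega)
  have hx0e : B e.1 x0 = 0 := by rw [b_comm]; exact hx0 _ (Finset.mem_singleton_self _)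
  obtain ⟨y0, hy0, hy0s⟩ := exists_orth_out ({e.1, x0} : Finset _) ({e.1, x0} : Finset _)
    (by have := card_le e.1 x0; omega)
  have hy0e : B e.1 y0 = 0 := by rw [b_comm]; exact hy0 _ (Finset.mem_insert_self _ _)
  obtain ⟨f0, hf0e, hf0s, hf0l⟩ : ∃ w, B e.1 w = 0 ∧ w ∉ Submodule.span (ZMod 2) {e.1} ∧ le w = Q w + 1 := by
    by_contra hc
    push Not at hc
    have key : ∀ w, B e.1 w = 0 → w ∉ Submodule.span (ZMod 2) {e.1} → le w = Q w := fun w h1 h2 =>
      (by decide : ∀ x y : ZMod 2, x ≠ y + 1 → x = y) _ _ (hc w h1 h2)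
    have sx : x0 ∉ Submodule.span (ZMod 2) {e.1} := by simpa using hx0s
    have sy : y0 ∉ Submodule.span (ZMod 2) {e.1} := fun h =>
      hy0s (Submodule.span_mono (by simp) h)
    have sxy : x0 + y0 ∉ Submodule.span (ZMod 2) {e.1} := fun h => hy0s (by
      have h' : x0 + y0 + x0 ∈ Submodule.span (ZMod 2) (({e.1, x0} : Finset (ι → ZMod 2)) : Set (ι → ZMod 2)) :=
        Submodule.add_mem _ (Submodule.span_mono (by simp) h) (Submodule.subset_span (by simp))
      rwa [add_comm x0 y0, add_assoc, Fischer.two_add_self, add_zero] at h')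
    -- the form would be additive there
    have h1 := hle x0 y0 hx0e hy0e
    rw [key _ hx0e sx, key _ hy0e sy, key _ (by rw [b_add_right, hx0e, hy0e, add_zero]) sxy, q_add,
      add_eq_left] at h1
    obtain ⟨z, hz, hzs⟩ := exists_orth_out ({e.1} : Finset _) ({e.1, x0, y0} : Finset _)
      (by have := card_le3 e.1 x0 y0; simp; omega)
    have hze : B e.1 z = 0 := by rw [b_comm]; exact hz _ (Finset.mem_singleton_self _)
    by_cases hall : ∀ w, B e.1 w = 0 → B x0 w = 0
    · obtain ⟨w, hw⟩ : ∃ w, B x0 w ≠ 0 := by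
        by_contra h'
        push Not at h'
        exact sx (hB x0 h' ▸ Submodule.zero_mem _)
      have hw1 : B e.1 w = 1 := (zmod_two _).resolve_left fun h => hw (hall w h)
      have : x0 + e.1 = 0 := hB _ fun v => by
        rcases zmod_two (B e.1 v) with h | h
        · rw [b_add_left, hall v h, h, add_zero]
        · have h2 := hall (v + w) (by rw [b_add_right, h, hw1]; rfl)
          rw [b_add_right, (zmod_two _).resolve_left hw] at h2
          rw [b_add_left, h]; exact h2
      refine sx ?_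
      rw [show x0 = e.1 by
        rw [← add_zero x0, ← Fischer.two_add_self e.1, ← add_assoc, this, zero_add]]
      exact Submodule.subset_span rfl
    · push Not at hall
      obtain ⟨w, hwe, hwx⟩ := hall
      have hwx1 : B x0 w = 1 := (zmod_two _).resolve_left hwx
      have sw : w ∉ Submodule.span (ZMod 2) {e.1} := fun h => by
        obtain ⟨k, hk⟩ := Submodule.mem_span_singleton.1 h
        rw [← hk, b_smul_right, b_comm x0 e.1, hx0e, mul_zero] at hwx1
        exact zero_ne_one hwx1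
      have sxw : x0 + w ∉ Submodule.span (ZMod 2) {e.1} := fun h => by
        obtain ⟨k, hk⟩ := Submodule.mem_span_singleton.1 h
        have := congrArg (fun v => B x0 v) hk
        rw [b_smul_right, b_add_right, b_self_two, hwx1, b_comm x0 e.1, hx0e, mul_zero, zero_add] at this
        exact zero_ne_one this
      have h2 := hle x0 w hx0e hwe
      rw [key _ hx0e sx, key _ hwe sw, key _ (by rw [b_add_right, hx0e, hwe, add_zero]) sxw, q_add,
        hwx1] at h2
      exact one_ne_zero (add_eq_left.1 h2)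
  -- adjust it to a point
  obtain ⟨g, hge, hgne, hgl⟩ : ∃ g : OV Q, B e.1 g.1 = 0 ∧ g.1 ∉ Submodule.span (ZMod 2) {e.1} ∧ le g.1 = 0 := by
    refine ⟨⟨f0 + (1 + Q f0) • e.1, ?_⟩, ?_, ?_, ?_⟩
    · rw [q_add, q_smul, b_smul_right, b_comm, hf0e, e.2]
      generalize Q f0 = z; revert z; decide
    · show B e.1 (f0 + _) = 0
      rw [b_add_right, b_smul_right, hf0e, b_self_two, mul_zero, add_zero]
    · intro h
      refine hf0s ?_
      have h' := Submodule.add_mem _ h (Submodule.smul_mem _ (1 + Q f0) (Submodule.subset_span (Set.mem_singleton e.1)))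
      rwa [add_assoc, Fischer.two_add_self, add_zero] at h'
    · show le (f0 + (1 + Q f0) • e.1) = 0
      have he' : le ((1 + Q f0) • e.1) = 1 + Q f0 := by
        rcases zmod_two (1 + Q f0) with h | h <;> rw [h]
        · rw [zero_smul]
          have := hle 0 0 (QuadraticMap.polar_zero_right Q _) (QuadraticMap.polar_zero_right Q _)
          rw [add_zero] at this
          exact add_eq_left.1 this.symm
        · rw [one_smul, hlee]
      rw [hle _ _ hf0e (by rw [b_smul_right, b_self_two, mul_zero]), hf0l, he']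
      generalize Q f0 = z; revert z; decide
  have hgne' : g ≠ e := fun h => hgne (h ▸ Submodule.subset_span rfl)
  have hg : g ∈ Sc f a := (hse g hgne' hge).2 hgl
  obtain ⟨lg, hlg, hlgg, hsg⟩ := orth_section hB X C hd ha hda hg
  -- the sum of the two functionals
  set L : (ι → ZMod 2) → ZMod 2 := fun v => le v + lg v with hLdef
  have hL : ∀ u v, B e.1 u = 0 → B g.1 u = 0 → B e.1 v = 0 → B g.1 v = 0 → L (u + v) = L u + L v := by
    intro u v h1 h2 h3 h4
    simp only [L, hle u v h1 h3, hlg u v h2 h4]; ring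
  have hLpt : ∀ v, B e.1 v = 0 → B g.1 v = 0 → Q v = 1 → v ≠ e.1 → v ≠ g.1 → L v = 0 := by
    intro v h1 h2 h3 h4 h5
    have a1 := hse ⟨v, h3⟩ (fun h => h4 (congrArg Subtype.val h)) h1
    have a2 := hsg ⟨v, h3⟩ (fun h => h5 (congrArg Subtype.val h)) h2
    have a3 : le v = 0 ↔ lg v = 0 := a1.symm.trans a2
    simp only [L]
    rcases zmod_two (le v) with h | h <;> rcases zmod_two (lg v) with h' | h' <;> rw [h, h'] at a3 ⊢
    · rfl
    · exact absurd (a3.1 rfl) one_ne_zero
    · exact absurd (a3.2 rfl) one_ne_zero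
    · rfl
  have hLe : L e.1 = 1 := by
    have hge' : lg e.1 = 0 := (hsg e hgne'.symm (by rw [b_comm]; exact hge)).1 he
    simp only [L, hlee, hge', add_zero]
  set X2 := Submodule.span (ZMod 2) (({e.1, g.1} : Finset (ι → ZMod 2)) : Set (ι → ZMod 2))
  have heX : e.1 ∈ X2 := Submodule.subset_span (by simp)
  have hgX : g.1 ∈ X2 := Submodule.subset_span (by simp)
  -- singular vectors outside the span have value one
  have hsing : ∀ u, B e.1 u = 0 → B g.1 u = 0 → Q u = 0 → u ∉ X2 → L u = 1 := by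
    intro u h1 h2 h3 h4
    have h5 := hLpt (e.1 + u) (by rw [b_add_right, b_self_two, h1, add_zero])
      (by rw [b_add_right, b_comm g.1 e.1, hge, h2, add_zero])
      (by rw [q_add, e.2, h3, h1, add_zero, add_zero])
      (fun h => h4 (add_eq_left.1 h ▸ Submodule.zero_mem _))
      (fun h => h4 (by
        rw [show u = g.1 + e.1 by rw [← h, add_comm e.1 u, add_assoc, Fischer.two_add_self, add_zero]]
        exact Submodule.add_mem _ hgX heX))
    rw [hL _ _ (b_self_two _) (by rw [b_comm]; exact hge) h1 h2, hLe] at h5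
    exact (by decide : ∀ x : ZMod 2, 1 + x = 0 → x = 1) _ h5
  have hperp2 : ∀ {w}, (∀ x ∈ ({e.1, g.1} : Finset (ι → ZMod 2)), B w x = 0) → B e.1 w = 0 ∧ B g.1 w = 0 :=
    fun {w} h => ⟨by rw [b_comm]; exact h _ (by simp), by rw [b_comm]; exact h _ (by simp)⟩
  obtain ⟨u, hu1, hu2, huq, hus⟩ : ∃ u, B e.1 u = 0 ∧ B g.1 u = 0 ∧ Q u = 0 ∧ u ∉ X2 := by
    obtain ⟨x, hx, hxs⟩ := exists_orth_out ({e.1, g.1} : Finset _) ({e.1, g.1} : Finset _)
      (by have := card_le e.1 g.1; omega)
    obtain ⟨x1, x2⟩ := hperp2 hx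
    rcases zmod_two (Q x) with h | h
    · exact ⟨x, x1, x2, h, hxs⟩
    obtain ⟨y, hy, hys⟩ := exists_orth_out ({e.1, g.1, x} : Finset _) ({e.1, g.1, x} : Finset _)
      (by have := card_le3 e.1 g.1 x; omega)
    obtain ⟨y1, y2⟩ := hperp2 fun v hv => hy v (by simp at hv ⊢; tauto)
    have hmono : X2 ≤ Submodule.span (ZMod 2) (({e.1, g.1, x} : Finset (ι → ZMod 2)) : Set (ι → ZMod 2)) :=
      Submodule.span_mono (by intro v hv; simp at hv ⊢; tauto)
    rcases zmod_two (Q y) with h' | h'
    · exact ⟨y, y1, y2, h', fun hc => hys (hmono hc)⟩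
    refine ⟨x + y, by rw [b_add_right, x1, y1, add_zero], by rw [b_add_right, x2, y2, add_zero], ?_, fun hc => hys ?_⟩
    · rw [q_add, h, h', b_comm x y, hy x (by simp)]; rfl
    · rw [show y = (x + y) + x by rw [add_comm x y, add_assoc, Fischer.two_add_self, add_zero]]
      exact Submodule.add_mem _ (hmono hc) (Submodule.subset_span (by simp))
  obtain ⟨w, hw, hws⟩ := exists_orth_out ({e.1, g.1, u} : Finset _) ({e.1, g.1, u} : Finset _)
    (by have := card_le3 e.1 g.1 u; omega)
  obtain ⟨w1, w2⟩ := hperp2 fun v hv => hw v (by simp at hv ⊢; tauto)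
  have hwu : B u w = 0 := by rw [b_comm]; exact hw u (by simp)
  have hmono : X2 ≤ Submodule.span (ZMod 2) (({e.1, g.1, u} : Finset (ι → ZMod 2)) : Set (ι → ZMod 2)) :=
    Submodule.span_mono (by intro v hv; simp at hv ⊢; tauto)
  have hwX : w ∉ X2 := fun h => hws (hmono h)
  have huwX : u + w ∉ X2 := fun h => hws (by
    rw [show w = (u + w) + u by rw [add_comm u w, add_assoc, Fischer.two_add_self, add_zero]]
    exact Submodule.add_mem _ (hmono h) (Submodule.subset_span (by simp)))
  have hLu := hsing u hu1 hu2 huq hus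
  have hsum := hL u w hu1 hu2 w1 w2
  have b1 : B e.1 (u + w) = 0 := by rw [b_add_right, hu1, w1, add_zero]
  have b2 : B g.1 (u + w) = 0 := by rw [b_add_right, hu2, w2, add_zero]
  rcases zmod_two (Q w) with h | h
  · rw [hsing _ b1 b2 (by rw [q_add, huq, h, hwu]; rfl) huwX, hLu, hsing w w1 w2 h hwX] at hsum
    exact one_ne_zero hsum
  · rw [hLpt _ b1 b2 (by rw [q_add, huq, h, hwu]; rfl) (fun h' => huwX (h' ▸ heX)) (fun h' => huwX (h' ▸ hgX)),
      hLu, hLpt w w1 w2 h (fun h' => hwX (h' ▸ heX)) (fun h' => hwX (h' ▸ hgX))] at hsum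
    exact zero_ne_one hsum

end CfsgLib.FischerClass
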