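import Cfsg.Agent.Lib.FischerClass.Degree

/-!
Neighbourhood a symmetric group: the common neighbours of a non-commuting pair are the transpositions
avoiding one point.
-/

set_option autoImplicit false
set_option linter.style.haveILetI false
set_option linter.unusedSectionVars false

namespace CfsgLib.FischerClass

open Cfsg
open CfsgLib.ThreeTransp CfsgLib.ThreeTransp.Relations

/-- The transpositions of `Fin n`. -/
abbrev Tp (n : ℕ) : Type := {σ : Equiv.Perm (Fin n) // σ.IsSwap}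

/-- Conjugation of transpositions. -/
def sop {n : ℕ} (p q : Tp n) : Tp n :=
  ⟨p.1 * q.1 * p.1⁻¹, by
    obtain ⟨x, y, hxy, h⟩ := q.2
    exact ⟨p.1 x, p.1 y, p.1.injective.ne hxy, by rw [h, Equiv.swap_apply_apply]⟩⟩

/-- The transposition of two points. -/
def tp {n : ℕ} {i j : Fin n} (h : i ≠ j) : Tp n := ⟨Equiv.swap i j, i, j, h, rfl⟩

variable {n : ℕ}

theorem exists_tp (p : Tp n) : ∃ i j, ∃ h : i ≠ j, p = tp h := by
  obtain ⟨i, j, h, e⟩ := p.2
  exact ⟨i, j, h, Subtype.ext e⟩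

theorem sop_fix_iff (p q : Tp n) : sop p q = q ↔ p.1 * q.1 = q.1 * p.1 := by
  rw [Subtype.ext_iff]
  exact mul_inv_eq_iff_eq_mul

theorem swap_eq {i j k l : Fin n} (hij : i ≠ j) :
    Equiv.swap k l = Equiv.swap i j ↔ (k = i ∧ l = j) ∨ (k = j ∧ l = i) := by
  refine ⟨fun h => ?_, fun h => ?_⟩
  · have h1 := Equiv.congr_fun h i
    have h2 := Equiv.congr_fun h j
    rw [Equiv.swap_apply_left] at h1
    rw [Equiv.swap_apply_right] at h2
    simp only [Equiv.swap_apply_def] at h1 h2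
    grind
  · rcases h with ⟨rfl, rfl⟩ | ⟨rfl, rfl⟩
    · rfl
    · exact Equiv.swap_comm _ _

theorem sop_tp_iff {i j k l : Fin n} (hij : i ≠ j) (hkl : k ≠ l) :
    sop (tp hij) (tp hkl) = tp hkl ↔
      (i = k ∧ j = l) ∨ (i = l ∧ j = k) ∨ (k ≠ i ∧ k ≠ j ∧ l ≠ i ∧ l ≠ j) := by
  rw [Subtype.ext_iff]
  show Equiv.swap i j * Equiv.swap k l * (Equiv.swap i j)⁻¹ = Equiv.swap k l ↔ _
  rw [← Equiv.swap_apply_apply, swap_eq hkl]
  simp only [Equiv.swap_apply_def]
  split_ifs <;> grind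

theorem nb_tp_iff {i j k l : Fin n} (hij : i ≠ j) (hkl : k ≠ l) :
    tp hkl ∈ Nb sop (tp hij) ↔ k ≠ i ∧ k ≠ j ∧ l ≠ i ∧ l ≠ j := by
  show tp hkl ≠ tp hij ∧ _ ↔ _
  rw [sop_tp_iff, Ne, Subtype.ext_iff]
  show ¬ Equiv.swap k l = Equiv.swap i j ∧ _ ↔ _
  rw [swap_eq hij]
  grind

theorem adj_tp_share {i j k l : Fin n} (hij : i ≠ j) (hkl : k ≠ l) (h : Adj sop (tp hij) (tp hkl)) :
    i = k ∨ i = l ∨ j = k ∨ j = l := by
  rw [Adj, Ne, sop_tp_iff] at h
  grind

theorem eq_tp_iff {i j k l : Fin n} (hij : i ≠ j) (hkl : k ≠ l) :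
    tp hij = tp hkl ↔ (i = k ∧ j = l) ∨ (i = l ∧ j = k) := by
  rw [Subtype.ext_iff]
  exact (swap_eq hkl).trans (by grind)

/-- An intersecting family of at least four pairs, or of two, has a common point. -/
theorem exists_common_point {T : Set (Tp n)} (hT : ∀ p ∈ T, ∀ q ∈ T, p ≠ q → Adj sop p q)
    (hcard : 4 ≤ T.ncard ∨ T.ncard = 2) : ∃ x, ∀ p ∈ T, p.1 x ≠ x := by
  have hmv : ∀ {i j : Fin n} (h : i ≠ j) (z : Fin n), z = i ∨ z = j → (tp h).1 z ≠ z := by
    intro i j h z hz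
    rcases hz with rfl | rfl
    · show Equiv.swap z j z ≠ z; rw [Equiv.swap_apply_left]; exact h.symm
    · show Equiv.swap i z z ≠ z; rw [Equiv.swap_apply_right]; exact h
  have h2 : 1 < T.ncard := by omega
  obtain ⟨p, q, hp, hq, hpq⟩ := (Set.one_lt_ncard_iff (Set.toFinite _)).1 h2
  obtain ⟨i, j, hij, rfl⟩ := exists_tp p
  obtain ⟨k, l, hkl, rfl⟩ := exists_tp q
  obtain ⟨x, a, b, hxa, hxb, hab, ha, hb⟩ : ∃ x a b, ∃ (hxa : x ≠ a) (hxb : x ≠ b), a ≠ b ∧
      tp hij = tp hxa ∧ tp hkl = tp hxb := by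
    have hne : ¬ ((i = k ∧ j = l) ∨ (i = l ∧ j = k)) := fun h => hpq ((eq_tp_iff _ _).2 h)
    rcases adj_tp_share hij hkl (hT _ hp _ hq hpq) with h | h | h | h
    · exact ⟨i, j, l, hij, h ▸ hkl, by grind, rfl, (eq_tp_iff _ _).2 (by grind)⟩
    · exact ⟨i, j, k, hij, h ▸ hkl.symm, by grind, rfl, (eq_tp_iff _ _).2 (by grind)⟩
    · exact ⟨j, i, l, hij.symm, h ▸ hkl, by grind, (eq_tp_iff _ _).2 (by grind), (eq_tp_iff _ _).2 (by grind)⟩
    · exact ⟨j, i, k, hij.symm, h ▸ hkl.symm, by grind, (eq_tp_iff _ _).2 (by grind), (eq_tp_iff _ _).2 (by grind)⟩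
  rw [ha] at hp
  rw [hb] at hq
  refine ⟨x, fun r hr => ?_⟩
  obtain ⟨u, v, huv, rfl⟩ := exists_tp r
  by_contra hx
  have hxu : ¬ (x = u ∨ x = v) := fun h => hmv huv x h hx
  have huv' : tp huv = tp hab := by
    have h1 := hT _ hr _ hp fun e => (e ▸ hmv hxa x (Or.inl rfl)) hx
    have h2 := hT _ hr _ hq fun e => (e ▸ hmv hxb x (Or.inl rfl)) hx
    have s1 := adj_tp_share _ _ h1
    have s2 := adj_tp_share _ _ h2
    rw [eq_tp_iff]; grind
  have hsub : T ⊆ {tp hxa, tp hxb, tp hab} := by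
    intro s hs
    obtain ⟨y, z, hyz, rfl⟩ := exists_tp s
    by_contra hns
    simp only [Set.mem_insert_iff, Set.mem_singleton_iff, not_or] at hns
    have g1 := adj_tp_share _ _ (hT _ hs _ hp hns.1)
    have g2 := adj_tp_share _ _ (hT _ hs _ hq hns.2.1)
    have g3 := adj_tp_share _ _ (hT _ hs _ (huv' ▸ hr) hns.2.2)
    simp only [eq_tp_iff] at hns
    grind
  rcases hcard with h | h
  · have h3 : ({tp hxa, tp hxb, tp hab} : Set (Tp n)).ncard ≤ 3 := by
      refine (Set.ncard_insert_le _ _).trans ?_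
      have := Set.ncard_insert_le (tp hxb) ({tp hab} : Set (Tp n))
      rw [Set.ncard_singleton] at this
      omega
    have := Set.ncard_le_ncard hsub (Set.toFinite _)
    omega
  · have h3 : ({tp hxa, tp hxb, tp hab} : Set (Tp n)) ⊆ T := by
      rintro s (rfl | rfl | rfl)
      exacts [hp, hq, huv' ▸ hr]
    have := Set.ncard_le_ncard h3 (Set.toFinite _)
    rw [Set.ncard_eq_three.2 ⟨tp hxa, tp hxb, tp hab, fun e => hab (by rw [eq_tp_iff] at e; grind),
      fun e => hxb (by rw [eq_tp_iff] at e; grind), fun e => hxa (by rw [eq_tp_iff] at e; grind), rfl⟩] at this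
    omega

/-- Transpositions through a point among those away from two others. -/
theorem star_ncard {i j x : Fin n} (hij : i ≠ j) (hxi : x ≠ i) (hxj : x ≠ j) :
    {p : Tp n | p ∈ Nb sop (tp hij) ∧ p.1 x ≠ x}.ncard = n - 3 := by
  classical
  set s : Finset (Fin n) := Finset.univ \ {i, j, x}
  have hs : s.card = n - 3 := by
    rw [Finset.card_sdiff_of_subset (Finset.subset_univ _), Finset.card_univ, Fintype.card_fin,
      Finset.card_eq_three.2 ⟨i, j, x, hij, hxi.symm, hxj.symm, rfl⟩]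
  have hmem : ∀ y, y ∈ s ↔ y ≠ i ∧ y ≠ j ∧ y ≠ x := fun y => by simp [s]
  rw [← hs, ← Set.ncard_coe_finset]
  refine (Set.ncard_congr (fun y hy => tp (show x ≠ y from ((hmem y).1 hy).2.2.symm)) ?_ ?_ ?_).symm
  · intro y hy
    have h := (hmem y).1 hy
    refine ⟨(nb_tp_iff _ _).2 ⟨hxi, hxj, h.1, h.2.1⟩, ?_⟩
    show Equiv.swap x y x ≠ x
    rw [Equiv.swap_apply_left]; exact h.2.2
  · intro y z hy hz e
    rw [eq_tp_iff] at e
    grind
  · rintro p ⟨hp, hpx⟩
    obtain ⟨k, l, hkl, rfl⟩ := exists_tp p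
    rw [nb_tp_iff] at hp
    have : x = k ∨ x = l := by
      by_contra h
      push Not at h
      exact hpx (Equiv.swap_apply_of_ne_of_ne h.1 h.2)
    rcases this with rfl | rfl
    · exact ⟨l, (hmem l).2 ⟨hp.2.2.1, hp.2.2.2, hkl.symm⟩, rfl⟩
    · exact ⟨k, (hmem k).2 ⟨hp.1, hp.2.1, hkl⟩, (eq_tp_iff _ _).2 (Or.inr ⟨rfl, rfl⟩)⟩

/-- An unordered pair as a transposition. -/
def ofPair (q : {q : Fin 5 × Fin 5 // q.1 < q.2}) : Tp 5 := tp q.2.ne

theorem five_counts : Nat.card (Tp 5) = 10 ∧ ∀ p, (Nb (sop (n := 5)) p).ncard = 3 := by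
  have hinj : Function.Injective ofPair := fun q r h => by
    have := q.2
    have := r.2
    rw [ofPair, ofPair, eq_tp_iff] at h
    refine Subtype.ext (Prod.ext ?_ ?_) <;> grind
  have hsurj : Function.Surjective ofPair := fun p => by
    obtain ⟨i, j, h, rfl⟩ := exists_tp p
    rcases lt_or_gt_of_ne h with h' | h'
    · exact ⟨⟨(i, j), h'⟩, rfl⟩
    · exact ⟨⟨(j, i), h'⟩, (eq_tp_iff _ _).2 (Or.inr ⟨rfl, rfl⟩)⟩
  refine ⟨?_, fun p => ?_⟩
  · rw [← Nat.card_congr (Equiv.ofBijective ofPair ⟨hinj, hsurj⟩), Nat.card_eq_fintype_card]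
    decide +kernel
  · obtain ⟨i, j, h, rfl⟩ := exists_tp p
    have himg : Nb sop (tp h) = ofPair '' {q | q.1.1 ≠ i ∧ q.1.1 ≠ j ∧ q.1.2 ≠ i ∧ q.1.2 ≠ j} := by
      ext r
      constructor
      · intro hr
        obtain ⟨q, rfl⟩ := hsurj r
        exact ⟨q, (nb_tp_iff h q.2.ne).1 hr, rfl⟩
      · rintro ⟨q, hq, rfl⟩
        exact (nb_tp_iff h q.2.ne).2 hq
    rw [himg, Set.ncard_image_of_injective _ hinj, ← Nat.card_coe_set_eq, Nat.card_eq_fintype_card]
    clear himg
    revert i j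
    decide +kernel

variable {G : Type*} [Group G] [Finite G] {D : Set G} {f : Tp n → G} {d a : G}

theorem share_iff {α β z w k l : Fin n} (hzw : z ≠ w) (hw : w = α ∨ w = β) (hk : k ≠ α ∧ k ≠ β ∧ l ≠ α ∧ l ≠ β)
    (hkl : k ≠ l) : ¬ ((z = k ∧ w = l) ∨ (z = l ∧ w = k) ∨ (k ≠ z ∧ k ≠ w ∧ l ≠ z ∧ l ≠ w)) ↔
      Equiv.swap k l z ≠ z := by
  simp only [Equiv.swap_apply_def]
  by_cases h1 : z = k <;> by_cases h2 : z = l <;> simp [h1, h2] <;> grind

/-- The common neighbours next to one of them avoid one further point. -/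
theorem sym_section (X : Ctx D) (hn : n = 5 ∨ 7 ≤ n) (C : Co D d sop f) (hd : d ∈ D) (ha : a ∈ D)
    (hda : ¬ Commute d a) {i j : Fin n} (hij : i ≠ j) (he : tp hij ∈ Sc f a) :
    ∃ x, x ≠ i ∧ x ≠ j ∧ ∀ k l (hkl : k ≠ l), k ≠ i → k ≠ j → l ≠ i → l ≠ j →
      (tp hkl ∈ Sc f a ↔ k ≠ x ∧ l ≠ x) := by
  obtain ⟨V⟩ := exists_view X.base C hd ha hda he
  set T : Set (Tp n) := {q | q ∈ Nb sop (tp hij) ∧ q ∉ Sc f a}
  have hT : T = V.τ '' {r | r ∈ Nb sop V.A ∧ sop V.B r ≠ r} := by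
    ext q
    constructor
    · rintro ⟨hq, hqS⟩
      obtain ⟨r, hr, rfl⟩ := V.bij.surjOn hq
      exact ⟨r, ⟨hr, fun h => hqS ((V.mem_iff X.hS hr).2 h)⟩, rfl⟩
    · rintro ⟨r, ⟨hr, hB⟩, rfl⟩
      exact ⟨V.bij.mapsTo hr, fun h => hB ((V.mem_iff X.hS hr).1 h)⟩
  obtain ⟨α, β, hαβ, hA⟩ := exists_tp V.A
  obtain ⟨γ, δ, hγδ, hB⟩ := exists_tp V.B
  obtain ⟨z, hzα, hzβ, hstar⟩ : ∃ z, z ≠ α ∧ z ≠ β ∧
      {r | r ∈ Nb sop V.A ∧ sop V.B r ≠ r} = {p | p ∈ Nb sop V.A ∧ p.1 z ≠ z} := by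
    have hnc : ¬ sop (tp hαβ) (tp hγδ) = tp hγδ := by rw [← hA, ← hB]; exact V.noncomm
    rw [sop_tp_iff] at hnc
    have key : ∀ z w (hzw : z ≠ w), V.B = tp hzw → (w = α ∨ w = β) → z ≠ α → z ≠ β →
        {r | r ∈ Nb sop V.A ∧ sop V.B r ≠ r} = {p | p ∈ Nb sop V.A ∧ p.1 z ≠ z} := by
      intro z w hzw hB' hw hzα hzβ
      ext r
      obtain ⟨k, l, hkl, rfl⟩ := exists_tp r
      simp only [Set.mem_ofPred_eq, hA, hB', nb_tp_iff, Ne, sop_tp_iff]
      exact and_congr_right fun hk => share_iff hzw hw ((nb_tp_iff hαβ hkl).1 ⟨hk.1, (sop_tp_iff hαβ hkl).2 hk.2⟩) hkl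
    by_cases hc : γ = α ∨ γ = β
    · exact ⟨δ, by grind, by grind, key δ γ hγδ.symm (hB.trans ((eq_tp_iff _ _).2 (Or.inr ⟨rfl, rfl⟩)))
        hc (by grind) (by grind)⟩
    · exact ⟨γ, by grind, by grind, key γ δ hγδ hB (by grind) (by grind) (by grind)⟩
  rw [hstar] at hT
  have hcard : T.ncard = n - 3 := by
    rw [hT, Set.ncard_image_of_injOn (V.bij.injOn.mono fun r hr => hr.1), hA, star_ncard hαβ hzα hzβ]
  obtain ⟨x, hx⟩ := exists_common_point (T := T) (by
    intro p hp q hq hpq h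
    rw [hT] at hp hq
    obtain ⟨r, ⟨hr, hrz⟩, rfl⟩ := hp
    obtain ⟨s, ⟨hs, hsz⟩, rfl⟩ := hq
    obtain ⟨hrs, hop⟩ := V.τ_op X.hS C hr hs
    rw [← hop] at h
    have hh := V.bij.injOn hrs hs h
    obtain ⟨k, l, hkl, rfl⟩ := exists_tp r
    obtain ⟨u, v, huv, rfl⟩ := exists_tp s
    rw [sop_tp_iff] at hh
    change Equiv.swap k l z ≠ z at hrz
    change Equiv.swap u v z ≠ z at hsz
    have hne : ¬ ((k = u ∧ l = v) ∨ (k = v ∧ l = u)) := fun e => hpq (by rw [(eq_tp_iff hkl huv).2 e])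
    simp only [Equiv.swap_apply_def] at hrz hsz
    grind) (by omega)
  obtain ⟨q, hq⟩ : T.Nonempty := Set.nonempty_of_ncard_ne_zero (by omega)
  have hxij : x ≠ i ∧ x ≠ j := by
    have h := hx q hq
    obtain ⟨k, l, hkl, rfl⟩ := exists_tp q
    have hk := (nb_tp_iff hij hkl).1 hq.1
    change Equiv.swap k l x ≠ x at h
    simp only [Equiv.swap_apply_def] at h
    grind
  refine ⟨x, hxij.1, hxij.2, fun k l hkl h1 h2 h3 h4 => ?_⟩
  have hfull : T = {p | p ∈ Nb sop (tp hij) ∧ p.1 x ≠ x} :=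
    Set.eq_of_subset_of_ncard_le (fun p hp => ⟨hp.1, hx p hp⟩)
      (by rw [star_ncard hij hxij.1 hxij.2, hcard]) (Set.toFinite _)
  have hmem : tp hkl ∈ Nb sop (tp hij) := (nb_tp_iff hij hkl).2 ⟨h1, h2, h3, h4⟩
  have := Set.ext_iff.1 hfull (tp hkl)
  simp only [T, Set.mem_ofPred_eq] at this
  rw [← not_iff_not]
  refine (show tp hkl ∉ Sc f a ↔ Equiv.swap k l x ≠ x from
    ⟨fun h => (this.1 ⟨hmem, h⟩).2, fun h => (this.2 ⟨hmem, h⟩).2⟩).trans ?_
  show Equiv.swap k l x ≠ x ↔ _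
  simp only [Equiv.swap_apply_def]
  grind

/-- A point outside a small set. -/
theorem exists_avoid (s : Finset (Fin n)) (h : s.card < n) : ∃ y, y ∉ s := by
  by_contra hh
  push Not at hh
  have := Finset.card_le_card (show Finset.univ ⊆ s from fun y _ => hh y)
  simp at this
  omega

/-- The common neighbours are the transpositions avoiding a point. -/
theorem sym_shape (X : Ctx D) (hn : n = 5 ∨ 7 ≤ n) (C : Co D d sop f) (hd : d ∈ D) (ha : a ∈ D)
    (hda : ¬ Commute d a) : ∃ x : Fin n, ∀ p : Tp n, p ∈ Sc f a ↔ p.1 x = x := by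
  obtain ⟨p₀, hp₀⟩ := X.sc_nonempty C hd ha hda
  obtain ⟨i, j, hij, rfl⟩ := exists_tp p₀
  obtain ⟨x, hxi, hxj, hx⟩ := sym_section X hn C hd ha hda hij hp₀
  refine ⟨x, ?_⟩
  suffices hmain : ∀ k l (hkl : k ≠ l), tp hkl ∈ Sc f a ↔ k ≠ x ∧ l ≠ x by
    intro p
    obtain ⟨k, l, hkl, rfl⟩ := exists_tp p
    rw [hmain]
    show _ ↔ Equiv.swap k l x = x
    simp only [Equiv.swap_apply_def]
    grind
  classical
  rcases hn with rfl | hn
  · -- five points
    obtain ⟨u, hu⟩ := exists_avoid {i, j, x} (lt_of_le_of_lt Finset.card_le_three (by norm_num))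
    obtain ⟨v, hv⟩ := exists_avoid {i, j, x, u} (lt_of_le_of_lt Finset.card_le_four (by norm_num))
    simp only [Finset.mem_insert, Finset.mem_singleton, not_or] at hu hv
    have huv : u ≠ v := fun e => hv.2.2.2 e.symm
    have hall : ∀ y : Fin 5, y = i ∨ y = j ∨ y = x ∨ y = u ∨ y = v := by
      intro y
      have h5 : ({i, j, x, u, v} : Finset (Fin 5)) = Finset.univ := by
        refine Finset.eq_univ_of_card _ ?_
        rw [Fintype.card_fin, Finset.card_insert_of_notMem, Finset.card_insert_of_notMem,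
          Finset.card_insert_of_notMem, Finset.card_insert_of_notMem, Finset.card_singleton]
        all_goals simp [hij, Ne.symm hxi, Ne.symm hxj, Ne.symm hu.1, Ne.symm hu.2.1, Ne.symm hu.2.2,
          Ne.symm hv.1, Ne.symm hv.2.1, Ne.symm hv.2.2.1, huv]
      have := Finset.mem_univ y
      rw [← h5] at this
      simpa only [Finset.mem_insert, Finset.mem_singleton] using this
    have huvS : tp huv ∈ Sc f a := (hx u v huv hu.1 hu.2.1 hv.1 hv.2.1).2 ⟨hu.2.2, hv.2.2.1⟩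
    obtain ⟨y, hyu, hyv, hy⟩ := sym_section X (Or.inl rfl) C hd ha hda huv huvS
    have hyx : y = x := by
      have := (hy i j hij (Ne.symm hu.1) (Ne.symm hv.1) (Ne.symm hu.2.1) (Ne.symm hv.2.1)).1 hp₀
      rcases hall y with h | h | h | h | h
      exacts [absurd h.symm this.1, absurd h.symm this.2, h, absurd h hyu, absurd h hyv]
    subst hyx
    have hno : ∀ k l (hkl : k ≠ l), l = y → tp hkl ∉ Sc f a := by
      intro k l hkl hl
      subst hl
      rcases hall k with e | e | e | e | e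
      · rw [hy k l hkl (e ▸ Ne.symm hu.1) (e ▸ Ne.symm hv.1) (Ne.symm hu.2.2) (Ne.symm hv.2.2.1)]
        exact fun h => h.2 rfl
      · rw [hy k l hkl (e ▸ Ne.symm hu.2.1) (e ▸ Ne.symm hv.2.1) (Ne.symm hu.2.2) (Ne.symm hv.2.2.1)]
        exact fun h => h.2 rfl
      · exact absurd e hkl
      · rw [hx k l hkl (e ▸ hu.1) (e ▸ hu.2.1) hxi hxj]
        exact fun h => h.2 rfl
      · rw [hx k l hkl (e ▸ hv.1) (e ▸ hv.2.1) hxi hxj]
        exact fun h => h.2 rfl
    have hno' : ∀ k l (hkl : k ≠ l), k = y ∨ l = y → tp hkl ∉ Sc f a := by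
      intro k l hkl h
      rcases h with h | h
      · rw [(eq_tp_iff hkl hkl.symm).2 (Or.inr ⟨rfl, rfl⟩)]
        exact hno l k hkl.symm h
      · exact hno k l hkl h
    intro k l hkl
    by_cases hor : k = y ∨ l = y
    · exact iff_of_false (hno' k l hkl hor) (by tauto)
    push Not at hor
    refine iff_of_true ?_ hor
    by_contra hkS
    -- only the two transpositions remain, and then the eigenvalues are irrational
    have hpair : ∀ q, q ∈ Sc f a → q = tp hij ∨ q = tp huv := by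
      intro q hq
      obtain ⟨s, t, hst, rfl⟩ := exists_tp q
      by_contra hc
      simp only [eq_tp_iff, not_or] at hc
      have hs : s ≠ y ∧ t ≠ y := by
        by_contra h'
        exact hno' s t hst (by tauto) hq
      have flip : ∀ s t (hst : s ≠ t), tp hst ∈ Sc f a → tp hst.symm ∈ Sc f a := by
        intro s t hst h
        rwa [(eq_tp_iff hst.symm hst).2 (Or.inr ⟨rfl, rfl⟩)]
      -- two sides of a triangle give the third
      have step : ∀ A B E (hAB : A ≠ B) (hBC : B ≠ E) (hAC : A ≠ E), tp hAB ∈ Sc f a → tp hBC ∈ Sc f a →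
          tp hAC ∈ Sc f a := by
        intro A B E hAB hBC hAC h h'
        have := (X.sc_closed C h).2 h'
        rw [show sop (tp hAB) (tp hBC) = tp hAC from Subtype.ext (by
          show Equiv.swap A B * Equiv.swap B E * (Equiv.swap A B)⁻¹ = Equiv.swap A E
          rw [← Equiv.swap_apply_apply, Equiv.swap_apply_right,
            Equiv.swap_apply_of_ne_of_ne hAC.symm hBC.symm])] at this
        exact this
      obtain ⟨p, q, hp, hq', hpq, hpqS⟩ : ∃ p q, (p = i ∨ p = j) ∧ (q = u ∨ q = v) ∧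
          ∃ hpq : p ≠ q, tp hpq ∈ Sc f a := by
        by_cases hsij : s = i ∨ s = j
        · refine ⟨s, t, hsij, ?_, hst, hq⟩
          rcases hall t with h | h | h | h | h
          · rcases hsij with e | e
            exacts [absurd (e.trans h.symm) hst, absurd ⟨e, h⟩ hc.1.2]
          · rcases hsij with e | e
            exacts [absurd ⟨e, h⟩ hc.1.1, absurd (e.trans h.symm) hst]
          · exact absurd h hs.2
          · exact Or.inl h
          · exact Or.inr h
        · have hsuv : s = u ∨ s = v := by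
            rcases hall s with h | h | h | h | h
            exacts [absurd (Or.inl h) hsij, absurd (Or.inr h) hsij, absurd h hs.1, Or.inl h, Or.inr h]
          refine ⟨t, s, ?_, hsuv, hst.symm, flip s t hst hq⟩
          rcases hall t with h | h | h | h | h
          · exact Or.inl h
          · exact Or.inr h
          · exact absurd h hs.2
          · rcases hsuv with e | e
            exacts [absurd (e.trans h.symm) hst, absurd ⟨e, h⟩ hc.2.2]
          · rcases hsuv with e | e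
            exacts [absurd ⟨e, h⟩ hc.2.1, absurd (e.trans h.symm) hst]
      have hiu : i ≠ u := Ne.symm hu.1
      have hiv : i ≠ v := Ne.symm hv.1
      have hju : j ≠ u := Ne.symm hu.2.1
      have hjv : j ≠ v := Ne.symm hv.2.1
      have hij' := flip i j hij hp₀
      have huv' := flip u v huv huvS
      have hfour : tp hiu ∈ Sc f a ∧ tp hiv ∈ Sc f a ∧ tp hju ∈ Sc f a ∧ tp hjv ∈ Sc f a := by
        have hiuS : tp hiu ∈ Sc f a := by
          rcases hp with e | e <;> rcases hq' with e' | e' <;> subst e <;> subst e'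
          · exact hpqS
          · exact step _ _ _ hpq (Ne.symm huv) hiu hpqS huv'
          · exact step _ _ _ hij hpq hiu hp₀ hpqS
          · exact step _ _ _ hiv (Ne.symm huv) hiu (step _ _ _ hij hpq hiv hp₀ hpqS) huv'
        exact ⟨hiuS, step _ _ _ hiu huv hiv hiuS huvS, step _ _ _ hij.symm hiu hju hij' hiuS,
          step _ _ _ hju huv hjv (step _ _ _ hij.symm hiu hju hij' hiuS) huvS⟩
      obtain ⟨m1, m2, m3, m4⟩ := hfour
      refine hkS ?_
      rcases hall k with e | e | e | e | e <;> rcases hall l with e' | e' | e' | e' | e' <;>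
        subst e <;> subst e' <;>
        first
          | exact absurd rfl hkl
          | exact absurd rfl hor.1
          | exact absurd rfl hor.2
          | assumption
          | exact flip _ _ (Ne.symm hkl) (by assumption)
    have hm : (Sc f a).ncard = 2 := by
      rw [show Sc f a = {tp hij, tp huv} from ?_, Set.ncard_pair fun e => by
        rw [eq_tp_iff] at e
        rcases e with e | e
        · exact hu.1 e.1.symm
        · exact hv.1 e.1.symm]
      ext q
      exact ⟨fun h => hpair q h, fun h => by rcases h with rfl | rfl <;> assumption⟩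
    obtain ⟨hk10, hl3⟩ := five_counts
    have := X.no_irrational C hd ha hda hk10 hl3 hm (by
      intro q hq
      norm_num at hq
      have : IsSquare (33 : ℚ) := ⟨q, by linarith [sq q]⟩
      rw [show (33 : ℚ) = ((33 : ℕ) : ℚ) by norm_num, Rat.isSquare_natCast_iff] at this
      revert this; decide +kernel)
    have hpos : (1 : ℝ) ≤ Nat.card D := by
      have : Nonempty D := ⟨⟨d, hd⟩⟩
      exact_mod_cast Nat.card_pos
    push_cast at this
    linarith
  · -- at least seven points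
    have same : ∀ k l (hkl : k ≠ l), k ≠ i → k ≠ j → l ≠ i → l ≠ j → k ≠ x → l ≠ x →
        ∀ s t (hst : s ≠ t), s ≠ k → s ≠ l → t ≠ k → t ≠ l → (tp hst ∈ Sc f a ↔ s ≠ x ∧ t ≠ x) := by
      intro k l hkl h1 h2 h3 h4 h5 h6
      obtain ⟨y, hyk, hyl, hy⟩ := sym_section X (Or.inr hn) C hd ha hda hkl
        ((hx k l hkl h1 h2 h3 h4).2 ⟨h5, h6⟩)
      suffices y = x by subst this; exact hy
      by_contra hne
      obtain ⟨w, hw⟩ := exists_avoid {i, j, k, l, x, y}
        (lt_of_le_of_lt Finset.card_le_six (by omega))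
      simp only [Finset.mem_insert, Finset.mem_singleton, not_or] at hw
      have hxw : x ≠ w := fun e => hw.2.2.2.2.1 e.symm
      have a1 := hx x w hxw hxi hxj hw.1 hw.2.1
      have a2 := hy x w hxw (Ne.symm h5) (Ne.symm h6) hw.2.2.1 hw.2.2.2.1
      rw [a2] at a1
      exact (a1.1 ⟨Ne.symm hne, hw.2.2.2.2.2⟩).1 rfl
    intro s t hst
    obtain ⟨k, hk⟩ := exists_avoid {i, j, x, s, t} (lt_of_le_of_lt Finset.card_le_five (by omega))
    obtain ⟨l, hl⟩ := exists_avoid {i, j, x, s, t, k} (lt_of_le_of_lt Finset.card_le_six (by omega))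
    simp only [Finset.mem_insert, Finset.mem_singleton, not_or] at hk hl
    exact same k l (Ne.symm hl.2.2.2.2.2) hk.1 hk.2.1 hl.1 hl.2.1 hk.2.2.1 hl.2.2.1 s t hst
      (Ne.symm hk.2.2.2.1) (Ne.symm hl.2.2.2.1) (Ne.symm hk.2.2.2.2) (Ne.symm hl.2.2.2.2.1)

end CfsgLib.FischerClass
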