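import Cfsg.Agent.Lib.FischerClass.Coords
import Cfsg.Agent.Lib.FischerO2.Space
import Cfsg.Agent.Lib.HePres.Sp4

/-!
The coordinate space of unitary transvections over the field with four elements, and the lines through
a common neighbour.
-/

set_option autoImplicit false
set_option linter.unusedSectionVars false

namespace CfsgLib.FischerClass

open Cfsg
open CfsgLib.HePres (K4)
open CfsgLib.FischerO2 (herm_add_left herm_smul_left herm_smul_right herm_zero_left)

/-- Vectors over the field with four elements. -/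
abbrev UV (n : ℕ) : Type := Fin n → K4

/-- The unitary form. -/
abbrev uh {n : ℕ} (u v : UV n) : K4 := hermForm n K4 2 u v

/-- The isotropic points. -/
abbrev UP (n : ℕ) : Type := {x : Projectivization K4 (UV n) // uh x.rep x.rep = 0}

variable {n : ℕ}

theorem uh_add_left (u u' v : UV n) : uh (u + u') v = uh u v + uh u' v := herm_add_left u u' v

theorem uh_add_right (u v v' : UV n) : uh u (v + v') = uh u v + uh u v' :=
  FischerO2.herm_add_right K4.card_eq u v v'

theorem uh_smul_left (c : K4) (u v : UV n) : uh (c • u) v = c * uh u v := herm_smul_left c u v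

theorem uh_smul_right (c : K4) (u v : UV n) : uh u (c • v) = c ^ 2 * uh u v := herm_smul_right c u v

theorem uh_swap (u v : UV n) : uh v u = uh u v ^ 2 := FischerO2.herm_swap K4.card_eq u v

theorem uh_zero_iff {u v : UV n} : uh v u = 0 ↔ uh u v = 0 := by
  rw [uh_swap, sq_eq_zero_iff]

theorem uh_zero_left (v : UV n) : uh 0 v = 0 := herm_zero_left v

theorem k4_add (a : K4) : a + a = 0 := by revert a; decide +kernel

theorem k4_cube {a : K4} (h : a ≠ 0) : a ^ 2 * a = 1 := by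
  revert a
  simp only [pow_two]
  decide +kernel

theorem uv_add (x : UV n) : x + x = 0 := funext fun _ => k4_add _

theorem eq_of_rep {p q : UP n} {c : K4} (h : p.1.rep = c • q.1.rep) : p = q := by
  refine Subtype.ext ?_
  rw [← p.1.mk_rep, ← q.1.mk_rep, Projectivization.mk_eq_mk_iff']
  exact ⟨c, h.symm⟩

/-- The point of an isotropic vector. -/
noncomputable def mkU (v : UV n) (h0 : v ≠ 0) (h : uh v v = 0) : UP n :=
  ⟨Projectivization.mk K4 v h0, by
    obtain ⟨a, ha⟩ := Projectivization.exists_smul_eq_mk_rep K4 v h0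
    rw [← ha, Units.smul_def, uh_smul_left, uh_smul_right, h, mul_zero, mul_zero]⟩

theorem mkU_rep (v : UV n) (h0 : v ≠ 0) (h : uh v v = 0) :
    ∃ c : K4, c ≠ 0 ∧ (mkU v h0 h).1.rep = c • v := by
  obtain ⟨a, ha⟩ := Projectivization.exists_smul_eq_mk_rep K4 v h0
  exact ⟨a, a.ne_zero, ha.symm⟩

theorem mkU_self (p : UP n) : mkU p.1.rep p.1.rep_nonzero p.2 = p := Subtype.ext p.1.mk_rep

theorem mkU_eq_iff {v w : UV n} {v0 : v ≠ 0} {v1 : uh v v = 0} {w0 : w ≠ 0} {w1 : uh w w = 0} :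
    mkU v v0 v1 = mkU w w0 w1 ↔ ∃ c : K4, c • w = v := by
  rw [Subtype.ext_iff]
  exact Projectivization.mk_eq_mk_iff' K4 v w v0 w0

theorem tr_iso {u v : UV n} (hu : uh u u = 0) (hv : uh v v = 0) :
    uh (v + uh v u • u) (v + uh v u • u) = 0 := by
  rw [uh_add_left, uh_add_right, uh_add_right, uh_smul_left, uh_smul_left, uh_smul_right, uh_smul_right,
    hu, hv, uh_swap v u]
  generalize uh v u = c
  revert c
  simp only [pow_two]
  decide +kernel

theorem tr_ne {u v : UV n} (hu : uh u u = 0) (hv : v ≠ 0) : v + uh v u • u ≠ 0 := by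
  intro h
  have h1 : v = uh v u • u := by
    calc v = v + uh v u • u + uh v u • u := by rw [add_assoc, uv_add, add_zero]
      _ = _ := by rw [h, zero_add]
  have h2 : uh v u = 0 := by rw [h1, uh_smul_left, hu, mul_zero]
  rw [h2, zero_smul] at h1
  exact hv h1

/-- The transvection at the first point applied to the second. -/
noncomputable def uop (p q : UP n) : UP n :=
  mkU (q.1.rep + uh q.1.rep p.1.rep • p.1.rep) (tr_ne p.2 q.1.rep_nonzero) (tr_iso p.2 q.2)

theorem uop_mk {u v : UV n} {u0 : u ≠ 0} {u1 : uh u u = 0} {v0 : v ≠ 0} {v1 : uh v v = 0} :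
    uop (mkU u u0 u1) (mkU v v0 v1) = mkU (v + uh v u • u) (tr_ne u1 v0) (tr_iso u1 v1) := by
  obtain ⟨a, ha, ea⟩ := mkU_rep u u0 u1
  obtain ⟨b, -, eb⟩ := mkU_rep v v0 v1
  refine mkU_eq_iff.2 ⟨b, ?_⟩
  rw [ea, eb, uh_smul_left, uh_smul_right, smul_add, smul_smul, smul_smul]
  congr 2
  linear_combination -b * uh v u * k4_cube ha

theorem uop_eq_iff (p q : UP n) : uop p q = q ↔ uh p.1.rep q.1.rep = 0 := by
  constructor
  · intro h
    conv_rhs at h => rw [← mkU_self q]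
    obtain ⟨c, hc⟩ := mkU_eq_iff.1 h
    have h1 := congrArg (fun x => uh x p.1.rep) hc
    simp only [uh_smul_left, uh_add_left, p.2, mul_zero, add_zero] at h1
    have h2 := congrArg (fun x => uh x q.1.rep) hc
    simp only [uh_smul_left, uh_add_left, q.2, mul_zero, zero_add] at h2
    rcases mul_eq_zero.1 h2.symm with h3 | h3
    · exact uh_zero_iff.1 h3
    · exact h3
  · intro h
    conv_rhs => rw [← mkU_self q]
    exact mkU_eq_iff.2 ⟨1, by rw [uh_zero_iff.2 h, zero_smul, add_zero, one_smul]⟩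

theorem nbU_iff (p q : UP n) : q ∈ Nb uop p ↔ q ≠ p ∧ uh p.1.rep q.1.rep = 0 := by
  show q ≠ p ∧ _ ↔ _
  rw [uop_eq_iff]

/-- A functional is the product with a vector. -/
theorem exists_uh (φ : UV n →ₗ[K4] K4) : ∃ z, ∀ x, uh x z = φ x := by
  refine ⟨fun i => φ (Pi.single i 1) ^ 2, fun x => ?_⟩
  conv_rhs => rw [pi_eq_sum_univ' x, map_sum]
  refine Finset.sum_congr rfl fun i _ => ?_
  rw [map_smul, smul_eq_mul]
  congr 1
  rw [← pow_mul]
  generalize φ (Pi.single i 1) = c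
  revert c
  norm_num [pow_succ]
  decide +kernel

/-- Points commuting with each other and having the same neighbours next to a third lie on a line. -/
theorem twin_line {A r s : UP n} (hr : r ∈ Nb uop A) (hs : s ∈ Nb uop A)
    (h : ∀ u ∈ Nb uop A, uop r u = u → uop s u = u) :
    s.1.rep ∈ Submodule.span K4 {A.1.rep, r.1.rep} := by
  by_contra hno
  have hrA := (nbU_iff A r).1 hr
  have hsA := (nbU_iff A s).1 hs
  have hrs : uh s.1.rep r.1.rep = 0 := (uop_eq_iff s r).1 (h r hr ((uop_eq_iff r r).2 r.2))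
  obtain ⟨φ, hφ, hk⟩ := Submodule.exists_dual_map_eq_bot_of_notMem hno inferInstance
  have hφ0 : ∀ x ∈ Submodule.span K4 {A.1.rep, r.1.rep}, φ x = 0 := fun x hx =>
    (Submodule.mem_bot K4).1 (hk ▸ Submodule.mem_map_of_mem hx)
  obtain ⟨z, hz⟩ := exists_uh φ
  have hzA : uh z A.1.rep = 0 :=
    uh_zero_iff.1 ((hz _).trans (hφ0 _ (Submodule.subset_span (Set.mem_insert _ _))))
  have hzr : uh z r.1.rep = 0 :=
    uh_zero_iff.1 ((hz _).trans (hφ0 _ (Submodule.subset_span (Set.mem_insert_of_mem _ rfl))))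
  have hzs : uh z s.1.rep ≠ 0 := fun e => hφ ((hz _).symm.trans (uh_zero_iff.2 e))
  obtain ⟨c, hc⟩ : ∃ c : K4, uh (z + c • s.1.rep) (z + c • s.1.rep) = 0 := by
    have key : ∀ x y : K4, (x = 0 ∨ x = 1) → y ≠ 0 →
        ∃ c : K4, x + c * c * y + c * (y * y) = 0 := by decide +kernel
    obtain ⟨c, hc⟩ := key (uh z z) (uh z s.1.rep) (FischerO2.herm_self_cases K4.card_eq z) hzs
    refine ⟨c, ?_⟩
    rw [uh_add_left, uh_add_right, uh_add_right, uh_smul_left, uh_smul_left, uh_smul_right,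
      uh_smul_right, s.2, uh_swap z s.1.rep]
    linear_combination hc
  set w := z + c • s.1.rep
  have hwA : uh w A.1.rep = 0 := by
    rw [uh_add_left, uh_smul_left, hzA, uh_zero_iff.2 hsA.2, mul_zero, add_zero]
  have hwr : uh w r.1.rep = 0 := by rw [uh_add_left, uh_smul_left, hzr, hrs, mul_zero, add_zero]
  have hws : uh w s.1.rep ≠ 0 := by rwa [uh_add_left, uh_smul_left, s.2, mul_zero, add_zero]
  have hw0 : w ≠ 0 := fun e => hws (by rw [e, uh_zero_left])
  obtain ⟨k, hk0, hk⟩ := mkU_rep w hw0 hc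
  have hu : mkU w hw0 hc ∈ Nb uop A := (nbU_iff _ _).2 ⟨fun e => hws (by
      have h1 := congrArg (fun p => uh p.1.rep s.1.rep) e
      simp only [hk, uh_smul_left, hsA.2] at h1
      exact (mul_eq_zero.1 h1).resolve_left hk0), by rw [hk, uh_smul_right, uh_zero_iff.1 hwA, mul_zero]⟩
  have h2 := (uop_eq_iff _ _).1 (h _ hu ((uop_eq_iff _ _).2
    (by rw [hk, uh_smul_right, uh_zero_iff.1 hwr, mul_zero])))
  rw [hk, uh_smul_right, mul_eq_zero, sq_eq_zero_iff] at h2
  exact hws (uh_zero_iff.1 (h2.resolve_left hk0))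

variable {G : Type*} [Group G] [Finite G] {D : Set G} {f : UP n → G} {d a : G}

/-- Two common neighbours on a line through a third are equal. -/
theorem uni_line_eq (X : Ctx D) (C : Co D d uop f) (hd : d ∈ D) (ha : a ∈ D) (hda : ¬ Commute d a)
    {e p q : UP n} (he : e ∈ Sc f a) (hp : p ∈ Nb uop e) (hpS : p ∈ Sc f a) (hq : q ∈ Nb uop e)
    (hqS : q ∈ Sc f a) (hline : q.1.rep ∈ Submodule.span K4 {e.1.rep, p.1.rep}) : q = p := by
  obtain ⟨V⟩ := exists_view X.base C hd ha hda he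
  obtain ⟨r, hr, rfl⟩ := V.bij.surjOn hp
  obtain ⟨s, hs, rfl⟩ := V.bij.surjOn hq
  have hrB := (uop_eq_iff _ _).1 ((V.mem_iff X.hS hr).1 hpS)
  have hsB := (uop_eq_iff _ _).1 ((V.mem_iff X.hS hs).1 hqS)
  obtain ⟨α, β, hαβ⟩ := Submodule.mem_span_pair.1 hline
  have htw : s.1.rep ∈ Submodule.span K4 {V.A.1.rep, r.1.rep} := twin_line hr hs fun u hu hru => by
    obtain ⟨hu', h1⟩ := V.τ_op X.hS C hr hu
    rw [hru] at h1
    have h2 := (uop_eq_iff _ _).1 h1.symm
    obtain ⟨hu'', h3⟩ := V.τ_op X.hS C hs hu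
    refine V.bij.injOn hu'' hu (h3.trans ?_)
    have h4 := ((nbU_iff _ _).1 (V.bij.mapsTo hu)).2
    rw [uop_eq_iff, ← hαβ, uh_add_left, uh_smul_left, uh_smul_left, h2, h4, mul_zero, mul_zero, add_zero]
  obtain ⟨γ, δ, hγ⟩ := Submodule.mem_span_pair.1 htw
  have hAB : uh V.B.1.rep V.A.1.rep ≠ 0 := fun h =>
    V.noncomm ((uop_eq_iff _ _).2 (uh_zero_iff.1 h))
  rw [← hγ, uh_add_right, uh_smul_right, uh_smul_right, hrB, mul_zero, add_zero, mul_eq_zero,
    sq_eq_zero_iff, or_iff_left hAB] at hsB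
  rw [hsB, zero_smul, zero_add] at hγ
  rw [eq_of_rep hγ.symm]

/-- Each line through a common neighbour has another one. -/
theorem uni_line_exists (X : Ctx D) (C : Co D d uop f) (hd : d ∈ D) (ha : a ∈ D) (hda : ¬ Commute d a)
    {e q : UP n} (he : e ∈ Sc f a) (hq : q ∈ Nb uop e) :
    ∃ p ∈ Nb uop e, p ∈ Sc f a ∧ p.1.rep ∈ Submodule.span K4 {e.1.rep, q.1.rep} := by
  obtain ⟨V⟩ := exists_view X.base C hd ha hda he
  obtain ⟨r, hr, rfl⟩ := V.bij.surjOn hq
  have hrA := (nbU_iff _ _).1 hr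
  have hAB : uh V.A.1.rep V.B.1.rep ≠ 0 := fun h => V.noncomm ((uop_eq_iff _ _).2 h)
  set t := uh r.1.rep V.B.1.rep * (uh V.A.1.rep V.B.1.rep)⁻¹
  set w := r.1.rep + t • V.A.1.rep with hw
  have hw0 : w ≠ 0 := fun e' => hrA.1 (eq_of_rep (c := t) (by
    rw [← add_zero r.1.rep, ← uv_add (t • V.A.1.rep), ← add_assoc, ← hw, e', zero_add]))
  have hw1 : uh w w = 0 := by
    rw [hw, uh_add_left, uh_add_right, uh_add_right, uh_smul_left, uh_smul_left, uh_smul_right,
      uh_smul_right, r.2, V.A.2, hrA.2, uh_zero_iff.2 hrA.2]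
    simp
  have hwB : uh w V.B.1.rep = 0 := by
    rw [hw, uh_add_left, uh_smul_left, inv_mul_cancel_right₀ hAB, k4_add]
  obtain ⟨k, hk0, hk⟩ := mkU_rep w hw0 hw1
  set s := mkU w hw0 hw1
  have hs : s ∈ Nb uop V.A := (nbU_iff _ _).2 ⟨fun e' => by
      have h1 := congrArg (fun p => uh p.1.rep V.B.1.rep) e'
      simp only [hk, uh_smul_left, hwB, mul_zero] at h1
      exact hAB h1.symm, by
    rw [hk, uh_smul_right, hw, uh_add_right, uh_smul_right, hrA.2, V.A.2, mul_zero, add_zero, mul_zero]⟩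
  have hsS : V.τ s ∈ Sc f a := (V.mem_iff X.hS hs).2 ((uop_eq_iff _ _).2 (by
    rw [hk, uh_smul_right, uh_zero_iff.1 hwB, mul_zero]))
  refine ⟨V.τ s, V.bij.mapsTo hs, hsS, twin_line (V.bij.mapsTo hr) (V.bij.mapsTo hs) fun u hu hru => ?_⟩
  obtain ⟨u', hu', rfl⟩ := V.bij.surjOn hu
  obtain ⟨h1, h2⟩ := V.τ_op X.hS C hr hu'
  obtain ⟨h3, h4⟩ := V.τ_op X.hS C hs hu'
  have h5 := (uop_eq_iff _ _).1 (V.bij.injOn h1 hu' (h2.trans hru))
  rw [← h4]
  refine congrArg V.τ ((uop_eq_iff _ _).2 ?_)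
  rw [hk, uh_smul_left, hw, uh_add_left, uh_smul_left, h5, ((nbU_iff _ _).1 hu').2, mul_zero, add_zero,
    mul_zero]

end CfsgLib.FischerClass
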