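import Cfsg.Agent.Lib.FischerClass.SympSpace
import Cfsg.Agent.Lib.FischerClass.SymShape
import Cfsg.Agent.Lib.FischerClass.UnitSpace
import Cfsg.Agent.Lib.FischerClass.OrthTwoCase
import Cfsg.Agent.Lib.FischerClass.OrthThreeGroup
import Cfsg.Agent.Lib.FischerClass.OrthModel
import Cfsg.Agent.Lib.Fischer.SympClass
import Cfsg.Agent.Lib.Fischer.UnitaryClass
import Cfsg.Agent.Lib.FischerO2.Model
import Cfsg.Agent.S0439

/-!
The standard classes of 3-transpositions with their coordinates.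
-/

set_option autoImplicit false
set_option linter.style.haveILetI false
set_option linter.unusedSectionVars false

namespace CfsgLib.FischerClass

open Cfsg
open CfsgLib.HePres (K4)
open CfsgLib.ThreeTransp CfsgLib.ThreeTransp.Relations

attribute [local instance] _root_.Classical.propDecidable

/-- The transpositions. -/
abbrev SymE (n : ℕ) : Set (Equiv.Perm (Fin n)) := {σ | σ.IsSwap}

/-- The symplectic transvections. -/
abbrev SpE (m : ℕ) : Set (Matrix.symplecticGroup (Fin m) (ZMod 2)) :=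
  {g | ((g : Matrix (Fin m ⊕ Fin m) (Fin m ⊕ Fin m) (ZMod 2)) - 1).rank = 1}

/-- The images of the unitary transvections. -/
abbrev PsuE (n : ℕ) : Set (Cfsg.PSU n K4 2) :=
  (QuotientGroup.mk : ↥(Cfsg.SU n K4 2) → Cfsg.PSU n K4 2) ''
    {g | (((g : Matrix.SpecialLinearGroup (Fin n) K4) : Matrix (Fin n) (Fin n) K4) - 1).rank = 1}

/-- The orthogonal transvections. -/
abbrev OTwoE {ι : Type} [Fintype ι] [DecidableEq ι] (Q : QuadraticForm (ZMod 2) (ι → ZMod 2)) :
    Set (Orth.Grp Q) :=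
  {g | (((g : GL ι (ZMod 2)) : Matrix ι ι (ZMod 2)) - 1).rank = 1}

/-- A class with a coordinate map. -/
def HasModel {H : Type*} [Group H] (E : Set H) {P : Type*} (op : P → P → P) : Prop :=
  Base E ∧ ∃ f : P → H, Pm E op f

theorem HasModel.pm {G H : Type*} [Group G] [Group H] {D : Set G} {E : Set H} {P : Type*}
    {op : P → P → P} (h : HasModel E op) (e : G ≃* H) (he : e '' D = E) :
    ∃ f : P → G, Pm D op f := by
  obtain ⟨-, f, C⟩ := h
  exact ⟨e.symm ∘ f, C.map e.symm (by rw [← he, ← Set.image_comp]; simp)⟩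

/-- Two classes with coordinates in the same operation are isomorphic. -/
theorem HasModel.iso {G H : Type*} [Group G] [Group H] {D : Set G} {E : Set H} {P : Type*}
    {op : P → P → P} (h : HasModel E op) (hD : IsThreeTranspositionGroup D) (hZ : Subgroup.center G = ⊥)
    {f : P → G} (C : Pm D op f) : ∃ e : G ≃* H, e '' D = E := by
  obtain ⟨Y, f', C'⟩ := h
  obtain ⟨e, he, -⟩ := C.iso hD.2.2 Y.hD.2.2 hZ Y.hZ (fun y hy => mul_self_eq_one hD.1 hy)
    (fun y hy => mul_self_eq_one Y.hS hy) C'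
  exact ⟨e, he⟩

theorem sym_model (n : ℕ) (hn : 3 ≤ n) : HasModel (SymE n) (sop (n := n)) := by
  have hcls := Cfsg.Agent.S0439.result n (by omega)
  refine ⟨⟨class_isGroup hcls, hcls, (Subgroup.eq_bot_iff_forall _).2 fun z hz => Equiv.ext fun i => ?_⟩,
    Subtype.val, ⟨Subtype.val_injective, Subtype.range_val, fun p q => ?_⟩⟩
  swap
  · show p.1 * q.1 * p.1⁻¹ = p.1 * q.1 * p.1
    rw [inv_eq_self hcls.1 p.2]
  by_contra hne
  obtain ⟨k, hk⟩ : ∃ k, k ∉ ({i, z i} : Finset (Fin n)) := exists_avoid _ (by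
    have := Finset.card_le_two (a := i) (b := z i)
    omega)
  simp only [Finset.mem_insert, Finset.mem_singleton, not_or] at hk
  have h := congrArg (fun g : Equiv.Perm (Fin n) => g i) (Subgroup.mem_center_iff.1 hz (Equiv.swap (z i) k))
  simp only [Equiv.Perm.mul_apply, Equiv.swap_apply_left] at h
  rw [Equiv.swap_apply_of_ne_of_ne (fun e => hne (by simpa using e.symm)) (fun e => hk.1 e.symm)] at h
  exact hk.2 h

section Symp

open CfsgLib.Classical.SympTrans

variable {m : ℕ}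

theorem sT_inj {v w : SV m} (hv : v ≠ 0) (h : T v (1 : ZMod 2) = T w 1) : v = w := by
  obtain ⟨x, hx⟩ : ∃ x, sw x v ≠ 0 := by
    by_contra hall
    push Not at hall
    exact hv (sw_nondeg hall)
  have h1 := congrArg (fun g => app g x) h
  simp only [app_T, one_mul, add_right_inj] at h1
  change sw x v • v = sw x w • w at h1
  rw [(two_cases _).resolve_left hx, one_smul] at h1
  rcases two_cases (sw x w) with h2 | h2 <;> rw [h2] at h1
  · exact absurd (h1.trans (zero_smul _ _)) hv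
  · exact h1.trans (one_smul _ _)

theorem sT_rank {v : SV m} (hv : v ≠ 0) :
    (((T v (1 : ZMod 2) : Matrix.symplecticGroup (Fin m) (ZMod 2)) :
      Matrix (Fin m ⊕ Fin m) (Fin m ⊕ Fin m) (ZMod 2)) - 1).rank = 1 := by
  set φ : SV m := fun i => sw (Pi.single i 1) v with hφ
  have hlin : ∀ x, sw x v = φ ⬝ᵥ x := by
    intro x
    simp only [hφ, sw, sympForm, dotProduct]
    refine Finset.sum_congr rfl fun j _ => ?_
    rw [Finset.sum_eq_single j (fun k _ hk => by rw [Pi.single_eq_of_ne hk, zero_mul])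
      (fun h => absurd (Finset.mem_univ j) h), Pi.single_eq_same, one_mul, mul_comm]
  have hM := Fischer.sub_eq_of_apply (M := ((T v (1 : ZMod 2) : Matrix.symplecticGroup (Fin m) (ZMod 2)) :
    Matrix (Fin m ⊕ Fin m) (Fin m ⊕ Fin m) (ZMod 2))) (a := v) (φ := φ) fun x => by
      have h := app_T v (1 : ZMod 2) x
      rw [one_mul, show sympForm m (ZMod 2) x v = φ ⬝ᵥ x from hlin x] at h
      exact h
  rw [hM]
  refine Fischer.rank_vecMulVec_eq_one hv fun e => hv (sw_nondeg fun x => ?_)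
  rw [hlin, e, zero_dotProduct]

theorem symp_model (hm : 1 ≤ m) : HasModel (SpE m) (pop (m := m)) := by
  have hcls := Fischer.symplectic_class m hm
  let v₀ : SV m := Pi.single (.inl ⟨0, hm⟩) 1
  have hv₀ : v₀ ≠ 0 := fun e => one_ne_zero (α := ZMod 2) (by
    simpa [v₀] using congrFun e (.inl ⟨0, hm⟩))
  have hsurj : ∀ g ∈ SpE m, ∃ v, v ≠ 0 ∧ T v 1 = g := by
    intro g hg
    obtain ⟨h, rfl⟩ := class_exists_conj hcls (show T v₀ 1 ∈ SpE m from sT_rank hv₀) hg
    exact ⟨app h v₀, app_ne_zero h hv₀, (conj_T h v₀ 1).symm⟩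
  have hinv : ∀ u : SV m, (T u (1 : ZMod 2))⁻¹ = T u 1 := fun u =>
    inv_eq_of_mul_eq_one_right (by rw [T_mul, show (1 : ZMod 2) + 1 = 0 from rfl, T_zero])
  refine ⟨⟨class_isGroup hcls, hcls, (Subgroup.eq_bot_iff_forall _).2 fun z hz => ext_app fun v => ?_⟩,
    fun p => T p.1 1, ⟨fun p q h => Subtype.ext (sT_inj p.2 h), ?_, fun p q => ?_⟩⟩
  · rw [app_one]
    by_cases hv : v = 0
    · rw [hv]; exact Matrix.mulVec_zero _
    · refine sT_inj (app_ne_zero z hv) ?_
      rw [← conj_T, ← Subgroup.mem_center_iff.1 hz, mul_inv_cancel_right]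
  · ext g
    refine ⟨?_, fun hg => ?_⟩
    · rintro ⟨p, rfl⟩; exact sT_rank p.2
    · obtain ⟨v, hv, e⟩ := hsurj g hg
      exact ⟨⟨v, hv⟩, e⟩
  · show T (pop p q).1 1 = T p.1 1 * T q.1 1 * T p.1 1
    have h := conj_T (T p.1 (1 : ZMod 2)) q.1 (1 : ZMod 2)
    rw [hinv, app_T, one_mul] at h
    rw [h, pop_val]

end Symp

section Unit

open CfsgLib.Classical.Herm (app IsT exists_T app_mul app_one ext_app)

variable {n : ℕ}

theorem uT_rank (K : CfsgLib.ClassicalAut.Unitary.Conj K4 2) {g : Cfsg.SU n K4 2} {v : UV n} (hv : v ≠ 0)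
    (hg : IsT K g v 1) :
    (((g : Matrix.SpecialLinearGroup (Fin n) K4) : Matrix (Fin n) (Fin n) K4) - 1).rank = 1 := by
  have hM : ((g : Matrix.SpecialLinearGroup (Fin n) K4) : Matrix (Fin n) (Fin n) K4) - 1 =
      Matrix.vecMulVec v (fun i => v i ^ 2) :=
    Fischer.sub_eq_of_apply fun x => by
      refine (hg.2.2 x).trans ?_
      rw [one_mul]
      congr 2
      simp only [hermForm, dotProduct, mul_comm]
  rw [hM]
  refine Fischer.rank_vecMulVec_eq_one hv fun e => hv (funext fun i => ?_)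
  exact (pow_eq_zero_iff (by norm_num)).1 (congrFun e i)

theorem psu_model (hn : 4 ≤ n) : HasModel (PsuE n) (uop (n := n)) := by
  have hF : Fintype.card K4 = 4 := K4.card_eq
  haveI : Fact (Nat.Prime 2) := ⟨Nat.prime_two⟩
  haveI := FischerO2.F4.charTwo hF
  obtain ⟨K⟩ := FischerO2.exists_conjF hF
  have hcls := Fischer.unitary_class hF hn
  set π := QuotientGroup.mk' (Subgroup.center (Cfsg.SU n K4 2))
  have hT : ∀ p : UP n, ∃ g, IsT K g p.1.rep 1 := fun p => exists_T K p.2 (FischerO2.isT_one_add hF K)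
  choose T hT using hT
  have hmk : ∀ {g : Cfsg.SU n K4 2} {v : UV n} (h0 : v ≠ 0) (h1 : uh v v = 0), IsT K g v 1 → T (mkU v h0 h1) = g := by
    intro g v h0 h1 hg
    obtain ⟨c, hc, ec⟩ := mkU_rep v h0 h1
    exact (FischerO2.isT_unique K hg (hT _) (FischerO2.F4.cube hF hc) ec).symm
  -- two members that do not commute
  let v₀ : UV n := Pi.single ⟨0, by omega⟩ 1 + Pi.single ⟨1, by omega⟩ 1
  have hab : (⟨0, by omega⟩ : Fin n) ≠ ⟨1, by omega⟩ := fun e => by simp at e
  have hv₀ : v₀ ≠ 0 := fun e => one_ne_zero (α := K4) (by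
    simpa [v₀, hab] using congrFun e ⟨0, by omega⟩)
  have hvv : uh v₀ v₀ = 0 := by
    rw [uh_add_left, uh_add_right, uh_add_right]
    simp [uh, hermForm, Pi.single_apply, hab, hab.symm, k4_add]
  obtain ⟨u, huu, huv⟩ := FischerO2.exists_iso_vec hF (by omega : 2 ≤ n) hv₀
  have hu0 : u ≠ 0 := fun e => huv (by rw [e]; exact uh_zero_left v₀)
  have hnc : ¬ Commute (π (T (mkU u hu0 huu))) (π (T (mkU v₀ hv₀ hvv))) := fun h => huv (by
    have h' := (FischerO2.isT_comm_iff hF K (by omega) (hT _) (hT _) (Projectivization.rep_nonzero _)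
      (Projectivization.rep_nonzero _)).1 h
    obtain ⟨a, ha, ea⟩ := mkU_rep u hu0 huu
    obtain ⟨b, hb, eb⟩ := mkU_rep v₀ hv₀ hvv
    rw [ea, eb] at h'
    change uh (a • u) (b • v₀) = 0 at h'
    rw [uh_smul_left, uh_smul_right] at h'
    simpa [ha, hb] using h')
  haveI : IsSimpleGroup (Cfsg.PSU n K4 2) :=
    Classical.Herm.isSimpleGroup K 2 (by omega) (fun h => by omega)
  have hZ : Subgroup.center (Cfsg.PSU n K4 2) = ⊥ :=
    (Subgroup.Normal.eq_bot_or_eq_top (inferInstance : (Subgroup.center _).Normal)).resolve_right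
      fun h => hnc (Subgroup.mem_center_iff.1 (h ▸ Subgroup.mem_top _) _)
  set p₀ := mkU v₀ hv₀ hvv
  have hsurj : ∀ g : Cfsg.SU n K4 2, (((g : Matrix.SpecialLinearGroup (Fin n) K4) :
      Matrix (Fin n) (Fin n) K4) - 1).rank = 1 → ∃ p, T p = g := by
    intro g hg
    obtain ⟨s, rfl⟩ := class_exists_conj hcls (uT_rank K p₀.1.rep_nonzero (hT p₀)) hg
    have h := FischerO2.isT_conj K (hT p₀) s
    exact ⟨mkU (app s p₀.1.rep) (fun e => p₀.1.rep_nonzero (by
      rw [← Classical.Herm.app_inv s p₀.1.rep, e]; exact Matrix.mulVec_zero _)) h.1, hmk _ _ h⟩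
  have hne : ∀ p, π (T p) ≠ 1 := fun p e => hnc (by
    obtain ⟨s, hs⟩ := class_exists_conj hcls (uT_rank K p.1.rep_nonzero (hT p))
      (uT_rank K p₀.1.rep_nonzero (hT p₀))
    rw [← hs, map_mul, map_mul, e, mul_one, map_inv, mul_inv_cancel]
    exact Commute.one_right _)
  have hcls' : IsThreeTranspositionClass (PsuE n) :=
    class_image π (QuotientGroup.mk'_surjective _) hcls fun g hg => by
      obtain ⟨p, rfl⟩ := hsurj g hg
      exact hne p
  refine ⟨⟨class_isGroup hcls', hcls', hZ⟩, fun p => π (T p), ⟨fun p q h => ?_, ?_, fun p q => ?_⟩⟩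
  · obtain ⟨c, hc⟩ := FischerO2.isT_inj hF K (by omega) (hT p) (hT q) p.1.rep_nonzero q.1.rep_nonzero h
    exact (eq_of_rep hc).symm
  · ext y
    refine ⟨?_, ?_⟩
    · rintro ⟨p, rfl⟩
      exact ⟨T p, uT_rank K p.1.rep_nonzero (hT p), rfl⟩
    · rintro ⟨g, hg, rfl⟩
      obtain ⟨p, rfl⟩ := hsurj g hg
      exact ⟨p, rfl⟩
  · show π (T (uop p q)) = π (T p) * π (T q) * π (T p)
    rw [← map_mul, ← map_mul]
    refine congrArg π (hmk _ _ ?_)
    have h := FischerO2.isT_conj K (hT q) (T p)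
    rw [inv_eq_of_mul_eq_one_right (FischerO2.isT_sq hF K (hT p)), (hT p).2.2, one_mul] at h
    exact h

end Unit

section OrthTwo

open CfsgLib.Orth

variable {ι : Type} [Fintype ι] [DecidableEq ι] {Q : QuadraticForm (ZMod 2) (ι → ZMod 2)}

local notation "B" => QuadraticMap.polar (DFunLike.coe Q)

theorem otwo_model (hB : Nondeg Q) (hn : 6 ≤ Fintype.card ι) : HasModel (OTwoE Q) (oop (Q := Q)) := by
  have hn' : 6 ≤ Module.finrank (ZMod 2) (ι → ZMod 2) := by rwa [Module.finrank_fintype_fun_eq_card]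
  have hcls := Fischer.orth_class hB hn'
  choose T hT using fun v : OV Q => exists_refl hB (show Q v.1 ≠ 0 by rw [v.2]; exact one_ne_zero)
  have hTinj : ∀ v w, T v = T w → v = w := fun v w e => Subtype.ext (refl_vec hB v.2 (hT v) (e ▸ hT w))
  refine ⟨⟨class_isGroup hcls, hcls, (Subgroup.eq_bot_iff_forall _).2 fun z hz => ext_ap fun x => ?_⟩,
    T, ⟨hTinj, ?_, fun p q => ?_⟩⟩
  · have hfix : ∀ v, Q v = 1 → ap z v = v := fun v hv => by
      have h := refl_conj (hT ⟨v, hv⟩) z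
      rw [← Subgroup.mem_center_iff.1 hz (T ⟨v, hv⟩), mul_inv_cancel_right] at h
      exact refl_vec hB (by rw [ap_q, hv]) h (hT ⟨v, hv⟩)
    rw [ap_one]
    rcases zmod_two (Q x) with hx | hx
    swap
    · exact hfix x hx
    by_cases hx0 : x = 0
    · have h := ap_smul z (0 : ZMod 2) x
      rw [zero_smul, zero_smul] at h
      rwa [hx0]
    obtain ⟨w, hw1, hw2⟩ : ∃ w, B w x = 0 ∧ Q w = 1 := by
      by_contra hc
      push Not at hc
      have hQ0 : ∀ w, B w x = 0 → Q w = 0 := fun w hw => (zmod_two _).resolve_right (hc w hw)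
      obtain ⟨z', hz'⟩ : ∃ z', B z' x = 1 := by
        by_contra h
        push Not at h
        exact hx0 (hB x fun y => by rw [b_comm, (zmod_two _).resolve_right (h y)])
      obtain ⟨w, hw, hws⟩ := exists_orth_out {x} {x} (show _ + _ < Fintype.card ι by simp; omega)
      have hwx : B w x = 0 := hw x (Finset.mem_singleton_self x)
      refine hws ?_
      have h0 : w + B z' w • x = 0 := hB _ fun y => by
        have h1 : B (y + B y x • z') x = 0 := by
          rw [b_add_left, b_smul_left, hz', mul_one]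
          exact (by decide : ∀ t : ZMod 2, t + t = 0) _
        have h2 := hQ0 (y + B y x • z' + w) (by rw [b_add_left, h1, hwx, add_zero])
        rw [q_add, hQ0 _ h1, hQ0 _ hwx, zero_add, zero_add, b_add_left, b_smul_left] at h2
        rw [b_add_left, b_smul_left, b_comm x y, b_comm w y]
        linear_combination h2
      have h1 : w = -(B z' w • x) := eq_neg_of_add_eq_zero_left h0
      rw [h1, Finset.coe_singleton]
      exact Submodule.neg_mem _ (Submodule.smul_mem _ _ (Submodule.mem_span_singleton_self x))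
    have h := hfix (x + w) (by rw [q_add, hx, hw2, b_comm, hw1]; decide)
    rw [ap_add, hfix w hw2] at h
    exact add_right_cancel h
  · ext g
    refine ⟨?_, fun hg => ?_⟩
    · rintro ⟨v, rfl⟩
      exact (Fischer.rank_one_iff hB _).2 ⟨v.1, v.2, hT v⟩
    · obtain ⟨v, hv, h⟩ := (Fischer.rank_one_iff hB g).1 hg
      exact ⟨⟨v, hv⟩, refl_unique (hT ⟨v, hv⟩) h⟩
  · have h := refl_conj (hT q) (T p)
    rw [refl_inv (hT p), Fischer.refl_apply_two (hT p)] at h
    exact refl_unique (hT (oop p q)) h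

end OrthTwo

theorem po_model {ι : Type} [Fintype ι] [DecidableEq ι] {Q : QuadraticForm (ZMod 3) (ι → ZMod 3)}
    (hB : Orth.Nondeg Q) (hn : 5 ≤ Fintype.card ι) : HasModel (EG Q) (rop (Q := Q)) := by
  obtain ⟨T, M⟩ := exists_model hB hn
  refine ⟨M.base, fun p => T p.1.rep, ⟨fun p q h => ?_, ?_, fun p q => ?_⟩⟩
  · obtain ⟨c, hc⟩ := (M.inj _ _ p.2 q.2).1 h
    exact rp_eq hc.symm
  · ext y
    refine ⟨?_, fun hy => ?_⟩
    · rintro ⟨p, rfl⟩; exact M.mem _ p.2
    · obtain ⟨v, hv, rfl⟩ := M.surj y hy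
      obtain ⟨c, -, hc⟩ := mkR_rep v hv
      exact ⟨mkR v hv, (M.inj _ _ (mkR v hv).2 hv).2 ⟨c, hc.symm⟩⟩
  · have hn := refl_norm (Q := Q) p.2 q.2
    obtain ⟨c, -, hc⟩ := mkR_rep _ hn
    show T (rop p q).1.rep = _
    rw [M.flip _ _ p.2 q.2]
    exact (M.inj _ _ (rop p q).2 hn).2 ⟨c, hc.symm⟩

end CfsgLib.FischerClass
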