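import Cfsg.Agent.Lib.FischerClass.Connected
import Cfsg.Agent.Lib.ThreeTransp.Main
import Cfsg.Agent.Lib.ThreeTransp.WidthOne

/-!
The quotient of the perp group by its centre again satisfies the standing hypotheses.
-/

set_option autoImplicit false
set_option linter.style.haveILetI false
set_option linter.unusedSectionVars false

namespace CfsgLib.FischerClass

open Cfsg
open CfsgLib.ThreeTransp CfsgLib.ThreeTransp.Relations

variable {G : Type*} [Group G] [Finite G] {D : Set G}

/-- The standing hypotheses follow from primitivity, width at least two and a trivial centre. -/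
theorem Ctx.of (hD : IsThreeTranspositionGroup D) (hprim : IsPrimitiveUnderConj D)
    (hZ : Subgroup.center G = ⊥) (hw : ∃ a ∈ D, ∃ b ∈ D, a ≠ b ∧ Commute a b) : Ctx D := by
  haveI : Fact (Nat.Prime 2) := ⟨Nat.prime_two⟩
  exact ⟨hD, hprim, hZ, sep_of_pCore hD.1 hD.2.1 (le_bot_iff.1 (hZ ▸ pCore_two_le_center hD hprim)), hw⟩

theorem center_eq_bot_of_pCore {A : Type*} [Group A] [Finite A]
    (h : ∀ p : ℕ, p.Prime → Cfsg.pCore p A = ⊥) : Subgroup.center A = ⊥ := by
  refine (Subgroup.eq_bot_iff_card _).2 ?_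
  by_contra hne
  obtain ⟨p, hp, hdvd⟩ := Nat.exists_prime_and_dvd hne
  haveI := Fact.mk hp
  obtain ⟨z, hz⟩ := exists_prime_orderOf_dvd_card' (G := Subgroup.center A) p hdvd
  have hzA : orderOf (z : A) = p := by rw [Subgroup.orderOf_coe, hz]
  have hn : (Subgroup.zpowers (z : A)).Normal := ⟨fun u hu g => by
    obtain ⟨i, rfl⟩ := Subgroup.mem_zpowers_iff.1 hu
    rw [Subgroup.mem_center_iff.1 (Subgroup.zpow_mem _ z.2 i) g]
    simp⟩
  have hp' : IsPGroup p (Subgroup.zpowers (z : A)) :=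
    IsPGroup.of_card (n := 1) (by rw [Nat.card_zpowers, hzA, pow_one])
  have hmem := Fitting.le_pCore hn hp' (Subgroup.mem_zpowers (z : A))
  rw [h p hp, Subgroup.mem_bot] at hmem
  rw [hmem, orderOf_one] at hzA
  exact hp.one_lt.ne hzA

namespace Ctx

variable (X : Ctx D) {d : G} (hd : d ∈ D)
include X hd

theorem nbr_nonempty : (nbr D d).Nonempty := by
  obtain ⟨a, ha, b, hb, hab, hcm⟩ := X.hw
  obtain ⟨g, rfl⟩ := X.exists_conj ha hd
  exact ⟨g * b * g⁻¹, conj_mem_nbr_of (X := X) g ⟨hb, hab.symm, hcm⟩⟩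
where
  conj_mem_nbr_of {a b : G} (X : Ctx D) (g : G) (h : b ∈ nbr D a) : g * b * g⁻¹ ∈ nbr D (g * a * g⁻¹) := by
    rw [← image_nbr X.hc a g]; exact ⟨b, h, rfl⟩

theorem perp_noncomm : ∃ x y : ↥(perpGroup D d), ¬ Commute x y := by
  obtain ⟨y, hy⟩ := X.nbr_nonempty hd
  obtain ⟨u, hu, hyu⟩ := exists_not_commute_nbr X.cls X.hsep hd hy
  exact ⟨⟨y, Subgroup.subset_closure hy⟩, ⟨u, Subgroup.subset_closure hu⟩, fun h => hyu (h.map (Subgroup.subtype _))⟩

theorem perp_class : IsThreeTranspositionClass (perpImage D d) :=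
  perpImage_isClass X.cls X.hprim X.hsep hd (X.perp_noncomm hd)

theorem proj_commute {y z : ↥(perpGroup D d)} (hy : (y : G) ∈ nbr D d) (hz : (z : G) ∈ nbr D d) :
    Commute (proj D d y) (proj D d z) ↔ Commute (y : G) (z : G) := by
  refine ⟨fun h => ?_, fun h => (show Commute y z from Subtype.ext h.eq).map _⟩
  rcases eq_or_ne (proj D d y) (proj D d z) with e | e
  · rw [proj_injective X.cls X.hsep hd hy hz e]
  · exact (((eq_or_commute_of_map_commute (proj D d) (restrict_set X.hS (perpGroup D d)) hy.1 hz.1 h).resolve_left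
      e)).map (perpGroup D d).subtype

/-- The perp quotient again satisfies the hypotheses. -/
theorem perp_ctx (h2 : Cfsg.pCore 2 ↥(perpGroup D d) ≤ Subgroup.center _)
    (h3 : Cfsg.pCore 3 ↥(perpGroup D d) ≤ Subgroup.center _) :
    Ctx (perpImage D d) ∧
      (∀ p : ℕ, p.Prime → Cfsg.pCore p (PerpQuot D d) = ⊥) ∧ ¬ Group.IsSolvable (PerpQuot D d) ∧
      ⁅commutator (PerpQuot D d), commutator (PerpQuot D d)⁆ = commutator (PerpQuot D d) := by
  classical
  have hcore : ∀ p : ℕ, p.Prime → Cfsg.pCore p (PerpQuot D d) = ⊥ := fun p hp =>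
    haveI := Fact.mk hp
    pCore_perpQuot X.cls h2 h3 p
  have hX := X.perp_class hd
  have hZq := center_eq_bot_of_pCore hcore
  have hD2 : ∃ a ∈ perpImage D d, ∃ b ∈ perpImage D d, a ≠ b := by
    obtain ⟨y, hy⟩ := X.nbr_nonempty hd
    obtain ⟨u, hu, hyu⟩ := exists_not_commute_nbr X.cls X.hsep hd hy
    refine ⟨_, ⟨⟨y, Subgroup.subset_closure hy⟩, hy, rfl⟩, _, ⟨⟨u, Subgroup.subset_closure hu⟩, hu, rfl⟩,
      fun e => hyu ?_⟩
    exact (X.proj_commute hd (y := ⟨y, Subgroup.subset_closure hy⟩) (z := ⟨u, Subgroup.subset_closure hu⟩)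
      hy hu).1 (show Commute (proj D d _) (proj D d _) by rw [show proj D d _ = proj D d _ from e])
  have q2 : Cfsg.pCore 2 (PerpQuot D d) ≤ Subgroup.center _ := by rw [hcore 2 Nat.prime_two]; exact bot_le
  have q3 : Cfsg.pCore 3 (PerpQuot D d) ≤ Subgroup.center _ := by rw [hcore 3 Nat.prime_three]; exact bot_le
  obtain ⟨hL, -, -⟩ := layer_structure hX hD2 q2 q3
  haveI : (Cfsg.layer (PerpQuot D d)).Normal := CfsgLib.Layer.layer_normal
  have hns : ¬ Group.IsSolvable (PerpQuot D d) := fun h => by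
    haveI := h
    exact CfsgLib.Layer.not_isSolvable_of_isComponent hL inferInstance
  have hsepX : Sep (perpImage D d) :=
    sep_of_pCore hX.1 (class_conjClosed hX) (hcore 2 Nat.prime_two)
  -- connectedness: the piece of a member is everything
  have hconn : ∀ u ∈ nbr D d, ∀ v ∈ nbr D d,
      Relation.ReflTransGen (fun x y => Commute x y ∧ x ∈ nbr D d ∧ y ∈ nbr D d) u v := by
    by_cases hpath : ∃ x ∈ nbr D d, ∃ w ∈ nbr D d, ∃ z ∈ nbr D d,
        Commute x w ∧ Commute z w ∧ ¬ Commute x z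
    · obtain ⟨x, hx, w, hw, z, hz, hxw, hzw, hxz⟩ := hpath
      set R := Relation.ReflTransGen (fun a b => Commute a b ∧ a ∈ nbr D d ∧ b ∈ nbr D d) with hR
      have hall : {y | y ∈ nbr D d ∧ R x y} = nbr D d := by
        refine piece_eq_all X hd (fun y hy => hy.1) (fun a ha b hb hbU hab =>
          hbU ⟨hb, ha.2.tail ⟨hab, ha.1, hb⟩⟩) (x := x) (z := z) (w := w)
          ⟨hx, Relation.ReflTransGen.refl⟩ ?_ ⟨hw, Relation.ReflTransGen.single ⟨hxw, hx, hw⟩⟩ hxz hxw hzw
        exact ⟨hz, (Relation.ReflTransGen.single ⟨hxw, hx, hw⟩).tail ⟨hzw.symm, hw, hz⟩⟩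
      intro u hu v hv
      have hxu : R x u := ((Set.ext_iff.1 hall u).2 hu).2
      have hxv : R x v := ((Set.ext_iff.1 hall v).2 hv).2
      refine Relation.ReflTransGen.trans ?_ hxv
      have hsym : ∀ u v, R u v → R v u := by
        intro u v h
        induction h with
        | refl => exact Relation.ReflTransGen.refl
        | tail _ hyz ih => exact (Relation.ReflTransGen.single ⟨hyz.1.symm, hyz.2.2, hyz.2.1⟩).trans ih
      exact hsym _ _ hxu
    · exfalso
      push Not at hpath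
      refine hns (isSolvable_of_no_commuting hX.1 (class_conjClosed hX) hX.2.2 ?_)
      rintro _ ⟨a, ha, rfl⟩ _ ⟨b, hb, rfl⟩ hab
      have hab' := (X.proj_commute hd ha hb).1 hab
      refine hsepX _ ⟨a, ha, rfl⟩ _ ⟨b, hb, rfl⟩ ?_
      rintro _ ⟨c, hc, rfl⟩
      show Commute (proj D d a) (proj D d c) ↔ Commute (proj D d b) (proj D d c)
      rw [X.proj_commute hd ha hc, X.proj_commute hd hb hc]
      refine ⟨fun h => ?_, fun h => ?_⟩
      · exact hpath b hb a ha c hc hab'.symm h.symm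
      · exact hpath a ha b hb c hc hab' h.symm
  have hcX := class_conjClosed hX
  have hgconn : (commutingGraph (perpImage D d)).Connected := by
    obtain ⟨y₀, hy₀⟩ := X.nbr_nonempty hd
    haveI : Nonempty (perpImage D d) := ⟨⟨_, ⟨⟨y₀, Subgroup.subset_closure hy₀⟩, hy₀, rfl⟩⟩⟩
    refine SimpleGraph.Connected.mk ?_
    rintro ⟨_, a, ha, rfl⟩ ⟨_, b, hb, rfl⟩
    have h := hconn _ ha _ hb
    suffices ∀ v, Relation.ReflTransGen (fun x y => Commute x y ∧ x ∈ nbr D d ∧ y ∈ nbr D d) (a : G) v →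
        ∀ (hv : v ∈ nbr D d), (commutingGraph (perpImage D d)).Reachable ⟨proj D d a, a, ha, rfl⟩
          ⟨proj D d ⟨v, Subgroup.subset_closure hv⟩, ⟨v, Subgroup.subset_closure hv⟩, hv, rfl⟩ by
      exact this b h hb
    intro v hrel
    induction hrel with
    | refl => exact fun _ => SimpleGraph.Reachable.refl _
    | @tail y z _ hyz ih =>
      intro hz
      refine (ih hyz.2.1).trans ?_
      rcases eq_or_ne y z with rfl | hne
      · exact SimpleGraph.Reachable.refl _
      · refine SimpleGraph.Adj.reachable ?_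
        rw [commutingGraph, SimpleGraph.fromRel_adj]
        refine ⟨fun e => hne ?_, Or.inl ?_⟩
        · exact congrArg Subtype.val (proj_injective X.cls X.hsep hd hyz.2.1 hz (congrArg Subtype.val e))
        · exact (show Commute (⟨y, Subgroup.subset_closure hyz.2.1⟩ : ↥(perpGroup D d))
            ⟨z, Subgroup.subset_closure hz⟩ from Subtype.ext hyz.1.eq).map _
  have hidx := index_le_two_of_connected hX hL hgconn
  have hprimX := primitive_of_index_le_two hX hD2 q2 q3 hL hidx
  refine ⟨Ctx.of (class_isGroup hX) hprimX hZq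
    (exists_commuting_pair hX.1 hcX hX.2.2 hns), hcore, hns, ?_⟩
  have hle : commutator (PerpQuot D d) ≤ Cfsg.layer (PerpQuot D d) := by
    rcases eq_or_ne (Cfsg.layer (PerpQuot D d)).index 1 with h | h
    · rw [Subgroup.index_eq_one.1 h]; exact le_top
    have h2 : (Cfsg.layer (PerpQuot D d)).index = 2 := by
      have := Nat.pos_of_ne_zero (Subgroup.index_ne_zero_of_finite (H := Cfsg.layer (PerpQuot D d)))
      omega
    rw [commutator_def, Subgroup.commutator_le]
    intro a _ b _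
    rw [commutatorElement_def, Subgroup.mul_mem_iff_of_index_two h2, Subgroup.mul_mem_iff_of_index_two h2,
      Subgroup.mul_mem_iff_of_index_two h2, inv_mem_iff, inv_mem_iff]
    tauto
  have hperf : ⁅Cfsg.layer (PerpQuot D d), Cfsg.layer (PerpQuot D d)⁆ = Cfsg.layer (PerpQuot D d) :=
    CfsgLib.Layer.isPerfect_of_isComponent hL
  have heq : commutator (PerpQuot D d) = Cfsg.layer (PerpQuot D d) :=
    le_antisymm hle (hperf ▸ Subgroup.commutator_mono le_top le_top)
  rw [heq, hperf]

end Ctx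

end CfsgLib.FischerClass
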