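import Cfsg.Agent.Lib.FischerClass.MathieuTwentyFourSetting
import Cfsg.Agent.Lib.FischerClass.Frame

/-!
No class has a perp quotient of type M(24).
-/

set_option autoImplicit false
set_option linter.unusedSectionVars false
set_option maxRecDepth 100000
set_option linter.style.longLine false

namespace CfsgLib.FischerClass

open Cfsg Cfsg.Spor
open CfsgLib.ThreeTransp CfsgLib.ThreeTransp.Relations
open CfsgLib.CosetEnum (allUp allUp_spec popc)
open CfsgLib.Fi23Pres (rho certA)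
open CfsgLib.M24 (Pt tp smallMid comB comB_smul PerpSet nbrIn mask_card shape_size perpSet_nine shape act_smul)

/-- one standard point, five standard neighbours of it, and for every point not commuting with the first one of
the five not commuting with it -/
noncomputable def noneOK : Bool :=
  smallMid.testBit 8006 && Nat.blt 8006 certA.N &&
  ([0, 1, 224, 2, 5].all fun w => smallMid.testBit w && Nat.blt w certA.N && !Nat.beq w 8006 && comB 8006 w) &&
  allUp (fun y => !(Nat.blt y certA.N) || comB 8006 y || [0, 1, 224, 2, 5].any fun w => !comB w y) 15 0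

theorem none_ok : noneOK = true := by decide +kernel

variable {G : Type*} [Group G] [Finite G] {D : Set G}

/-- the members seen by three -/
abbrev trio (D : Set G) (a b e : G) : Set G := nbr D a ∩ nbr D b ∩ nbr D e

theorem trio_conj (hc : IsConjClosed D) (g a b e : G) :
    (fun z => g * z * g⁻¹) '' trio D a b e = trio D (g * a * g⁻¹) (g * b * g⁻¹) (g * e * g⁻¹) := by
  have hinj : Function.Injective fun z => g * z * g⁻¹ := fun u v h => mul_left_cancel (mul_right_cancel h)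
  rw [trio, Set.image_inter hinj, Set.image_inter hinj, image_nbr hc, image_nbr hc, image_nbr hc]

/-- the coordinates on the members commuting with two commuting members -/
structure Deep (D : Set G) where
  /-- the first member -/
  d : G
  /-- a member commuting with it -/
  p : G
  /-- a member commuting with it but not with the second -/
  q : G
  hd : d ∈ D
  hp : p ∈ nbr D d
  hq : q ∈ nbr D d
  hpq : ¬ Commute p q
  /-- the coordinates -/
  φ : Pt → G
  inj : Function.Injective φ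
  range : Set.range φ = nbr D d ∩ nbr D p
  comm : ∀ x y, Commute (φ x) (φ y) ↔ comB x y = true
  conj : ∀ x y, φ (rho (tp x) y) = φ x * φ y * (φ x)⁻¹
  std : trio D p q d = φ '' {x | smallMid.testBit x = true}
  hS : PerpSet fun x : Pt => smallMid.testBit x = true
  trans : ∀ a b e : G, e ∈ D → a ∈ nbr D e → b ∈ nbr D e → ¬ Commute a b →
    ∃ g : G, g * a * g⁻¹ = p ∧ g * b * g⁻¹ = q ∧ g * e * g⁻¹ = d

theorem exists_deep (X : Ctx D) {d : G} (hd : d ∈ D)
    (h2 : Cfsg.pCore 2 ↥(perpGroup D d) ≤ Subgroup.center _)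
    (h3 : Cfsg.pCore 3 ↥(perpGroup D d) ≤ Subgroup.center _)
    (h : Cfsg.IsOfTypeM24 (PerpQuot D d) (perpImage D d)) : Nonempty (Deep D) := by
  obtain ⟨Y, -⟩ := X.perp_ctx hd h2 h3
  obtain ⟨-, d₀, hd₀, -, -, -, h23, -⟩ := h
  obtain ⟨P, hPd, hP⟩ := M24.Weak.exists_pre Y.hD Y.hprim Y.hZ hd₀ h23
  obtain ⟨y, hy, hye⟩ := P.hd
  obtain ⟨u, hu, hue⟩ := P.hc
  have hz : ∀ x, ∃ z : ↥(perpGroup D d), (z : G) ∈ nbr D d ∧ proj D d z = P.lift x := fun x => by
    obtain ⟨z, hz, e⟩ := (P.lift_mem x).1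
    exact ⟨z, hz, e⟩
  choose z hz hze using hz
  have hcomm : ∀ {a b : ↥(perpGroup D d)}, (a : G) ∈ nbr D d → (b : G) ∈ nbr D d →
      (Commute (proj D d a) (proj D d b) ↔ Commute (a : G) b) := fun ha hb => X.proj_commute hd ha hb
  have hzy : ∀ x, (z x : G) ∈ nbr D d ∩ nbr D (y : G) := fun x => by
    refine ⟨hz x, (hz x).1, fun e => (P.lift_mem x).2.1 ?_, ?_⟩
    · rw [← hze, ← hye, show z x = y from Subtype.ext e]; rfl
    · refine (hcomm hy (hz x)).1 ?_
      rw [hze, show proj D d y = P.d from hye]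
      exact (P.lift_mem x).2.2
  refine ⟨{ d := d, p := y, q := u, hd := hd, hp := hy, hq := hu, hpq := fun h => P.hdc ?_,
            φ := fun x => z x, inj := fun x x' e => P.lift_inj ?_, range := ?_, comm := fun x x' => ?_,
            conj := fun x x' => ?_, std := ?_, hS := ?_, trans := ?_ }⟩
  · rw [← hye, ← hue]; exact (hcomm hy hu).2 h
  · rw [← hze, ← hze, Subtype.ext e]
  · ext w
    refine ⟨fun ⟨x, hx⟩ => hx ▸ hzy x, fun hw => ?_⟩
    have hw' : proj D d ⟨w, Subgroup.subset_closure hw.1⟩ ∈ nbr (perpImage D d) P.d := by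
      refine ⟨⟨_, hw.1, rfl⟩, fun e => hw.2.2.1 ?_, ?_⟩
      · exact congrArg Subtype.val (proj_injective X.cls X.hsep hd
          (y := ⟨w, Subgroup.subset_closure hw.1⟩) hw.1 hy (e.trans hye.symm))
      · rw [← hye]; exact (hcomm (b := ⟨w, Subgroup.subset_closure hw.1⟩) hy hw.1).2 hw.2.2.2
    obtain ⟨x, hx⟩ := P.exists_point hw'
    exact ⟨x, congrArg Subtype.val (proj_injective X.cls X.hsep hd (hz x)
      (z := ⟨w, Subgroup.subset_closure hw.1⟩) hw.1 ((hze x).trans hx))⟩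
  · rw [← hcomm (hz x) (hz x'), hze, hze, P.lift_comm]
  · show _ = ((z x * z x' * (z x)⁻¹ : ↥(perpGroup D d)) : G)
    refine congrArg Subtype.val (proj_injective X.cls X.hsep hd (hz _) ?_ ?_)
    · exact conj_mem_nbr X.hc (hz x).2.2.symm (hz x')
    · rw [hze, P.lift_act, map_mul, map_mul, map_inv, hze, hze]
  · have hnyu : ¬ Commute (y : G) u := fun h => P.hdc (by rw [← hye, ← hue]; exact (hcomm hy hu).2 h)
    ext w
    constructor
    · rintro ⟨⟨hwy, hwu⟩, hwd⟩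
      have hw' : proj D d ⟨w, Subgroup.subset_closure hwd⟩ ∈ nbr (perpImage D d) P.d := by
        refine ⟨⟨_, hwd, rfl⟩, fun e => hwy.2.1 ?_, ?_⟩
        · exact congrArg Subtype.val (proj_injective X.cls X.hsep hd
            (y := ⟨w, Subgroup.subset_closure hwd⟩) hwd hy (e.trans hye.symm))
        · rw [← hye]; exact (hcomm (b := ⟨w, Subgroup.subset_closure hwd⟩) hy hwd).2 hwy.2.2
      obtain ⟨x, hx⟩ := P.exists_point hw'
      refine ⟨x, (hP x).1 ?_, congrArg Subtype.val (proj_injective X.cls X.hsep hd (hz x)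
        (z := ⟨w, Subgroup.subset_closure hwd⟩) hwd ((hze x).trans hx))⟩
      show Commute (P.lift x) P.c
      rw [hx, ← hue]
      exact (hcomm (a := ⟨w, Subgroup.subset_closure hwd⟩) hwd hu).2 hwu.2.2.symm
    · rintro ⟨x, hx, rfl⟩
      refine ⟨⟨(hzy x).2, (hz x).1, fun e => P.lift_ne_c x ?_, ?_⟩, hz x⟩
      · rw [← hze, ← hue, show z x = u from Subtype.ext e]; rfl
      · refine ((hcomm (hz x) hu).1 ?_).symm
        rw [hze, show proj D d u = P.c from hue]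
        exact (hP x).2 hx
  · have := P.perpSet
    rwa [show P.S = fun x : Pt => smallMid.testBit x = true from funext fun x => propext (hP x)] at this
  · intro a b e he ha hb hab
    obtain ⟨g, hg⟩ := X.exists_conj he hd
    have hmem : ∀ {w}, w ∈ nbr D e → g * w * g⁻¹ ∈ nbr D d := fun {w} hw =>
      hg ▸ image_nbr X.hc e g ▸ Set.mem_image_of_mem _ hw
    set a' : ↥(perpGroup D d) := ⟨_, Subgroup.subset_closure (hmem ha)⟩
    set b' : ↥(perpGroup D d) := ⟨_, Subgroup.subset_closure (hmem hb)⟩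
    obtain ⟨k, hk1, hk2⟩ := Y.pair_conj (x := proj D d a') (y := proj D d b') ⟨a', hmem ha, rfl⟩ ⟨b', hmem hb, rfl⟩
      P.hd P.hc (fun h => hab ((commute_conjBy g a b).1 ((hcomm (a := a') (b := b') (hmem ha) (hmem hb)).1 h))) P.hdc
    obtain ⟨k, rfl⟩ := QuotientGroup.mk'_surjective _ k
    have hkd : (k : G) * d * (k : G)⁻¹ = d := by
      rw [(commute_of_mem_perpGroup k.2).eq, mul_inv_cancel_right]
    have hlift : ∀ {w t : ↥(perpGroup D d)}, (w : G) ∈ nbr D d → (t : G) ∈ nbr D d →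
        proj D d k * proj D d w * (proj D d k)⁻¹ = proj D d t → (k : G) * w * (k : G)⁻¹ = t :=
      fun {w t} hw ht e => congrArg Subtype.val (proj_injective X.cls X.hsep hd (y := k * w * k⁻¹)
        (conj_mem_nbr X.hc (commute_of_mem_perpGroup k.2) hw) ht (by rw [map_mul, map_mul, map_inv]; exact e))
    refine ⟨(k : G) * g, ?_, ?_, ?_⟩
    · rw [← hlift (w := a') (hmem ha) hy (hk1.trans hye.symm)]; show _ = (k : G) * (g * a * g⁻¹) * _; group
    · rw [← hlift (w := b') (hmem hb) hu (hk2.trans hue.symm)]; show _ = (k : G) * (g * b * g⁻¹) * _; group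
    · rw [show (k : G) * g * e * ((k : G) * g)⁻¹ = k * (g * e * g⁻¹) * (k : G)⁻¹ by group, hg, hkd]

namespace Deep

variable (A : Deep D)

theorem mem (x : Pt) : A.φ x ∈ nbr D A.d ∩ nbr D A.p := A.range ▸ Set.mem_range_self x

/-- an element of Fi23 acts as an element fixing both members -/
theorem exists_act (X : Ctx D) (g : Fi23) : ∃ k : G, k * A.d * k⁻¹ = A.d ∧ k * A.p * k⁻¹ = A.p ∧
    ∀ x, A.φ (rho g x) = k * A.φ x * k⁻¹ := by
  have hgen : g ∈ Subgroup.closure Fi23Pres.transClass :=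
    (Fi23Pres.transClass_three.2.2 : Subgroup.closure Fi23Pres.transClass = ⊤).symm ▸ Subgroup.mem_top g
  induction hgen using Subgroup.closure_induction with
  | mem t ht =>
    obtain ⟨x, rfl⟩ := M24.exists_tp ht
    refine ⟨A.φ x, ?_, ?_, fun y => A.conj x y⟩
    · rw [(A.mem x).1.2.2.symm.eq, mul_inv_cancel_right]
    · rw [(A.mem x).2.2.2.symm.eq, mul_inv_cancel_right]
  | one => exact ⟨1, by simp, by simp, fun x => by simp⟩
  | mul a b _ _ iha ihb =>
    obtain ⟨k, k1, k2, k3⟩ := iha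
    obtain ⟨l, l1, l2, l3⟩ := ihb
    refine ⟨k * l, ?_, ?_, fun x => ?_⟩
    · rw [show k * l * A.d * (k * l)⁻¹ = k * (l * A.d * l⁻¹) * k⁻¹ by group, l1, k1]
    · rw [show k * l * A.p * (k * l)⁻¹ = k * (l * A.p * l⁻¹) * k⁻¹ by group, l2, k2]
    · rw [map_mul, Equiv.Perm.mul_apply, k3, l3]; group
  | inv a _ iha =>
    obtain ⟨k, k1, k2, k3⟩ := iha
    refine ⟨k⁻¹, ?_, ?_, fun x => ?_⟩
    · conv_lhs => rw [← k1]
      group
    · conv_lhs => rw [← k2]
      group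
    · have := k3 (rho a⁻¹ x)
      rw [← Equiv.Perm.mul_apply, ← map_mul, mul_inv_cancel, map_one, Equiv.Perm.one_apply] at this
      rw [this]; group

/-- the points seen by an outer member form a translate of the standard set -/
theorem exists_translate (X : Ctx D) {a b : G} (hab : ¬ Commute a b)
    (htriple : (a = A.d ∧ b ∈ nbr D A.p) ∨ (a = A.p ∧ b ∈ nbr D A.d)) :
    ∃ g : Fi23, nbr D A.d ∩ nbr D A.p ∩ nbr D b = A.φ '' (rho g '' {x | smallMid.testBit x = true}) := by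
  obtain ⟨k, hk⟩ : ∃ k : G, nbr D A.d ∩ nbr D A.p ∩ nbr D b = (fun z => k * z * k⁻¹) '' trio D A.p A.q A.d := by
    rcases htriple with ⟨rfl, hb⟩ | ⟨rfl, hb⟩
    · obtain ⟨g, g1, g2, g3⟩ := A.trans A.d b A.p A.hp.1
        ⟨A.hd, A.hp.2.1.symm, A.hp.2.2.symm⟩ hb hab
      refine ⟨g⁻¹, ?_⟩
      rw [trio_conj X.hc]
      have e : ∀ {x y : G}, g * x * g⁻¹ = y → g⁻¹ * y * g⁻¹⁻¹ = x := fun h => by rw [← h]; group
      rw [e g1, e g2, e g3]
      ext w; simp only [trio, Set.mem_inter_iff]; tauto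
    · obtain ⟨g, g1, g2, g3⟩ := A.trans A.p b A.d A.hd A.hp hb hab
      refine ⟨g⁻¹, ?_⟩
      rw [trio_conj X.hc]
      have e : ∀ {x y : G}, g * x * g⁻¹ = y → g⁻¹ * y * g⁻¹⁻¹ = x := fun h => by rw [← h]; group
      rw [e g1, e g2, e g3]
      ext w; simp only [trio, Set.mem_inter_iff]; tauto
  rw [A.std] at hk
  classical
  set T : Pt → Prop := fun x => A.φ x ∈ nbr D b
  have hT : ∀ x, T x → ∃ s : Pt, smallMid.testBit s = true ∧ k * A.φ s * k⁻¹ = A.φ x := fun x hx => by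
    obtain ⟨_, ⟨s, hs, rfl⟩, e⟩ := (Set.ext_iff.1 hk (A.φ x)).1 ⟨A.mem x, hx⟩
    exact ⟨s, hs, e⟩
  have hψ : ∀ s : Pt, smallMid.testBit s = true → ∃ x, T x ∧ k * A.φ s * k⁻¹ = A.φ x := fun s hs => by
    obtain ⟨h1, h2⟩ := (Set.ext_iff.1 hk (k * A.φ s * k⁻¹)).2 ⟨_, ⟨s, hs, rfl⟩, rfl⟩
    obtain ⟨x, hx⟩ := (A.range.symm ▸ h1 : k * A.φ s * k⁻¹ ∈ Set.range A.φ)
    exact ⟨x, by show A.φ x ∈ nbr D b; rw [hx]; exact h2, hx.symm⟩
  haveI : Nonempty Pt := ⟨Fi23Pres.setupA.base⟩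
  choose! ψ hψT hψe using hψ
  have hinj : Set.InjOn ψ {s | smallMid.testBit s = true} := fun s hs s' hs' e => by
    refine A.inj (mul_left_cancel (mul_right_cancel ((hψe s hs).trans ?_)))
    rw [e, hψe s' hs']
  have hsurj : ∀ x, T x → ∃ s : Pt, smallMid.testBit s = true ∧ ψ s = x := fun x hx => by
    obtain ⟨s, hs, e⟩ := hT x hx
    exact ⟨s, hs, A.inj ((hψe s hs).symm.trans e)⟩
  have hcom : ∀ s s' : Pt, smallMid.testBit s = true → smallMid.testBit s' = true →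
      comB (ψ s) (ψ s') = comB s s' := fun s s' hs hs' => by
    rw [Bool.eq_iff_iff, ← A.comm, ← A.comm, ← hψe s hs, ← hψe s' hs']
    exact commute_conjBy k _ _
  have hnbr : ∀ s : Pt, smallMid.testBit s = true →
      nbrIn T (ψ s) = ψ '' nbrIn (fun x : Pt => smallMid.testBit x = true) s := fun s hs => by
    ext x
    constructor
    · rintro ⟨h1, h2, h3⟩
      obtain ⟨s', hs', rfl⟩ := hsurj x h1
      exact ⟨s', ⟨hs', fun e => h2 (by rw [e]), (hcom s s' hs hs').symm.trans h3⟩, rfl⟩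
    · rintro ⟨s', ⟨h1, h2, h3⟩, rfl⟩
      exact ⟨hψT s' h1, fun e => h2 (hinj h1 hs e), (hcom s s' hs h1).trans h3⟩
  have hset : PerpSet T := by
    refine ⟨?_, fun x y hx hy => ?_, fun x hx => ?_, fun x hx => ?_⟩
    · obtain ⟨s, hs⟩ := A.hS.nonempty
      exact ⟨ψ s, hψT s hs⟩
    · show A.φ _ ∈ nbr D b
      rw [A.conj]
      exact conj_mem_nbr X.hc (hx : A.φ x ∈ nbr D b).2.2.symm hy
    · obtain ⟨s, hs, rfl⟩ := hsurj x hx
      rw [hnbr s hs, Set.InjOn.ncard_image (hinj.mono fun u hu => hu.1)]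
      exact A.hS.count s hs
    · obtain ⟨s, hs, rfl⟩ := hsurj x hx
      obtain ⟨f, hf, hmem⟩ := A.hS.diag s hs
      refine ⟨fun i => ψ (f i), fun i hi j hj hij => ⟨fun e => (hf i hi j hj hij).1
        (hinj (hmem i hi).1 (hmem j hj).1 e), ?_⟩, fun i hi => ?_⟩
      · rw [← (hf i hi j hj hij).2]; exact hcom _ _ (hmem i hi).1 (hmem j hj).1
      · rw [hnbr s hs]; exact Set.mem_image_of_mem _ (hmem i hi)
  obtain ⟨g, h9⟩ := perpSet_nine hset
  have hcard : {x | T x}.ncard = 3240 := by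
    rw [show {x | T x} = ψ '' {s : Pt | smallMid.testBit s = true} from Set.ext fun x =>
      ⟨fun hx => let ⟨s, hs, e⟩ := hsurj x hx; ⟨s, hs, e⟩, fun ⟨s, hs, e⟩ => e ▸ hψT s hs⟩,
      hinj.ncard_image, ← mask_card, shape_size]
  have hback : ∀ z : Pt, rho g (rho g⁻¹ z) = z := fun z => by
    rw [map_inv, Equiv.Perm.inv_def, Equiv.apply_symm_apply]
  have himg : ∀ U : Set Pt, (∀ x, T (rho g x) ↔ x ∈ U) → {x | T x} = rho g '' U := fun U hU => by
    ext x
    refine ⟨fun hx => ⟨rho g⁻¹ x, (hU _).1 (by rw [hback]; exact hx), hback x⟩, ?_⟩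
    rintro ⟨u, hu, rfl⟩
    exact (hU u).2 hu
  refine ⟨g, ?_⟩
  rcases shape (hset.smul g) h9 with hsmall | hstd
  · exfalso
    rw [himg {x : Pt | Fi24Pres.orbSmallMask.testBit x = true} hsmall,
      Set.ncard_image_of_injective _ (rho g).injective, ← mask_card, M24.Weak.Pre.small_size] at hcard
    omega
  · rw [← himg {x : Pt | smallMid.testBit x = true} hstd]
    ext w
    constructor
    · rintro ⟨h1, h2⟩
      obtain ⟨x, rfl⟩ := (A.range.symm ▸ h1 : w ∈ Set.range A.φ)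
      exact ⟨x, h2, rfl⟩
    · rintro ⟨x, hx, rfl⟩; exact ⟨A.mem x, hx⟩

/-- the contradiction -/
theorem absurdity (X : Ctx D) (A : Deep D) : False := by
  -- an outer member seen by the second
  obtain ⟨g₀, hg₀⟩ := X.exists_conj A.hp.1 A.hd
  obtain ⟨v, hv, hpv⟩ := exists_not_commute_nbr X.cls X.hsep A.hd A.hp
  set b := g₀ * v * g₀⁻¹
  have hdb : ¬ Commute A.d b := fun h => hpv ((commute_conjBy g₀ A.p v).1 (by rwa [hg₀]))
  have hmid : g₀ * A.d * g₀⁻¹ ∈ nbr D A.d ∧ Commute (g₀ * A.d * g₀⁻¹) b := by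
    refine ⟨?_, (commute_conjBy g₀ _ _).2 hv.2.2⟩
    have := image_nbr X.hc A.p g₀ ▸ Set.mem_image_of_mem (fun z => g₀ * z * g₀⁻¹)
      (show A.d ∈ nbr D A.p from ⟨A.hd, A.hp.2.1.symm, A.hp.2.2.symm⟩)
    rwa [hg₀] at this
  obtain ⟨l, hl, hle⟩ := transitive_commute X.hD X.hprim X.hw A.hd hmid.1.1 A.hp.1 hmid.1.2.1 A.hp.2.1
    hmid.1.2.2 A.hp.2.2
  have hld : l * A.d * l⁻¹ = A.d := by rw [(commute_of_mem_perpGroup hl).eq, mul_inv_cancel_right]
  set c := l * b * l⁻¹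
  have hdc : ¬ Commute A.d c := fun h => hdb ((commute_conjBy l A.d b).1 (by rwa [hld]))
  have hcp : c ∈ nbr D A.p := by
    refine ⟨X.hc l _ (X.hc g₀ v hv.1), fun e => hdc ?_, ?_⟩
    · rw [e]; exact A.hp.2.2
    · rw [← hle]; exact (commute_conjBy l _ _).2 hmid.2
  obtain ⟨g, hg⟩ := A.exists_translate X hdc (Or.inl ⟨rfl, hcp⟩)
  obtain ⟨g', hg'⟩ := A.exists_translate X A.hpq (Or.inr ⟨rfl, A.hq⟩)
  obtain ⟨k, k1, k2, k3⟩ := A.exists_act X (g * g'⁻¹)
  set u := k * A.q * k⁻¹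
  have hu : u ∈ nbr D A.d := k1 ▸ image_nbr X.hc A.d k ▸ Set.mem_image_of_mem _ A.hq
  have hpu : ¬ Commute A.p u := fun h => A.hpq ((commute_conjBy k A.p A.q).1 (by rwa [k2]))
  -- the two see the same
  have hsame : nbr D A.d ∩ nbr D A.p ∩ nbr D u = nbr D A.d ∩ nbr D A.p ∩ nbr D c := by
    have hinj : Function.Injective fun z => k * z * k⁻¹ := fun a b h => mul_left_cancel (mul_right_cancel h)
    have h1 : (fun z => k * z * k⁻¹) '' (nbr D A.d ∩ nbr D A.p ∩ nbr D A.q) =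
        nbr D A.d ∩ nbr D A.p ∩ nbr D u := by
      rw [Set.image_inter hinj, Set.image_inter hinj, image_nbr X.hc, image_nbr X.hc, image_nbr X.hc, k1, k2]
    rw [← h1, hg, hg', ← Set.image_comp, ← Set.image_comp, ← Set.image_comp, Function.comp_assoc]
    refine Set.image_congr fun x _ => ?_
    show k * A.φ (rho g' x) * k⁻¹ = A.φ (rho g x)
    rw [← k3, ← Equiv.Perm.mul_apply, ← map_mul, inv_mul_cancel_right]
  -- move the second member to a point
  have hok := none_ok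
  simp only [noneOK, Bool.and_eq_true, List.all_eq_true, Nat.blt_eq, Bool.not_eq_true'] at hok
  obtain ⟨⟨⟨hq0, hq0lt⟩, hws⟩, hcov⟩ := hok
  set s : Pt := rho g ⟨8006, hq0lt⟩
  have hs : A.φ s ∈ nbr D A.d ∩ nbr D A.p ∩ nbr D c := by
    rw [hg]; exact ⟨s, Set.mem_image_of_mem _ hq0, rfl⟩
  have hdcs : A.d ∈ nbr D (A.φ s) ∧ c ∈ nbr D (A.φ s) :=
    ⟨⟨A.hd, (hs.1.1.2.1).symm, hs.1.1.2.2.symm⟩, hcp.1, (hs.2.2.1).symm, hs.2.2.2.symm⟩
  obtain ⟨m, m1, m2, m3⟩ := A.trans A.d c A.p A.hp.1 ⟨A.hd, A.hp.2.1.symm, A.hp.2.2.symm⟩ hcp hdc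
  obtain ⟨n, n1, n2, n3⟩ := A.trans A.d c (A.φ s) hs.1.1.1 hdcs.1 hdcs.2 hdc
  set h := n⁻¹ * m
  have hh : ∀ {x x' y : G}, m * x * m⁻¹ = y → n * x' * n⁻¹ = y → h * x * h⁻¹ = x' := fun {x x' y} e e' => by
    rw [show h * x * h⁻¹ = n⁻¹ * (m * x * m⁻¹) * n by simp only [h]; group, e, ← e']; group
  have h1 : h * A.d * h⁻¹ = A.d := hh m1 n1
  have h2 : h * c * h⁻¹ = c := hh m2 n2
  have h3 : h * A.p * h⁻¹ = A.φ s := hh m3 n3
  set y := h * u * h⁻¹
  have hy : y ∈ nbr D A.d := h1 ▸ image_nbr X.hc A.d h ▸ Set.mem_image_of_mem _ hu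
  have hsy : ¬ Commute (A.φ s) y := fun e => hpu ((commute_conjBy h A.p u).1 (by rwa [h3]))
  have hall : ∀ w ∈ nbr D A.d ∩ nbr D (A.φ s) ∩ nbr D c, Commute w y := by
    have hinj : Function.Injective fun z => h * z * h⁻¹ := fun a b e => mul_left_cancel (mul_right_cancel e)
    intro w hw
    have e : (fun z => h * z * h⁻¹) '' (nbr D A.d ∩ nbr D A.p ∩ nbr D c) =
        nbr D A.d ∩ nbr D (A.φ s) ∩ nbr D c := by
      rw [Set.image_inter hinj, Set.image_inter hinj, image_nbr X.hc, image_nbr X.hc, image_nbr X.hc, h1, h2, h3]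
    rw [← e, ← hsame] at hw
    obtain ⟨z, hz, rfl⟩ := hw
    exact (commute_conjBy h z u).2 hz.2.2.2.symm
  have hpy : Commute A.p y := hall A.p
    ⟨⟨A.hp, A.hp.1, fun e => hs.1.2.2.1 e.symm, hs.1.2.2.2.symm⟩,
      A.hp.1, fun e => hdc (e ▸ A.hp.2.2), hcp.2.2.symm⟩
  obtain ⟨x, hx⟩ := (A.range.symm ▸ (⟨hy, hy.1, fun e => hsy (e.symm ▸ hs.1.2.2.2.symm), hpy⟩ :
    y ∈ nbr D A.d ∩ nbr D A.p) : y ∈ Set.range A.φ)
  have hback : rho g (rho g⁻¹ x) = x := by rw [map_inv, Equiv.Perm.inv_def, Equiv.apply_symm_apply]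
  have hfar : comB 8006 (rho g⁻¹ x) = false := Bool.eq_false_iff.2 fun e => hsy (by
    rw [← hx, A.comm, ← hback, comB_smul]; exact e)
  have hcv := allUp_spec hcov (rho g⁻¹ x) (Nat.zero_le _) (lt_of_lt_of_le (rho g⁻¹ x).2 (by decide +kernel))
  rw [show Nat.blt (rho g⁻¹ x : Pt) certA.N = true by rw [Nat.blt_eq]; exact (rho g⁻¹ x).2, hfar] at hcv
  simp only [Bool.not_true, Bool.false_or, List.any_eq_true, Bool.not_eq_true'] at hcv
  obtain ⟨w, hw, hwx⟩ := hcv
  obtain ⟨⟨⟨hw0, hwlt⟩, hwne⟩, hwq⟩ := hws w hw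
  set t : Pt := rho g ⟨w, hwlt⟩
  have ht : A.φ t ∈ nbr D A.d ∩ nbr D A.p ∩ nbr D c := by
    rw [hg]; exact ⟨t, Set.mem_image_of_mem _ hw0, rfl⟩
  have hts : A.φ t ∈ nbr D (A.φ s) := by
    refine ⟨ht.1.1.1, fun e => ?_, (A.comm s t).2 (by rw [comB_smul]; exact hwq)⟩
    have : w = 8006 := congrArg Fin.val ((rho g).injective (A.inj e))
    rw [this, Nat.beq_refl] at hwne
    exact Bool.noConfusion hwne
  have := hall (A.φ t) ⟨⟨ht.1.1, hts⟩, ht.2⟩
  rw [← hx, A.comm, ← hback, comB_smul, hwx] at this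
  exact Bool.noConfusion this

end Deep

/-- No class has a perp quotient of type M(24). -/
theorem mathieu_none (X : Ctx D) {d : G} (hd : d ∈ D)
    (h2 : Cfsg.pCore 2 ↥(perpGroup D d) ≤ Subgroup.center _)
    (h3 : Cfsg.pCore 3 ↥(perpGroup D d) ≤ Subgroup.center _)
    (h : Cfsg.IsOfTypeM24 (PerpQuot D d) (perpImage D d)) : False := by
  obtain ⟨A⟩ := exists_deep X hd h2 h3 h
  exact Deep.absurdity X A

end CfsgLib.FischerClass
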