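import Cfsg.Agent.Lib.FischerClass.MathieuTwentyFourSetting
import Cfsg.Agent.Lib.M24.Lifts
import Cfsg.Agent.Lib.FischerTypes.TypeTwentyFour
import Cfsg.Agent.Lib.FischerTypes.Transport

/-!
The case of a perp quotient of type M(23): the group is of type M(24). The surjection of the pair group onto the
symmetric group of degree three is the one of the presented Fi24, seen in Fi23.
-/

set_option autoImplicit false
set_option linter.unusedSectionVars false

namespace CfsgLib.FischerClass

open Cfsg Cfsg.Spor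
open CfsgLib.ThreeTransp CfsgLib.ThreeTransp.Relations
open CfsgLib.M24 (Pt tp smallMid)
open CfsgLib.FischerTypes (centreQuotEquiv closureEquiv image_nbr_inter exists_perpQuot_equiv center_bot_map typeM23_map)

/-- the type M(24) passes along isomorphisms -/
theorem typeM24_map {G H : Type*} [Group G] [Group H] (e : G ≃* H) (D : Set G) (h : IsOfTypeM24 G D) :
    IsOfTypeM24 H (e '' D) := by
  obtain ⟨hZ, d, hd, c, hc, hdc, h23, N, hN, ⟨i⟩, ⟨q⟩⟩ := h
  obtain ⟨f, hf⟩ := exists_perpQuot_equiv e D d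
  let ψ := centreQuotEquiv (closureEquiv e (image_nbr_inter e D d c))
  haveI hN' : (N.map (MonoidHomClass.toMonoidHom ψ)).Normal := hN.map _ ψ.surjective
  refine ⟨center_bot_map e hZ, e d, Set.mem_image_of_mem _ hd, e c, Set.mem_image_of_mem _ hc,
    fun h => hdc (by simpa using h.map e.symm), ?_, N.map (MonoidHomClass.toMonoidHom ψ), hN',
    ⟨(N.equivMapOfInjective (MonoidHomClass.toMonoidHom ψ) ψ.injective).symm.trans i⟩,
    ⟨(QuotientGroup.congr N _ ψ rfl).symm.trans q⟩⟩
  have h' := typeM23_map f (perpImage D d) h23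
  rw [hf] at h'
  exact h'

/-- the image in Fi23 of a pair group -/
theorem pair_range {G : Type*} [Group G] {D : Set G} {d c : G} (π : ↥(perpGroup D d) →* Fi23)
    {S : Pt → Prop} (lift : Pt → ↥(perpGroup D d)) (hπ : ∀ x, π (lift x) = tp x)
    (hin : ∀ x, (S x ↔ (lift x : G) ∈ nbr D d ∩ nbr D c))
    (hex : ∀ y ∈ nbr D d, ∃ x, (lift x : G) = y) :
    (π.comp (Subgroup.inclusion (Subgroup.closure_mono Set.inter_subset_left :
      Subgroup.closure (nbr D d ∩ nbr D c) ≤ perpGroup D d))).range = Subgroup.closure (tp '' {x | S x}) := by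
  refine le_antisymm ?_ ((Subgroup.closure_le _).2 ?_)
  · rintro _ ⟨⟨y, hy⟩, rfl⟩
    have hle : Subgroup.closure (nbr D d ∩ nbr D c) ≤
        ((Subgroup.closure (tp '' {x | S x})).comap π).map (perpGroup D d).subtype :=
      (Subgroup.closure_le _).2 fun z hz => by
        obtain ⟨x, rfl⟩ := hex z hz.1
        refine ⟨lift x, ?_, rfl⟩
        show π (lift x) ∈ Subgroup.closure (tp '' {x | S x})
        rw [hπ]
        exact Subgroup.subset_closure ⟨x, (hin x).2 hz, rfl⟩
    obtain ⟨w, hw, hwy⟩ := hle hy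
    show π ⟨y, _⟩ ∈ _
    rwa [show (⟨y, _⟩ : ↥(perpGroup D d)) = w from Subtype.ext hwy.symm]
  · rintro _ ⟨x, hx, rfl⟩
    exact ⟨⟨lift x, Subgroup.subset_closure ((hin x).1 hx)⟩, hπ x⟩

theorem perm_three_center : ∀ σ : Equiv.Perm (Fin 3), (∀ τ, τ * σ = σ * τ) → σ = 1 := by decide +kernel

/-- the group of the standard points maps onto the symmetric group of degree three -/
theorem standard_surj : ∃ f : ↥(Subgroup.closure (tp '' {x : Pt | smallMid.testBit x = true})) →* Equiv.Perm (Fin 3),
    Function.Surjective f := by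
  haveI : Finite Fi24 := Fi24Pres.finite_card.1
  have hT := Fi24Act.transClass_three
  obtain ⟨P, hP⟩ := M24.exists_pre (G := Fi24) ⟨hT.1, class_conjClosed hT, hT.2.2⟩
    FischerTypes.Full.fi24_primitive FischerTypes.Full.fi24_type
  obtain ⟨f, hf⟩ := P.hsur
  have hrange := pair_range P.π (c := P.c) (S := P.S) P.liftH P.π_lift
    (fun x => ⟨fun h => ⟨P.lift_mem x, (P.lift_mem x).1, P.lift_ne_c x, (h : Commute _ _).symm⟩,
      fun h => h.2.2.2.symm⟩) fun y hy => P.exists_point hy
  rw [show {x | P.S x} = {x : Pt | smallMid.testBit x = true} from Set.ext hP] at hrange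
  set g := P.π.comp (Subgroup.inclusion (Subgroup.closure_mono Set.inter_subset_left :
      Subgroup.closure (nbr Fi24Act.transClass P.d ∩ nbr Fi24Act.transClass P.c) ≤
        perpGroup Fi24Act.transClass P.d))
  have hker : g.ker ≤ f.ker := fun y hy => by
    refine MonoidHom.mem_ker.2 (perm_three_center _ fun τ => ?_)
    obtain ⟨z, rfl⟩ := hf τ
    rw [← map_mul, ← map_mul]
    refine congrArg f (Subtype.ext ?_)
    have h1 : ∀ u ∈ nbr Fi24Act.transClass P.d ∩ nbr Fi24Act.transClass P.c, Commute u (y : Fi24) :=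
      fun u hu => P.π_eq_one (y := ⟨y, Subgroup.closure_mono Set.inter_subset_left y.2⟩) hy hu.1
    have h2 : Subgroup.closure (nbr Fi24Act.transClass P.d ∩ nbr Fi24Act.transClass P.c) ≤
        Subgroup.centralizer {(y : Fi24)} :=
      (Subgroup.closure_le _).2 fun u hu => Subgroup.mem_centralizer_singleton_iff.2 (h1 u hu).eq
    exact Subgroup.mem_centralizer_singleton_iff.1 (h2 z.2)
  let f' := g.rangeRestrict.liftOfSurjective g.rangeRestrict_surjective
    ⟨f, by rwa [MonoidHom.ker_rangeRestrict]⟩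
  refine ⟨f'.comp (MulEquiv.subgroupCongr hrange.symm).toMonoidHom, fun σ => ?_⟩
  obtain ⟨y, rfl⟩ := hf σ
  refine ⟨MulEquiv.subgroupCongr hrange (g.rangeRestrict y), ?_⟩
  show f' ((MulEquiv.subgroupCongr hrange.symm) (MulEquiv.subgroupCongr hrange (g.rangeRestrict y))) = f y
  rw [show (MulEquiv.subgroupCongr hrange.symm) (MulEquiv.subgroupCongr hrange (g.rangeRestrict y)) =
    g.rangeRestrict y from Subtype.ext rfl]
  exact MonoidHom.liftOfRightInverse_comp_apply _ _ _ _ _

variable {G : Type*} [Group G] [Finite G] {D : Set G}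

/-- A class whose perp quotient is of type M(23) is that of the presented group Fi24. -/
theorem mathieu_24_iso (X : Ctx D) {d : G} (hd : d ∈ D)
    (h : Cfsg.IsOfTypeM23 (PerpQuot D d) (perpImage D d)) :
    ∃ φ : Fi24 ≃* G, φ '' Fi24Act.transClass = D := by
  obtain ⟨P, -, hP⟩ := M24.Weak.exists_pre X.hD X.hprim X.hZ hd h
  obtain ⟨f, hf⟩ := standard_surj
  have hrange := pair_range P.π (c := P.c) (S := P.S) P.liftH P.π_lift
    (fun x => ⟨fun h => ⟨P.lift_mem x, (P.lift_mem x).1, P.lift_ne_c x, (h : Commute _ _).symm⟩,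
      fun h => h.2.2.2.symm⟩) fun y hy => P.exists_point hy
  rw [show {x | P.S x} = {x : Pt | smallMid.testBit x = true} from Set.ext hP] at hrange
  let Q : M24.Pre G D :=
    { hD := P.hD, hprim := P.hprim, hZ := P.hZ, hsep := P.hsep, hw := P.hw, d := P.d, c := P.c, hd := P.hd,
      hc := P.hc, hdc := P.hdc, e := P.e, he := P.he,
      hsur := ⟨(f.comp (MulEquiv.subgroupCongr hrange).toMonoidHom).comp (MonoidHom.rangeRestrict _),
        (hf.comp (MulEquiv.subgroupCongr hrange).surjective).comp (MonoidHom.rangeRestrict_surjective _)⟩ }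
  have hQ : M24.Standard Q := fun x => by
    have e : Q.lift x = P.lift x := Q.lift_unique (y := P.liftH x) (P.lift_mem x) (P.π_lift x)
    show Commute _ _ ↔ _
    rw [e]
    exact hP x
  obtain ⟨Φ, -, hΦ⟩ := M24.Pre.exists_iso (P := Q) hQ
  exact ⟨Φ, hΦ⟩

/-- A class whose perp quotient is of type M(23) is of type M(24). -/
theorem mathieu_24 (X : Ctx D) {d : G} (hd : d ∈ D)
    (h : Cfsg.IsOfTypeM23 (PerpQuot D d) (perpImage D d)) : Cfsg.IsOfTypeM24 G D := by
  obtain ⟨φ, hφ⟩ := mathieu_24_iso X hd h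
  exact hφ ▸ typeM24_map φ _ FischerTypes.Full.fi24_type

end CfsgLib.FischerClass
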