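import Cfsg.Agent.Lib.M23.Recog

/-!
Recognition of Fi23 from the perp quotient and nine lifted transpositions.
-/

set_option autoImplicit false
set_option maxHeartbeats 800000

namespace CfsgLib.M23

open CfsgLib.CosetEnum Cfsg.Spor

variable {G : Type*} [Group G] [Finite G]

/-- a group is Fi23 once nine transpositions over the generators of Fi22 are given, eight of them commuting
with an outer one -/
theorem recognition_of_lifts {D : Set G} (hD : Cfsg.IsThreeTranspositionGroup D) (hprim : Cfsg.IsPrimitiveUnderConj D)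
    (hZ : Subgroup.center G = ⊥) {d c : G} (hd : d ∈ D) (hc : c ∈ D) (hdc : ¬ Commute d c)
    (e : ↥(Subgroup.closure (perp D d)) ⧸ Subgroup.center ↥(Subgroup.closure (perp D d)) ≃* Fi22)
    (t : ℕ → ↥(Subgroup.closure (perp D d)))
    (he : e '' ((QuotientGroup.mk : ↥(Subgroup.closure (perp D d)) → _) ''
      {x | (x : G) ∈ perp D d}) = conjugatesOf (Fi22Pres.gen 0))
    (ht : ∀ k < 9, (t k : G) ∈ perp D d ∧ e (QuotientGroup.mk (t k)) = Fi22Pres.gen k)
    (htc : ∀ k < 9, k ≠ 6 → Commute c (t k : G)) (ht6 : ¬ Commute c (t 6 : G)) :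
    ∃ Φ : Fi23 ≃* G, Φ '' conjugatesOf Fi23Pres.coverZ = D := by
  obtain ⟨hS, hcl, hgen⟩ := hD
  have hpair0 := fun {a b : G} (ha : a ∈ D) (hb : b ∈ D) => short_pair hS ha hb
  let f : ℕ → G := fun k => if k < 9 then (t k : G) else if k = 9 then c else 1
  have hf9 : f 9 = c := by simp [f]
  have hft : ∀ k < 9, f k = t k := fun k hk => by simp [f, hk]
  have hfD : ∀ k < 10, f k ∈ D := fun k hk => by
    by_cases h : k < 9
    · rw [hft k h]; exact (ht k h).1.1
    · rw [show k = 9 by omega, hf9]; exact hc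
  have hsq : ∀ k, f k * f k = 1 := fun k => by
    by_cases h : k < 10
    · exact (hpair0 (hfD k h) (hfD k h)).1
    · simp [f, show ¬ k < 9 by omega, show k ≠ 9 by omega]
  have hshort : ∀ k < 9, ∀ l < 9, ShortPair (t k) (t l) := fun k hk l hl =>
    short_sub (hpair0 (ht k hk).1.1 (ht l hl).1.1)
  have hpair : ∀ k < 10, ∀ l < 10, (f k * f l) ^ lab k l = 1 := by
    have hlab1 : ∀ k < 10, ∀ l < 10, lab k l = lab l k := by decide +kernel
    have hlab2 : ∀ k < 10, ∀ l < 10, lab k l = 1 ∨ lab k l = 2 ∨ lab k l = 3 := by decide +kernel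
    have hlab3 : ∀ k < 10, ∀ l < 10, (lab k l = 1 → k = l) ∧ (k = l → lab k l = 1) := by decide +kernel
    have hlab4 : ∀ l < 9, (lab 9 l = 3 → l = 6) ∧ (l = 6 → lab 9 l = 3) := by decide +kernel
    have hlab : ∀ k < 10, ∀ l < 10, lab k l = lab l k ∧ (lab k l = 1 ∨ lab k l = 2 ∨ lab k l = 3) ∧
        (lab k l = 1 → k = l) ∧ (k = l → lab k l = 1) ∧ (k = 9 → l < 9 → (lab k l = 3 ↔ l = 6)) :=
      fun k hk l hl => ⟨hlab1 k hk l hl, hlab2 k hk l hl, (hlab3 k hk l hl).1, (hlab3 k hk l hl).2,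
        fun e h => e ▸ ⟨(hlab4 l h).1, (hlab4 l h).2⟩⟩
    have h9 : ∀ l < 9, (f 9 * f l) ^ lab 9 l = 1 := by
      intro l hl
      obtain ⟨-, h123, h1, -, h6⟩ := hlab 9 (by norm_num) l (by omega)
      rw [hf9, hft l hl]
      by_cases e6 : l = 6
      · rw [(h6 rfl hl).2 e6, e6]
        exact (hpair0 hc (ht 6 (by norm_num)).1.1).2.2.resolve_left fun h =>
          ht6 (sq_commute (hpair0 hc hc).1 (hpair0 (ht 6 (by norm_num)).1.1 (ht 6 (by norm_num)).1.1).1 h)
      · have e2 : lab 9 l = 2 := by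
          rcases h123 with h | h | h
          · have := h1 h; omega
          · exact h
          · exact absurd ((h6 rfl hl).1 h) e6
        rw [e2]
        exact commute_sq (hpair0 hc hc).1 (hpair0 (ht l hl).1.1 (ht l hl).1.1).1 (htc l hl e6)
    intro k hk l hl
    obtain ⟨hsymm, h123, h1, h1', -⟩ := hlab k hk l hl
    by_cases hkl : k = l
    · rw [h1' hkl, pow_one, hkl, hsq]
    by_cases hk9 : k = 9
    · rw [hk9]; exact h9 l (by omega)
    by_cases hl9 : l = 9
    · subst hl9
      have h := h9 k (by omega)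
      rw [← hsymm] at h
      have e1 : f k * f 9 = (f 9 * f k)⁻¹ := by
        rw [_root_.mul_inv_rev, inv_eq_of_mul_eq_one_right (hsq k), inv_eq_of_mul_eq_one_right (hsq 9)]
      rw [e1, inv_pow, h, inv_one]
    have hk' : k < 9 := by omega
    have hl' : l < 9 := by omega
    rw [hft k hk', hft l hl']
    rcases h123 with h | h | h
    · exact absurd (h1 h) hkl
    · rw [h]
      refine commute_sq (hpair0 (ht k hk').1.1 (ht k hk').1.1).1 (hpair0 (ht l hl').1.1 (ht l hl').1.1).1 ?_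
      refine congrArg Subtype.val (commute_of_mk (Z := Subgroup.center _) (hshort k hk' l hl') (fun e' => ?_) ?_).eq
      · exact gen22_ne hk' hl' hkl (by rw [← (ht k hk').2, ← (ht l hl').2, e'])
      · have h2 := ((gen22_commute hk' hl' hkl).2 h).map e.symm.toMonoidHom
        rw [← (ht k hk').2, ← (ht l hl').2] at h2
        simpa only [MulEquiv.coe_toMonoidHom, e.symm_apply_apply] using h2
    · rw [h]
      have h3 := cube_of_mk (hshort k hk' l hl') (Z := Subgroup.center _) fun h2 => by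
        have h4 := h2.map e.toMonoidHom
        simp only [MulEquiv.coe_toMonoidHom, (ht k hk').2, (ht l hl').2] at h4
        rw [gen22_commute hk' hl' hkl, h] at h4
        omega
      simpa using congrArg Subtype.val h3
  -- the three words lie in the centre of the subgroup
  set W : Subgroup G := (Subgroup.center ↥(Subgroup.closure (perp D d))).map (Subgroup.subtype _) with hW
  have hWcomm : ∀ z ∈ W, ∀ k < 9, Commute z (t k : G) := by
    rintro - ⟨z, hz, rfl⟩ k hk
    exact (congrArg Subtype.val (Subgroup.mem_center_iff.1 hz (t k))).symm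
  have hwords : ∀ w ∈ [wordS, wordA, wordB], prodW f w ∈ W := by
    intro w hw
    have hlt : ∀ w ∈ [wordS, wordA, wordB], ∀ g ∈ w, g < 9 := by decide +kernel
    refine ⟨prodW t w, ?_, ?_⟩
    · refine (QuotientGroup.eq_one_iff _).1 ((EmbeddingLike.map_eq_one_iff (f := e)).1 ?_)
      rw [← word_rel hw]
      show (e.toMonoidHom.comp (QuotientGroup.mk' _)) (prodW t w) = _
      rw [map_prodW]
      exact prodW_congr fun g hg => (ht g (hlt w hw g hg)).2
    · rw [map_prodW]
      exact prodW_congr fun g hg => (hft g (hlt w hw g hg)).symm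
  have hcent : ∀ w ∈ [wordS, wordA], ∀ k < 10, Commute (prodW f w) (f k) := by
    intro w hw k hk
    have hlt : ∀ w ∈ [wordS, wordA], ∀ g ∈ w, g < 9 ∧ g ≠ 6 := by decide +kernel
    by_cases h : k < 9
    · rw [hft k h]
      exact hWcomm _ (hwords w (by simp only [List.mem_cons, List.not_mem_nil, or_false] at hw ⊢; tauto)) k h
    · rw [show k = 9 by omega, hf9]
      refine (commute_prodW fun g hg => ?_).symm
      rw [hft g (hlt w hw g hg).1]
      exact htc g (hlt w hw g hg).1 (hlt w hw g hg).2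
  -- the subgroup of the ten elements
  set M : Subgroup G := Subgroup.closure (f '' {k | k < 10}) with hM
  have hfM : ∀ k < 10, f k ∈ M := fun k hk => Subgroup.subset_closure ⟨k, hk, rfl⟩
  have hMcomm : ∀ x : G, (∀ k < 10, Commute x (f k)) → ∀ m ∈ M, Commute x m := by
    intro x hx m hm
    have hle : M ≤ Subgroup.centralizer ({x} : Set G) := by
      rw [hM, Subgroup.closure_le]
      rintro - ⟨k, hk, rfl⟩
      exact Subgroup.mem_centralizer_singleton_iff.2 (hx k hk).eq.symm
    exact (Subgroup.mem_centralizer_singleton_iff.1 (hle hm)).symm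
  have hprodM : ∀ w : List ℕ, (∀ g ∈ w, g < 10) → prodW f w ∈ M := by
    intro w hw
    induction w with
    | nil => rw [prodW_nil]; exact one_mem _
    | cons a w ih =>
      rw [prodW_cons]
      exact mul_mem (hfM a (hw a List.mem_cons_self)) (ih fun g hg => hw g (List.mem_cons_of_mem _ hg))
  let fM : ℕ → M := fun k => if h : k < 10 then ⟨f k, hfM k h⟩ else 1
  have hfMv : ∀ k < 10, (fM k : G) = f k := fun k hk => by simp [fM, hk]
  have hwM : ∀ w : List ℕ, (∀ g ∈ w, g < 10) → ((prodW fM w : M) : G) = prodW f w := fun w hw => by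
    rw [← Subgroup.coe_subtype, map_prodW]
    exact prodW_congr fun g hg => hfMv g (hw g hg)
  have hlt10 : ∀ w ∈ [wordS, wordA, wordB, halfWord], ∀ g ∈ w, g < 10 := by decide +kernel
  set C : Subgroup M := Subgroup.closure {prodW fM wordS, prodW fM wordA} with hC
  have hCc : C ≤ Subgroup.center M := by
    rw [hC, Subgroup.closure_le]
    have key : ∀ w ∈ [wordS, wordA], prodW fM w ∈ Subgroup.center M := fun w hw => by
      refine Subgroup.mem_center_iff.2 fun y => Subtype.ext ?_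
      have := hMcomm _ (hcent w hw) y y.2
      rw [Subgroup.coe_mul, Subgroup.coe_mul, hwM w (hlt10 w (by
        simp only [List.mem_cons, List.not_mem_nil, or_false] at hw ⊢; tauto))]
      exact this.eq.symm
    rintro x (rfl | rfl) <;> exact key _ (by simp)
  haveI : C.Normal := ⟨fun n hn g => by
    rw [Subgroup.mem_center_iff.1 (hCc hn) g, mul_inv_cancel_right]; exact hn⟩
  have hCW : C.map M.subtype ≤ W := by
    rw [hC, MonoidHom.map_closure, Subgroup.closure_le, Set.image_pair]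
    rintro x (rfl | rfl)
    · rw [Subgroup.coe_subtype, hwM _ (hlt10 _ (by simp))]; exact hwords _ (by simp)
    · rw [Subgroup.coe_subtype, hwM _ (hlt10 _ (by simp))]; exact hwords _ (by simp)
  obtain ⟨ψ, hψ⟩ := exists_hom (fun k => (QuotientGroup.mk (fM k) : M ⧸ C)) (fun k hk l hl => by
      rw [← QuotientGroup.mk_mul, ← QuotientGroup.mk_pow,
        show (fM k * fM l) ^ lab k l = 1 from Subtype.ext (by
          simp only [Subgroup.coe_pow, Subgroup.coe_mul, hfMv k hk, hfMv l hl, hpair k hk l hl, OneMemClass.coe_one])]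
      rfl)
    ((map_prodW (QuotientGroup.mk' C) _ _).symm.trans ((QuotientGroup.eq_one_iff _).2
      (Subgroup.subset_closure (Set.mem_insert _ _))))
    ((map_prodW (QuotientGroup.mk' C) _ _).symm.trans ((QuotientGroup.eq_one_iff _).2
      (Subgroup.subset_closure (Set.mem_insert_of_mem _ rfl))))
  have hψw : ∀ w : List ℕ, (∀ g ∈ w, g < 10) →
      ψ (prodW Fi23Pres.gen w) = QuotientGroup.mk (prodW fM w) := fun w hw => by
    rw [map_prodW, ← QuotientGroup.mk'_apply, map_prodW]
    exact prodW_congr fun g hg => hψ g (hw g hg)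
  set P := prodW f halfWord
  have hP : P ∈ M := hprodM _ (hlt10 _ (by simp))
  have hd' : P * f 1 * P⁻¹ = d := by
    have e1 : (QuotientGroup.mk (prodW fM halfWord * fM 1 * (prodW fM halfWord)⁻¹) : M ⧸ C) =
        QuotientGroup.mk (prodW fM wordB) := by
      rw [QuotientGroup.mk_mul, QuotientGroup.mk_mul, QuotientGroup.mk_inv,
        ← hψw _ (hlt10 _ (by simp)), ← hψw _ (hlt10 _ (by simp)), ← hψ 1 (by norm_num),
        ← map_inv, ← map_mul, ← map_mul, ← coverZ_words.2, ← coverZ_words.1]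
    obtain ⟨s, hs, e2⟩ : ∃ s ∈ C, prodW fM halfWord * fM 1 * (prodW fM halfWord)⁻¹ = prodW fM wordB * s :=
      ⟨_, QuotientGroup.eq.1 e1.symm, (mul_inv_cancel_left _ _).symm⟩
    have e3 : P * f 1 * P⁻¹ = prodW f wordB * (s : G) := by
      have e4 := congrArg Subtype.val e2
      rwa [Subgroup.coe_mul, Subgroup.coe_mul, Subgroup.coe_mul, Subgroup.coe_inv,
        hwM _ (hlt10 _ (by simp)), hwM _ (hlt10 _ (by simp)), hfMv 1 (by norm_num)] at e4
    obtain ⟨z, hz, hzv⟩ : P * f 1 * P⁻¹ ∈ W := by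
      rw [e3]; exact mul_mem (hwords _ (by simp)) (hCW ⟨s, hs, rfl⟩)
    by_contra hne
    have hperp : (z : G) ∈ perp D d := by
      rw [Subgroup.coe_subtype] at hzv
      refine ⟨hzv ▸ hcl P _ (hfD 1 (by norm_num)), hzv ▸ hne, ?_⟩
      exact (Subgroup.mem_centralizer_singleton_iff.1 (closure_perp_le D d z.2)).symm
    have h1 : (1 : Fi22) ∈ conjugatesOf (Fi22Pres.gen 0) :=
      (Set.ext_iff.1 he _).1 ⟨_, ⟨z, hperp, rfl⟩, by rw [(QuotientGroup.eq_one_iff z).2 hz, map_one]⟩
    have h0 : Fi22Pres.gen 0 = 1 := isConj_one_left.1 h1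
    have h2 := (gen22_commute (k := 0) (l := 1) (by norm_num) (by norm_num) (by norm_num)).1
      (h0 ▸ Commute.one_left _)
    revert h2; decide +kernel
  have hdM : d ∈ M := hd' ▸ mul_mem (mul_mem hP (hfM 1 (by norm_num))) (inv_mem hP)
  -- every transposition commuting with d is a conjugate of d inside
  have hperpConj : ∀ a ∈ perp D d, ∃ m ∈ M, m * d * m⁻¹ = a := by
    intro a ha
    set K : Subgroup ↥(Subgroup.closure (perp D d)) := Subgroup.closure (t '' {k | k < 9})
    have hKsurj : (K.map (e.toMonoidHom.comp (QuotientGroup.mk' _))) = ⊤ := by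
      rw [eq_top_iff, ← Fi22Pres.setupA.gen_top, Subgroup.closure_le]
      rintro - ⟨k, hk, rfl⟩
      exact ⟨t k, Subgroup.subset_closure ⟨k, hk, rfl⟩, (ht k hk).2⟩
    have hKM : K.map (Subgroup.subtype _) ≤ M := by
      rw [MonoidHom.map_closure, Subgroup.closure_le]
      rintro - ⟨-, ⟨k, hk, rfl⟩, rfl⟩
      rw [Subgroup.coe_subtype, ← hft k hk]
      exact hfM k (lt_trans hk (by norm_num))
    let aH : ↥(Subgroup.closure (perp D d)) := ⟨a, Subgroup.subset_closure ha⟩
    obtain ⟨g, hg⟩ := isConj_iff.1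
      ((Set.ext_iff.1 he _).1 ⟨_, ⟨aH, ha, rfl⟩, rfl⟩ : IsConj (Fi22Pres.gen 0) (e (QuotientGroup.mk aH)))
    obtain ⟨u, hu, hue⟩ := (hKsurj ▸ Subgroup.mem_top g : g ∈ K.map _)
    replace hue : e (QuotientGroup.mk u) = g := hue
    have hcu : (u : G) ∈ Subgroup.centralizer ({d} : Set G) := closure_perp_le D d u.2
    have hb : ((u * t 0 * u⁻¹ : ↥(Subgroup.closure (perp D d))) : G) ∈ perp D d :=
      perp_conj hcl hcu (ht 0 (by norm_num)).1
    have hs : ((u * t 1 * u⁻¹ : ↥(Subgroup.closure (perp D d))) : G) ∈ perp D d :=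
      perp_conj hcl hcu (ht 1 (by norm_num)).1
    have heq : (QuotientGroup.mk aH : _ ⧸ Subgroup.center ↥(Subgroup.closure (perp D d))) =
        QuotientGroup.mk (u * t 0 * u⁻¹) := by
      apply e.injective
      rw [← hg]
      simp only [QuotientGroup.mk_mul, QuotientGroup.mk_inv, map_mul, map_inv, hue, (ht 0 (by norm_num)).2]
    have hab : aH = u * t 0 * u⁻¹ := by
      refine eq_of_mk le_rfl (short_sub (hpair0 ha.1 hb.1)) (short_sub (hpair0 hs.1 ha.1))
        (short_sub (hpair0 hs.1 hb.1)) heq fun h => ?_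
      rw [heq] at h
      have h1 := h.map e.toMonoidHom
      simp only [MulEquiv.coe_toMonoidHom, QuotientGroup.mk_mul, QuotientGroup.mk_inv, map_mul, map_inv, hue,
        (ht 0 (by norm_num)).2, (ht 1 (by norm_num)).2] at h1
      rw [Commute.conj_iff, gen22_commute (by norm_num) (by norm_num) (by norm_num)] at h1
      revert h1; decide +kernel
    have huM : (u : G) ∈ M := hKM ⟨u, hu, rfl⟩
    have hbr : (f 0 * f 1) * f 0 * (f 0 * f 1)⁻¹ = f 1 :=
      braid_conj (hsq 0) (hsq 1) (by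
        have := hpair 0 (by norm_num) 1 (by norm_num)
        rwa [show lab 0 1 = 3 by decide +kernel] at this)
    refine ⟨u * (f 0 * f 1)⁻¹ * P⁻¹, mul_mem (mul_mem huM (inv_mem (mul_mem (hfM 0 (by norm_num))
      (hfM 1 (by norm_num))))) (inv_mem hP), ?_⟩
    rw [show a = ((u * t 0 * u⁻¹ : ↥(Subgroup.closure (perp D d))) : G) from congrArg Subtype.val hab,
      Subgroup.coe_mul, Subgroup.coe_mul, Subgroup.coe_inv, ← hft 0 (by norm_num)]
    calc _ = (u : G) * (f 0 * f 1)⁻¹ * P⁻¹ * (P * f 1 * P⁻¹) * ((u : G) * (f 0 * f 1)⁻¹ * P⁻¹)⁻¹ :=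
          congrArg (fun x => (u : G) * (f 0 * f 1)⁻¹ * P⁻¹ * x * ((u : G) * (f 0 * f 1)⁻¹ * P⁻¹)⁻¹) hd'.symm
      _ = (u : G) * ((f 0 * f 1)⁻¹ * f 1 * (f 0 * f 1)) * (u : G)⁻¹ := by group
      _ = (u : G) * f 0 * (u : G)⁻¹ := by
        congr 2
        conv_lhs => arg 1; arg 2; rw [← hbr]
        group
  have hDM : ∀ x ∈ D, ∃ m ∈ M, m * d * m⁻¹ = x := by
    have hconn := ThreeTransp.connected_of_primitive ⟨hS, hcl, hgen⟩ hprim
      ⟨d, hd, _, (ht 0 (by norm_num)).1.1, (ht 0 (by norm_num)).1.2.1.symm, (ht 0 (by norm_num)).1.2.2⟩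
    have key : ∀ (x y : D), (Cfsg.commutingGraph D).Walk x y →
        (∃ m ∈ M, m * d * m⁻¹ = (x : G)) → ∃ m ∈ M, m * d * m⁻¹ = (y : G) := by
      intro x y p
      induction p with
      | nil => exact id
      | @cons x y z hxy _ ih =>
        intro hx
        refine ih ?_
        obtain ⟨m, hm, hmx⟩ := hx
        simp only [Cfsg.commutingGraph, SimpleGraph.fromRel_adj] at hxy
        have hcom : Commute (x : G) y := hxy.2.elim id Commute.symm
        have hback : m * (m⁻¹ * (y : G) * m) * m⁻¹ = y := by group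
        obtain ⟨m', hm', h'⟩ := hperpConj (m⁻¹ * y * m) (by
          refine ⟨by simpa using hcl m⁻¹ y y.2, fun h => hxy.1 (Subtype.ext ?_), (Commute.conj_iff m).1 ?_⟩
          · rw [← hmx, ← h, hback]
          · rw [hback, hmx]; exact hcom)
        refine ⟨m * m', mul_mem hm hm', ?_⟩
        rw [← hback, ← h']
        group
    intro x hx
    obtain ⟨p⟩ := hconn.preconnected ⟨d, hd⟩ ⟨x, hx⟩
    exact key _ _ p ⟨1, one_mem _, by group⟩
  have hMtop : M = ⊤ := by
    rw [eq_top_iff, ← hgen, Subgroup.closure_le]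
    intro x hx
    obtain ⟨m, hm, rfl⟩ := hDM x hx
    exact mul_mem (mul_mem hm hdM) (inv_mem hm)
  have hone : ∀ w ∈ [wordS, wordA], prodW f w = 1 := fun w hw => by
    rw [← Subgroup.mem_bot, ← hZ, Subgroup.mem_center_iff]
    exact fun y => ((hMcomm _ (hcent w hw) y (hMtop ▸ Subgroup.mem_top _)).eq).symm
  obtain ⟨Ψ, hΨ⟩ := exists_hom f hpair (hone _ (by simp)) (hone _ (by simp))
  have hsurj : Function.Surjective Ψ := by
    rw [← MonoidHom.range_eq_top, eq_top_iff, ← hMtop, hM, Subgroup.closure_le]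
    rintro - ⟨k, hk, rfl⟩
    exact ⟨_, hΨ k hk⟩
  have hinj : Function.Injective Ψ := by
    haveI : IsSimpleGroup Fi23 := Fi23Pres.isFi23.1
    rw [← MonoidHom.ker_eq_bot_iff]
    refine (inferInstance : Ψ.ker.Normal).eq_bot_or_eq_top.resolve_right fun h => ?_
    have h1 : f 1 = 1 := (hΨ 1 (by norm_num)).symm.trans (MonoidHom.mem_ker.1 (h ▸ Subgroup.mem_top _))
    have h2 := hS.1 _ (hfD 1 (by norm_num))
    rw [h1, orderOf_one] at h2
    omega
  let Φ : Fi23 ≃* G := MulEquiv.ofBijective Ψ ⟨hinj, hsurj⟩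
  refine ⟨Φ, ?_⟩
  have hΦ : Φ Fi23Pres.coverZ = d := by
    show Ψ _ = d
    rw [coverZ_words.2, map_mul, map_mul, map_inv, map_prodW, hΨ 1 (by norm_num), ← hd']
    rw [prodW_congr fun g hg => hΨ g (hlt10 halfWord (by simp) g hg)]
  ext x
  constructor
  · rintro ⟨u, hu, rfl⟩
    obtain ⟨g, rfl⟩ := isConj_iff.1 (hu : IsConj Fi23Pres.coverZ u)
    rw [map_mul, map_mul, map_inv, hΦ]
    exact hcl _ d hd
  · intro hx
    obtain ⟨g, hg⟩ := hprim.1 d hd x hx
    refine ⟨Φ.symm g * Fi23Pres.coverZ * (Φ.symm g)⁻¹, isConj_iff.2 ⟨_, rfl⟩, ?_⟩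
    rw [map_mul, map_mul, map_inv, hΦ, Φ.apply_symm_apply, hg]

end CfsgLib.M23
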