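import Cfsg.Agent.Lib.FischerClass.MathieuTwentyThreeLifts
import Cfsg.Agent.Lib.FischerClass.MathieuTwentyThreeRecog
import Cfsg.Agent.Lib.M23.Recognised
import Cfsg.Agent.Lib.FischerTypes.TypeTwentyThree
import Cfsg.Agent.Lib.FischerTypes.Transport

/-!
The case of a perp quotient of type M(22): the group is of type M(23).
-/

set_option autoImplicit false
set_option linter.unusedSectionVars false

namespace CfsgLib.FischerClass

open Cfsg
open CfsgLib.ThreeTransp CfsgLib.ThreeTransp.Relations

variable {G : Type*} [Group G] [Finite G] {D : Set G}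

/-- A class whose perp quotient is of type M(22) is that of the presented group Fi23. -/
theorem mathieu_23_iso (X : Ctx D) {d : G} (hd : d ∈ D)
    (h : Cfsg.IsOfTypeM22 (PerpQuot D d) (perpImage D d)) :
    ∃ φ : Cfsg.Spor.Fi23 ≃* G, φ '' Fi23Pres.transClass = D := by
  obtain ⟨hE, -, hEp, -, -⟩ := M23.perp_hyps X.hD X.hprim X.hZ hd h
  obtain ⟨ψ, hψ⟩ := TypeM22.recognition hE hEp h
  have he : ψ.symm '' perpImage D d = conjugatesOf (Fi22Pres.gen 0) := by
    rw [← hψ, ← Set.image_comp]
    simp [Fi22USix.transClass]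
  obtain ⟨c, hc, hdc⟩ := exists_not_commute X.cls X.hprim.2.1 hd
  obtain ⟨e, t, he', ht, htc, ht6⟩ := MQ.exists_lifts X hd hc hdc ψ.symm he
  exact M23.recognition_of_lifts X.hD X.hprim X.hZ hd hc hdc e t he' ht htc ht6

/-- A class whose perp quotient is of type M(22) is of type M(23). -/
theorem mathieu_23 (X : Ctx D) {d : G} (hd : d ∈ D)
    (h : Cfsg.IsOfTypeM22 (PerpQuot D d) (perpImage D d)) : Cfsg.IsOfTypeM23 G D := by
  obtain ⟨φ, hφ⟩ := mathieu_23_iso X hd h
  exact hφ ▸ FischerTypes.typeM23_map φ _ FischerTypes.fi23_type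

end CfsgLib.FischerClass
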