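import Cfsg.Agent.Lib.FischerClass.Basic
import Cfsg.Agent.Lib.FischerClass.MathieuTwentyTwoRecog
import Cfsg.Agent.Lib.FischerTypes.TypeTwentyTwo
import Cfsg.Agent.Lib.FischerTypes.Transport

/-!
The case of a unitary perp quotient of dimension 6: the group is of type M(22).
-/

set_option autoImplicit false
set_option linter.unusedSectionVars false

namespace CfsgLib.FischerClass

open Cfsg
open CfsgLib.ThreeTransp CfsgLib.ThreeTransp.Relations

variable {G : Type*} [Group G] [Finite G] {D : Set G}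

/-- A class whose perp quotient is U(6, 2) is that of the presented group Fi22. -/
theorem mathieu_22_iso (X : Ctx D) {d : G} (hd : d ∈ D)
    (e : PerpQuot D d ≃* Cfsg.PSU 6 HePres.K4 2) :
    ∃ φ : Cfsg.Spor.Fi22 ≃* G, φ '' Fi22USix.transClass = D :=
  TypeM22.Weak.recognition ⟨X.hD, X.hprim, X.hZ,
    fun _ ha => TypeM22.Weak.exists_pts_of X.hD X.hprim X.hsep hd e ha⟩

/-- A class whose perp quotient is U(6, 2) is of type M(22). -/
theorem mathieu_22 (X : Ctx D) {d : G} (hd : d ∈ D)
    (e : PerpQuot D d ≃* Cfsg.PSU 6 HePres.K4 2) : Cfsg.IsOfTypeM22 G D := by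
  obtain ⟨φ, hφ⟩ := mathieu_22_iso X hd e
  exact hφ ▸ FischerTypes.typeM22_map φ _ FischerTypes.fi22_type

end CfsgLib.FischerClass
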