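import Cfsg.Agent.Lib.FischerClass.SimpleGroup
import Cfsg.Agent.Lib.FischerClass.MathieuTwentyTwo
import Cfsg.Agent.Lib.FischerClass.MathieuTwentyThree
import Cfsg.Agent.Lib.FischerClass.MathieuTwentyFour
import Cfsg.Agent.Lib.FischerClass.MathieuNone

/-!
The exceptional cases of the classification.
-/

set_option autoImplicit false

namespace CfsgLib.FischerClass

universe u

/-- The exceptional cases hold. -/
theorem mathieuCases : MathieuCases.{u} where
  m22 X _ hd e := e.elim fun e => mathieu_22 X hd e
  m23 X _ hd h := mathieu_23 X hd h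
  m24 X _ hd h := mathieu_24 X hd h
  none X _ hd h2 h3 h := mathieu_none X hd h2 h3 h

end CfsgLib.FischerClass
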