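import Cfsg.Agent.Lib.FischerClass.Classify

/-!
Fischer's theorem for a class whose derived subgroup is simple.
-/

set_option autoImplicit false
set_option linter.style.haveILetI false
set_option linter.unusedSectionVars false

namespace CfsgLib.FischerClass

open Cfsg
open CfsgLib.HePres (K4)
open CfsgLib.ThreeTransp CfsgLib.ThreeTransp.Relations
open scoped commutatorElement

universe u

variable {G : Type u} [Group G] [Finite G] {D : Set G}

/-- The list for nonabelian simple derived subgroup. -/
theorem simple_derived_cases (F : MathieuCases.{u}) (hD : IsThreeTranspositionClass D)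
    (hZ : Subgroup.center G = ⊥) [IsSimpleGroup (commutator G)]
    (hnonab : ∃ x y : commutator G, x * y ≠ y * x) :
    (∃ e : G ≃* Equiv.Perm (Fin 5), e '' D = SymE 5) ∨
    (∃ m, 2 ≤ m ∧ ∃ e : G ≃* Matrix.symplecticGroup (Fin m) (ZMod 2), e '' D = SpE m) ∨
    (∃ n, 4 ≤ n ∧ ∃ e : G ≃* Cfsg.PSU n K4 2, e '' D = PsuE n) ∨ Classified D := by
  have hns := not_solvable_of_simple_derived hnonab
  have hG := class_isGroup hD
  have X : Ctx D := Ctx.of hG (primitive_of_simple_derived hnonab hD) hZ
    (exists_commuting_pair hD.1 hG.2.1 hD.2.2 hns)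
  obtain ⟨d, hd, -⟩ := hD.2.1
  by_cases h2 : Cfsg.pCore 2 ↥(perpGroup D d) ≤ Subgroup.center _
  swap
  · rcases (FischerO2.lines_of_core X.hD X.hprim X.hw hd h2).symp_or_unit with S | U
    · obtain ⟨m, hm, f, C⟩ := symp_coords S hZ
      exact Or.inr (Or.inl ⟨m, hm, (symp_model (by omega)).iso hG hZ C⟩)
    · obtain ⟨n, hn, f, C⟩ := unit_coords U
      exact Or.inr (Or.inr (Or.inl ⟨n, hn, (psu_model hn).iso hG hZ C⟩))
  by_cases h3 : Cfsg.pCore 3 ↥(perpGroup D d) ≤ Subgroup.center _
  swap
  · haveI : Fact (Nat.Prime 3) := ⟨Nat.prime_three⟩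
    have hcore : ∀ p : ℕ, p.Prime → Cfsg.pCore p G = ⊥ := fun p hp =>
      haveI := Fact.mk hp
      le_bot_iff.1 (hZ ▸ pCore_le_center_of_simple_derived hnonab)
    have hperf : ⁅commutator G, commutator G⁆ = commutator G := by
      haveI : Group.IsPerfect (commutator G) := ⟨(Subgroup.Normal.eq_bot_or_eq_top
        (inferInstance : (commutator (commutator G)).Normal)).resolve_left fun h => by
          obtain ⟨x, y, hxy⟩ := hnonab
          refine hxy ?_
          have hm : ⁅x, y⁆ ∈ commutator (commutator G) :=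
            Subgroup.commutator_mem_commutator (Subgroup.mem_top x) (Subgroup.mem_top y)
          rw [h, Subgroup.mem_bot, commutatorElement_eq_one_iff_mul_comm] at hm
          exact hm⟩
      exact Subgroup.isPerfect_iff.mp inferInstance
    have hodd : ¬ Cfsg.oddCore ↥(perpGroup D d) ≤ Subgroup.center _ := fun h => h3 (le_trans (by
      refine le_sSup ⟨Fitting.pCore_normal 3, ?_⟩
      obtain ⟨k, hk⟩ := IsPGroup.iff_card.1 (Fitting.pCore_isPGroup (G := ↥(perpGroup D d)) 3)
      rw [hk]
      exact Nat.Coprime.pow_left k (by norm_num)) h)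
    obtain ⟨e⟩ := Cfsg.Agent.S1615.result (solvable_normal_bot hcore) hperf hD d hd hodd
    exact Or.inl ⟨e, five_image hD e⟩
  exact Or.inr (Or.inr (Or.inr (classified_of F X hd h2 h3)))

/-- An abelian simple derived subgroup: the symmetric group of degree three. -/
theorem abelian_derived (hD : IsThreeTranspositionClass D) (hZ : Subgroup.center G = ⊥)
    [IsSimpleGroup (commutator G)] (hab : ∀ x y : commutator G, x * y = y * x) :
    ∃ e : G ≃* Equiv.Perm (Fin 3), e '' D = SymE 3 := by
  classical
  set C := commutator G with hC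
  have hidx := index_le_two_of_commutator_le hD (le_refl C)
  haveI : Nontrivial C := IsSimpleGroup.toNontrivial
  have hnab : ¬ ∀ a b : G, a * b = b * a := fun h => by
    have hbot : C = ⊥ := by
      rw [hC, commutator_def, Subgroup.commutator_eq_bot_iff_le_centralizer]
      exact fun a _ => Subgroup.mem_centralizer_iff.2 fun b _ => h b a
    exact (Subgroup.nontrivial_iff_ne_bot C).1 inferInstance hbot
  obtain ⟨d, hd, -⟩ := hD.2.1
  have hdC : d ∉ C := by
    intro h
    refine hnab fun a b => ?_
    have hle : Subgroup.closure D ≤ C := (Subgroup.closure_le _).2 fun x hx => by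
      obtain ⟨g, rfl⟩ := class_exists_conj hD hd hx
      exact (inferInstance : C.Normal).conj_mem d h g
    rw [hD.2.2] at hle
    exact congrArg Subtype.val (hab ⟨a, hle (Subgroup.mem_top a)⟩ ⟨b, hle (Subgroup.mem_top b)⟩)
  have h2 : C.index = 2 := by
    have := Nat.pos_of_ne_zero (Subgroup.index_ne_zero_of_finite (H := C))
    rcases (by omega : C.index = 1 ∨ C.index = 2) with h | h
    · exact absurd (Subgroup.index_eq_one.1 h ▸ Subgroup.mem_top d) hdC
    · exact h
  have hp : (Nat.card C).Prime := by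
    letI : CommGroup C := { (inferInstance : Group C) with mul_comm := hab }
    exact IsSimpleGroup.prime_card
  have hcard : Nat.card G = 2 * Nat.card C := by
    rw [← C.index_mul_card, h2]
  obtain ⟨b, hb, hdb⟩ : ∃ b ∈ D, ¬ Commute d b := by
    by_contra! h
    refine hnab fun x y => ?_
    have hle : (⊤ : Subgroup G) ≤ Subgroup.zpowers d := by
      rw [← hD.2.2, Subgroup.closure_le]
      intro e he
      rw [eq_of_forall_commute hD hd h he]
      exact Subgroup.mem_zpowers d
    obtain ⟨i, rfl⟩ := Subgroup.mem_zpowers_iff.1 (hle (Subgroup.mem_top x))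
    obtain ⟨j, rfl⟩ := Subgroup.mem_zpowers_iff.1 (hle (Subgroup.mem_top y))
    rw [← zpow_add, ← zpow_add, add_comm]
  have hbC : b ∉ C := by
    obtain ⟨g, rfl⟩ := class_exists_conj hD hd hb
    exact fun h => hdC (by simpa [mul_assoc] using (inferInstance : C.Normal).conj_mem _ h g⁻¹)
  have hm : d * b ∈ C := (Subgroup.mul_mem_iff_of_index_two h2).2 (iff_of_false hdC hbC)
  have hc3 : Nat.card C = 3 := by
    have h3 : orderOf (d * b) ∣ Nat.card C := Subgroup.orderOf_dvd_natCard _ hm
    rw [orderOf_mul_of_not_commute hD.1 hd hb hdb] at h3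
    exact ((Nat.prime_dvd_prime_iff_eq Nat.prime_three hp).1 h3).symm
  have h6 : Nat.card G = 6 := by omega
  have hsub : D ⊆ (C : Set G)ᶜ := fun x hx h => hdC (by
    obtain ⟨g, rfl⟩ := class_exists_conj hD hx hd
    exact (inferInstance : C.Normal).conj_mem x h g)
  have hle3 : D.ncard ≤ 3 := by
    refine (Set.ncard_le_ncard hsub (Set.toFinite _)).trans_eq ?_
    rw [Set.ncard_compl, h6]
    change 6 - Nat.card C = 3
    omega
  have hge3 : 3 ≤ D.ncard := by
    have hne : b ≠ d * b * d := fun e => hdb (commute_of_conj_eq hD.1 hd e.symm)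
    have hne' : d ≠ d * b * d := fun e => hdb (by
      have h : b = d := by
        calc b = d * (d * b * d) * d := (conj_conj hD.1 hd b).symm
          _ = d := by rw [← e, mul_self_eq_one hD.1 hd, one_mul]
      exact h ▸ Commute.refl d)
    calc 3 = ({d, b, d * b * d} : Set G).ncard := (Set.ncard_eq_three.2
          ⟨d, b, _, fun e => hdb (e ▸ Commute.refl d), hne', hne, rfl⟩).symm
      _ ≤ _ := Set.ncard_le_ncard (by
          rintro x (rfl | rfl | rfl)
          exacts [hd, hb, by
            have h := class_conjClosed hD d b hb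
            rwa [inv_eq_self hD.1 hd] at h]) (Set.toFinite _)
  haveI : Fintype D := Fintype.ofFinite D
  have hcD : Fintype.card D = 3 := by rw [← Nat.card_eq_fintype_card]; exact le_antisymm hle3 hge3
  set α := FischerO2.setAct D (class_conjClosed hD)
  have hinj : Function.Injective α := FischerO2.setAct_injective D _ hD.2.2 hZ
  let e₀ : Equiv.Perm D ≃* Equiv.Perm (Fin 3) := (Fintype.equivFinOfCardEq hcD).permCongrHom
  set φ : G →* Equiv.Perm (Fin 3) := e₀.toMonoidHom.comp α
  have hφ : Function.Bijective φ := (Nat.bijective_iff_injective_and_card _).2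
    ⟨e₀.injective.comp hinj, by rw [h6, Nat.card_eq_fintype_card, Fintype.card_perm]; rfl⟩
  let e := MulEquiv.ofBijective φ hφ
  refine ⟨e, ?_⟩
  have key : ∀ σ : Equiv.Perm (Fin 3), σ * σ = 1 → σ ≠ 1 → ∃ x y, x ≠ y ∧ σ = Equiv.swap x y := by
    decide +kernel
  obtain ⟨x, y, hxy, he⟩ := key (e d) (by rw [← map_mul, mul_self_eq_one hD.1 hd, map_one])
    (fun h => ne_one_of_mem hD.1 hd (e.injective (h.trans e.map_one.symm)))
  ext σ
  constructor
  · rintro ⟨z, hz, rfl⟩
    obtain ⟨g, rfl⟩ := class_exists_conj hD hd hz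
    refine ⟨e g x, e g y, (e g).injective.ne hxy, ?_⟩
    rw [map_mul, map_mul, map_inv, he, Equiv.swap_apply_apply]
  · rintro ⟨z, w, hzw, rfl⟩
    obtain ⟨g, hg⟩ := isConj_iff.1 (Equiv.Perm.isConj_swap hxy hzw)
    exact ⟨e.symm g * d * (e.symm g)⁻¹, class_conjClosed hD _ d hd, by
      rw [map_mul, map_mul, map_inv, e.apply_symm_apply, he, hg]⟩

end CfsgLib.FischerClass
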