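import Cfsg.Agent.Lib.ThreeTransp.Relations
import Cfsg.Agent.Lib.ThreeTransp.RelationsType

/-!
Coordinates on the neighbours of a member of a primitive class of 3-transpositions, and the local
structure of the common neighbours of two non-commuting members.
-/

set_option autoImplicit false
set_option linter.style.haveILetI false
set_option linter.unusedSectionVars false

namespace CfsgLib.FischerClass

open Cfsg
open CfsgLib.ThreeTransp CfsgLib.ThreeTransp.Relations

variable {G : Type*} [Group G] {D : Set G}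

/-- The standing hypotheses. -/
structure Ctx (D : Set G) : Prop where
  hD : IsThreeTranspositionGroup D
  hprim : IsPrimitiveUnderConj D
  hZ : Subgroup.center G = ⊥
  hsep : Sep D
  hw : ∃ a ∈ D, ∃ b ∈ D, a ≠ b ∧ Commute a b

theorem Ctx.hS (X : Ctx D) : IsThreeTranspositionSet D := X.hD.1

theorem Ctx.hc (X : Ctx D) : IsConjClosed D := X.hD.2.1

theorem Ctx.cls (X : Ctx D) : IsThreeTranspositionClass D := (class_of_primitive X.hD X.hprim).1

theorem Ctx.exists_conj (X : Ctx D) {a b : G} (ha : a ∈ D) (hb : b ∈ D) : ∃ g : G, g * a * g⁻¹ = b :=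
  class_exists_conj X.cls ha hb

/-- The hypotheses needed of a model. -/
structure Base (D : Set G) : Prop where
  hD : IsThreeTranspositionGroup D
  cls : IsThreeTranspositionClass D
  hZ : Subgroup.center G = ⊥

theorem Ctx.base (X : Ctx D) : Base D := ⟨X.hD, X.cls, X.hZ⟩

theorem Base.hS (X : Base D) : IsThreeTranspositionSet D := X.hD.1

theorem Base.hc (X : Base D) : IsConjClosed D := X.hD.2.1

theorem Base.exists_conj (X : Base D) {a b : G} (ha : a ∈ D) (hb : b ∈ D) : ∃ g : G, g * a * g⁻¹ = b :=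
  class_exists_conj X.cls ha hb

theorem commute_conjBy (g x y : G) : Commute (g * x * g⁻¹) (g * y * g⁻¹) ↔ Commute x y :=
  Commute.conj_iff g

/-- Any two non-commuting pairs are conjugate. -/
theorem Ctx.pair_conj [Finite G] (X : Ctx D) {x y d a : G} (hx : x ∈ D) (hy : y ∈ D) (hd : d ∈ D)
    (ha : a ∈ D) (hxy : ¬ Commute x y) (hda : ¬ Commute d a) :
    ∃ g : G, g * x * g⁻¹ = d ∧ g * y * g⁻¹ = a := by
  obtain ⟨g, hg⟩ := X.exists_conj hx hd
  have hne : ¬ Commute d (g * y * g⁻¹) := fun h => hxy (by rwa [← hg, commute_conjBy] at h)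
  obtain ⟨h, hh, hha⟩ := transitive_not_commute X.hD X.hprim X.hw hd (X.hc g y hy) ha hne hda
  have hd' := (perp_closure_conj X.hS X.hc hh hd).1
  refine ⟨h * g, ?_, by rw [← hha]; group⟩
  rw [show h * g * x * (h * g)⁻¹ = h * (g * x * g⁻¹) * h⁻¹ by group, hg, hd'.eq, mul_inv_cancel_right]

/-- The members commuting with both of two members. -/
abbrev mu (D : Set G) (d a : G) : Set G := {u | u ∈ D ∧ Commute d u ∧ Commute a u}

theorem mu_conj (hc : IsConjClosed D) (g d a : G) {u : G} :
    g * u * g⁻¹ ∈ mu D (g * d * g⁻¹) (g * a * g⁻¹) ↔ u ∈ mu D d a := by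
  refine ⟨fun h => ⟨by simpa [mul_assoc] using hc g⁻¹ _ h.1, (commute_conjBy g d u).1 h.2.1,
    (commute_conjBy g a u).1 h.2.2⟩, fun h => ⟨hc g u h.1, (commute_conjBy g d u).2 h.2.1,
    (commute_conjBy g a u).2 h.2.2⟩⟩

/-- Coordinates on the neighbours of `d`. -/
structure Co (D : Set G) (d : G) {P : Type*} (op : P → P → P) (f : P → G) : Prop where
  inj : Function.Injective f
  range : Set.range f = nbr D d
  conj : ∀ p q, f (op p q) = f p * f q * f p

/-- The points of the coordinate space commuting with a given one. -/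
abbrev Nb {P : Type*} (op : P → P → P) (A : P) : Set P := {r | r ≠ A ∧ op A r = r}

section Co

variable {P : Type*} {op : P → P → P} {f : P → G} {d : G} (C : Co D d op f)
include C

theorem Co.mem (p : P) : f p ∈ nbr D d := C.range ▸ Set.mem_range_self p

theorem Co.exists_pt {y : G} (hy : y ∈ nbr D d) : ∃ p, f p = y := by
  rwa [← C.range] at hy

theorem Co.com_iff (hS : IsThreeTranspositionSet D) (p q : P) :
    Commute (f p) (f q) ↔ op p q = q := by
  refine ⟨fun h => C.inj ?_, fun h => commute_of_conj_eq hS (C.mem p).1 ?_⟩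
  · rw [C.conj]; exact conj_eq_of_commute hS (C.mem p).1 h
  · rw [← C.conj, h]

theorem Co.com_symm (hS : IsThreeTranspositionSet D) {p q : P} (h : op p q = q) : op q p = p :=
  (C.com_iff hS q p).1 ((C.com_iff hS p q).2 h).symm

theorem Co.op_self (hS : IsThreeTranspositionSet D) (p : P) : op p p = p :=
  (C.com_iff hS p p).1 (Commute.refl _)

theorem Co.op_op (hS : IsThreeTranspositionSet D) (p q : P) : op p (op p q) = q :=
  C.inj (by rw [C.conj, C.conj, conj_conj hS (C.mem p).1])

theorem Co.op_dist (hS : IsThreeTranspositionSet D) (p q r : P) :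
    op p (op q r) = op (op p q) (op p r) := by
  refine C.inj ?_
  simp only [C.conj]
  have := mul_self_eq_one hS (C.mem p).1
  calc f p * (f q * f r * f q) * f p
      = f p * f q * (f p * f p) * f r * (f p * f p) * f q * f p := by rw [this]; group
    _ = f p * f q * f p * (f p * f r * f p) * (f p * f q * f p) := by group

theorem Co.nb_iff (hS : IsThreeTranspositionSet D) (p q : P) : q ∈ Nb op p ↔ f q ∈ nbr D (f p) := by
  refine ⟨fun h => ⟨(C.mem q).1, fun e => h.1 (C.inj e), (C.com_iff hS p q).2 h.2⟩, fun h =>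
    ⟨fun e => h.2.1 (by rw [e]), (C.com_iff hS p q).1 h.2.2⟩⟩

theorem Co.conjBy (hc : IsConjClosed D) (g : G) :
    Co D (g * d * g⁻¹) op fun p => g * f p * g⁻¹ where
  inj p q h := C.inj (mul_left_cancel (mul_right_cancel h))
  range := by
    rw [← image_nbr hc d g, ← C.range, ← Set.range_comp]
    rfl
  conj p q := by show g * f (op p q) * g⁻¹ = _; rw [C.conj]; group

theorem Co.reindex (σ : P ≃ P) (hσ : ∀ p q, σ (op p q) = op (σ p) (σ q)) :
    Co D d op (f ∘ σ) where
  inj := C.inj.comp σ.injective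
  range := by rw [σ.surjective.range_comp, C.range]
  conj p q := by simp only [Function.comp, hσ, C.conj]

end Co

/-- The coordinates of the members commuting with `a`. -/
abbrev Sc {P : Type*} (f : P → G) (a : G) : Set P := {p | Commute a (f p)}

/-- What a member of `mu D d a` sees: its coordinates turn `d` and `a` into two non-commuting points. -/
structure View (D : Set G) {P : Type*} (op : P → P → P) (f : P → G) (d a : G) (p : P) where
  /-- coordinates at the point -/
  fe : P → G
  /-- the point of `d` -/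
  A : P
  /-- the point of `a` -/
  B : P
  /-- the comparison with the coordinates at `d` -/
  τ : P → P
  co : Co D (f p) op fe
  feA : fe A = d
  feB : fe B = a
  noncomm : op A B ≠ B
  bij : Set.BijOn τ (Nb op A) (Nb op p)
  fe_eq : ∀ r ∈ Nb op A, fe r = f (τ r)

theorem exists_view (X : Base D) {P : Type*} {op : P → P → P} {f : P → G} {d a : G}
    (C : Co D d op f) (hd : d ∈ D) (ha : a ∈ D) (hda : ¬ Commute d a) {p : P} (hp : p ∈ Sc f a) :
    Nonempty (View D op f d a p) := by
  obtain ⟨g, hg⟩ := X.exists_conj hd (C.mem p).1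
  have C' : Co D (f p) op fun q => g * f q * g⁻¹ := hg ▸ C.conjBy X.hc g
  set fe : P → G := fun q => g * f q * g⁻¹
  have hd' : d ∈ nbr D (f p) := ⟨hd, (C.mem p).2.1.symm, (C.mem p).2.2.symm⟩
  have hap : a ≠ f p := fun e => hda (by rw [e]; exact (C.mem p).2.2)
  have ha' : a ∈ nbr D (f p) := ⟨ha, hap, (hp : Commute a (f p)).symm⟩
  obtain ⟨A, hA⟩ := C'.exists_pt hd'
  obtain ⟨B, hB⟩ := C'.exists_pt ha'
  have hnc : op A B ≠ B := fun e => hda (by rw [← hA, ← hB]; exact (C'.com_iff X.hS A B).2 e)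
  have hstep : ∀ r ∈ Nb op A, ∃ q, q ∈ Nb op p ∧ f q = fe r := by
    intro r hr
    have h1 := (C'.nb_iff X.hS A r).1 hr
    rw [hA] at h1
    obtain ⟨q, hq⟩ := C.exists_pt h1
    exact ⟨q, (C.nb_iff X.hS p q).2 (hq ▸ C'.mem r), hq⟩
  classical
  let τ : P → P := fun r => if h : r ∈ Nb op A then (hstep r h).choose else r
  have hτ : ∀ r ∈ Nb op A, τ r ∈ Nb op p ∧ f (τ r) = fe r := fun r hr => by
    simp only [τ, dif_pos hr]; exact (hstep r hr).choose_spec
  refine ⟨⟨fe, A, B, τ, C', hA, hB, hnc, ⟨fun r hr => (hτ r hr).1, fun r hr s hs e => ?_, ?_⟩,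
    fun r hr => (hτ r hr).2.symm⟩⟩
  · exact C'.inj (by rw [← (hτ r hr).2, ← (hτ s hs).2, e])
  · intro q hq
    obtain ⟨r, hr⟩ := C'.exists_pt ((C.nb_iff X.hS p q).1 hq)
    have hrA : r ∈ Nb op A := (C'.nb_iff X.hS A r).2 (by rw [hA, hr]; exact C.mem q)
    exact ⟨r, hrA, C.inj (by rw [(hτ r hrA).2, hr])⟩

namespace View

variable {P : Type*} {op : P → P → P} {f : P → G} {d a : G} {p : P} (V : View D op f d a p)
include V

theorem τ_op (hS : IsThreeTranspositionSet D) (C : Co D d op f) {r s : P} (hr : r ∈ Nb op V.A)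
    (hs : s ∈ Nb op V.A) : op r s ∈ Nb op V.A ∧ V.τ (op r s) = op (V.τ r) (V.τ s) := by
  have hrs : op r s ∈ Nb op V.A := by
    refine ⟨fun e => hs.1 ?_, ?_⟩
    · rw [← V.co.op_op hS r s, e, V.co.com_symm hS hr.2]
    · rw [V.co.op_dist hS, hr.2, hs.2]
  refine ⟨hrs, C.inj ?_⟩
  rw [← V.fe_eq _ hrs, V.co.conj, C.conj, V.fe_eq _ hr, V.fe_eq _ hs]

/-- The section: the common neighbours of the two points correspond to the points of `Sc f a`. -/
theorem mem_iff (hS : IsThreeTranspositionSet D) {r : P} (hr : r ∈ Nb op V.A) :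
    V.τ r ∈ Sc f a ↔ op V.B r = r := by
  show Commute a (f (V.τ r)) ↔ _
  have := V.co.com_iff hS V.B r
  rwa [V.feB, V.fe_eq r hr] at this

end View

end CfsgLib.FischerClass
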