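import Cfsg.Agent.Lib.FischerClass.Coords
import Cfsg.Agent.Lib.Classical.SympTrans
import Cfsg.Prelude.Def_Classical

/-!
The coordinate space of symplectic transvections over the field of two elements.
-/

set_option autoImplicit false
set_option linter.unusedSectionVars false

namespace CfsgLib.FischerClass

open Cfsg

/-- Symplectic vectors over the field of two elements. -/
abbrev SV (m : ℕ) : Type := Fin m ⊕ Fin m → ZMod 2

/-- The form. -/
abbrev sw {m : ℕ} (u v : SV m) : ZMod 2 := sympForm m (ZMod 2) u v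

/-- The points: the non-zero vectors. -/
abbrev SP (m : ℕ) : Type := {v : SV m // v ≠ 0}

variable {m : ℕ}

theorem two_cases (c : ZMod 2) : c = 0 ∨ c = 1 := by revert c; decide

theorem two_add (x : SV m) : x + x = 0 := by
  funext i; exact (by decide : ∀ a : ZMod 2, a + a = 0) (x i)

theorem add_two (x y : SV m) : x + (x + y) = y := by rw [← add_assoc, two_add, zero_add]

theorem sw_comm (u v : SV m) : sw v u = sw u v := by
  rw [sw, Classical.SympTrans.f_swap]
  exact (by decide : ∀ a : ZMod 2, -a = a) _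

theorem sw_self (u : SV m) : sw u u = 0 := Classical.SympTrans.f_self u

theorem sw_add_right (u v w : SV m) : sw u (v + w) = sw u v + sw u w :=
  Classical.SympTrans.f_add_right u v w

theorem sw_add_left (u v w : SV m) : sw (u + v) w = sw u w + sw v w :=
  Classical.SympTrans.f_add_left u v w

theorem sw_smul_right (c : ZMod 2) (u v : SV m) : sw u (c • v) = c * sw u v :=
  Classical.SympTrans.f_smul_right c u v

theorem sw_smul_left (c : ZMod 2) (u v : SV m) : sw (c • u) v = c * sw u v :=
  Classical.SympTrans.f_smul_left c u v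

theorem sw_zero_right (u : SV m) : sw u 0 = 0 := Classical.SympTrans.f_zero_right u

theorem sw_zero_left (u : SV m) : sw 0 u = 0 := Classical.SympTrans.f_zero_left u

theorem op_ne_zero (p q : SP m) : (q : SV m) + sw q.1 p.1 • (p : SV m) ≠ 0 := by
  intro h
  rcases two_cases (sw q.1 p.1) with e | e
  · rw [e, zero_smul, add_zero] at h; exact q.2 h
  · rw [e, one_smul] at h
    have : (q : SV m) = p := by rw [← add_two (p : SV m) q, add_comm (p : SV m) q, h, add_zero]
    rw [this, sw_self] at e
    exact zero_ne_one e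

/-- The transvection at the first point applied to the second. -/
def pop (p q : SP m) : SP m := ⟨(q : SV m) + sw q.1 p.1 • (p : SV m), op_ne_zero p q⟩

theorem pop_val (p q : SP m) : (pop p q).1 = (q : SV m) + sw q.1 p.1 • (p : SV m) := rfl

theorem pop_eq_iff (p q : SP m) : pop p q = q ↔ sw (p : SV m) q = 0 := by
  rw [Subtype.ext_iff, pop_val, add_eq_left, smul_eq_zero, or_iff_left p.2, sw_comm]

theorem adj_iff (p q : SP m) : Adj pop p q ↔ sw (p : SV m) q = 1 := by
  rw [Adj, Ne, pop_eq_iff]
  rcases two_cases (sw p.1 q.1) with h | h <;> simp [h]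

theorem nb_iff (p q : SP m) : q ∈ Nb pop p ↔ q ≠ p ∧ sw (p : SV m) q = 0 := by
  show q ≠ p ∧ _ ↔ _
  rw [pop_eq_iff]

theorem pop_of_adj {p q : SP m} (h : sw (p : SV m) q = 1) : (pop p q).1 = (p : SV m) + q := by
  rw [pop_val, sw_comm, h, one_smul, add_comm]

/-- A linear functional is the product with a vector. -/
theorem exists_sw (φ : SV m →ₗ[ZMod 2] ZMod 2) : ∃ z, ∀ x, sw z x = φ x := by
  refine ⟨fun i => Sum.elim (fun i => φ (Pi.single (Sum.inr i) 1)) (fun i => φ (Pi.single (Sum.inl i) 1)) i,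
    fun x => ?_⟩
  set z : SV m := fun i => Sum.elim (fun i => φ (Pi.single (Sum.inr i) 1)) (fun i => φ (Pi.single (Sum.inl i) 1)) i
  conv_rhs => rw [pi_eq_sum_univ' x, map_sum]
  conv_lhs => rw [pi_eq_sum_univ' x]
  have key : ∀ s : Finset (Fin m ⊕ Fin m),
      sw z (∑ i ∈ s, x i • (Pi.single i 1 : SV m)) = ∑ i ∈ s, φ (x i • (Pi.single i 1 : SV m)) := by
    intro s
    induction s using Finset.induction_on with
    | empty => simp [sw_zero_right]
    | insert a s ha ih =>
      rw [Finset.sum_insert ha, Finset.sum_insert ha, sw_add_right, ih, sw_smul_right, map_smul, smul_eq_mul]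
      congr 2
      rcases a with a | a
      · exact Classical.SympTrans.f_inl z a
      · rw [sw, Classical.SympTrans.f_inr, ZMod.neg_eq_self_mod_two]; rfl
  exact key _

/-- A product may be prescribed on a vector outside a span, keeping the others. -/
theorem adjust {s : Set (SV m)} {v : SV m} (hv : v ∉ Submodule.span (ZMod 2) s) (z : SV m) (c : ZMod 2) :
    ∃ z', (∀ x ∈ s, sw z' x = sw z x) ∧ sw z' v = c := by
  obtain ⟨φ, hφ, hs⟩ := Submodule.exists_dual_map_eq_bot_of_notMem hv inferInstance
  obtain ⟨w, hw⟩ := exists_sw φ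
  refine ⟨z + (c + sw z v) • w, fun x hx => ?_, ?_⟩
  · have : φ x = 0 := (Submodule.mem_bot _).1 (hs ▸ Submodule.mem_map_of_mem (Submodule.subset_span hx))
    rw [sw_add_left, sw_smul_left, hw, this, mul_zero, add_zero]
  · rw [sw_add_left, sw_smul_left, hw, (two_cases (φ v)).resolve_left hφ, mul_one]
    exact (by decide : ∀ a b : ZMod 2, a + (b + a) = b) _ _

theorem mem_span_one {a v : SV m} (h : v ∈ Submodule.span (ZMod 2) {a}) : v = 0 ∨ v = a := by
  obtain ⟨c, rfl⟩ := Submodule.mem_span_singleton.1 h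
  rcases two_cases c with rfl | rfl
  · exact Or.inl (zero_smul _ _)
  · exact Or.inr (one_smul _ _)

theorem mem_span_two {a b v : SV m} (h : v ∈ Submodule.span (ZMod 2) {a, b}) :
    v = 0 ∨ v = a ∨ v = b ∨ v = a + b := by
  obtain ⟨c, w, hw, rfl⟩ := Submodule.mem_span_insert.1 h
  rcases mem_span_one hw with rfl | rfl <;> rcases two_cases c with rfl | rfl <;> simp

theorem sw_nondeg {v : SV m} (h : ∀ z, sw z v = 0) : v = 0 := by
  by_contra hv
  obtain ⟨z, -, hz⟩ := adjust (s := ∅) (v := v) (by simpa using hv) 0 1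
  rw [h z] at hz
  exact zero_ne_one hz

/-- A product may be prescribed on two distinct points. -/
theorem exists_two (e q : SP m) (hne : q ≠ e) (c c' : ZMod 2) :
    ∃ z, sw z e.1 = c ∧ sw z q.1 = c' := by
  obtain ⟨z₁, -, h1⟩ := adjust (s := ∅) (v := (e : SV m)) (by simpa using e.2) 0 c
  obtain ⟨z₂, h2, h3⟩ := adjust (s := {(e : SV m)}) (v := (q : SV m)) (fun h => by
    rcases mem_span_one h with h | h
    · exact q.2 h
    · exact hne (Subtype.ext h)) z₁ c'
  exact ⟨z₂, (h2 _ rfl).trans h1, h3⟩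

theorem ne_zero_of_sw {z v : SV m} (h : sw z v = 1) : z ≠ 0 := fun e => by
  rw [e, sw_zero_left] at h; exact zero_ne_one h

theorem dense : Dense (pop (m := m)) where
  exists_common e q hq := by
    obtain ⟨z, h1, h2⟩ := exists_two e q hq.1 1 1
    exact ⟨⟨z, ne_zero_of_sw h1⟩, (adj_iff _ _).2 h1, (adj_iff _ _).2 h2⟩
  triple e p q hp hq hpq := by
    rw [nb_iff] at hp hq
    rw [adj_iff] at hpq
    obtain ⟨z, h1, h2⟩ := exists_two e p hp.1 1 1
    obtain ⟨z', h3, h4⟩ := adjust (s := {(e : SV m), (p : SV m)}) (v := (q : SV m)) (fun h => by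
      rcases mem_span_two h with h | h | h | h
      · exact q.2 h
      · exact hq.1 (Subtype.ext h)
      · rw [h, sw_self] at hpq; exact zero_ne_one hpq
      · rw [h, sw_add_right, sw_self, sw_comm, hp.2, add_zero] at hpq
        exact zero_ne_one hpq) z 1
    have h3e := (h3 _ (Set.mem_insert _ _)).trans h1
    exact ⟨⟨z', ne_zero_of_sw h3e⟩, (adj_iff _ _).2 h3e,
      (adj_iff _ _).2 ((h3 _ (Set.mem_insert_of_mem _ rfl)).trans h2), (adj_iff _ _).2 h4⟩
  common_conn e q hq z z' hze hzq hze' hzq' := by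
    rw [adj_iff] at hze hzq hze' hzq'
    rw [nb_iff] at hq
    rcases two_cases (sw z.1 z'.1) with hzz | hzz
    swap
    · exact Relation.ReflTransGen.single ⟨(adj_iff _ _).2 hzz, (adj_iff _ _).2 hze', (adj_iff _ _).2 hzq'⟩
    obtain ⟨w₀, h1, h2⟩ := exists_two e q hq.1 1 1
    obtain ⟨w₁, h3, h4⟩ := adjust (s := {(e : SV m), (q : SV m)}) (v := (z : SV m)) (fun h => by
      rcases mem_span_two h with h | h | h | h
      · exact z.2 h
      · rw [h, sw_self] at hze; exact zero_ne_one hze
      · rw [h, sw_comm, hq.2] at hze; exact zero_ne_one hze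
      · rw [h, sw_add_left, sw_self, sw_comm, hq.2, add_zero] at hze; exact zero_ne_one hze) w₀ 1
    have g1 := (h3 _ (Set.mem_insert _ _)).trans h1
    have g2 := (h3 _ (Set.mem_insert_of_mem _ rfl)).trans h2
    obtain ⟨w, k1, k2, k3, k4⟩ : ∃ w, sw w e.1 = 1 ∧ sw w q.1 = 1 ∧ sw w z.1 = 1 ∧ sw w z'.1 = 1 := by
      by_cases hmem : (z' : SV m) ∈ Submodule.span (ZMod 2) {(e : SV m), (q : SV m), (z : SV m)}
      · obtain ⟨a, y, hy, hz'⟩ := Submodule.mem_span_insert.1 hmem
        obtain ⟨b, y', hy', rfl⟩ := Submodule.mem_span_insert.1 hy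
        obtain ⟨c, rfl⟩ := Submodule.mem_span_singleton.1 hy'
        refine ⟨w₁, g1, g2, h4, ?_⟩
        rw [hz', sw_add_right, sw_add_right, sw_smul_right, sw_smul_right, sw_smul_right, g1, g2, h4]
        rw [hz', sw_add_left, sw_add_left, sw_smul_left, sw_smul_left, sw_smul_left, sw_self,
          sw_comm (e : SV m) q, hq.2, hze] at hze'
        rw [hz', sw_add_right, sw_add_right, sw_smul_right, sw_smul_right, sw_smul_right, hze, hzq,
          sw_self] at hzz
        exact (by decide : ∀ a b c : ZMod 2, a * 1 + (b * 1 + c * 0) = 0 → a * 0 + (b * 0 + c * 1) = 1 →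
          a * 1 + (b * 1 + c * 1) = 1) a b c hzz hze'
      · obtain ⟨w, h5, h6⟩ := adjust hmem w₁ 1
        exact ⟨w, (h5 _ (by simp)).trans g1, (h5 _ (by simp)).trans g2, (h5 _ (by simp)).trans h4, h6⟩
    let W : SP m := ⟨w, ne_zero_of_sw k1⟩
    exact (Relation.ReflTransGen.single (b := W)
      ⟨(adj_iff _ _).2 (by rw [sw_comm]; exact k3), (adj_iff _ _).2 k1, (adj_iff _ _).2 k2⟩).tail
      ⟨(adj_iff _ _).2 k4, (adj_iff _ _).2 hze', (adj_iff _ _).2 hzq'⟩

/-- A vector with the same products with the perp of a point is a multiple of it. -/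
theorem eq_or_eq_add {A v : SV m} (h : ∀ r : SV m, sw r A = 0 → sw r v = 0) : v = 0 ∨ v = A := by
  refine mem_span_one (Classical.byContradiction fun hn => ?_)
  obtain ⟨z, h1, h2⟩ := adjust (s := {A}) hn 0 1
  rw [h z (by rw [h1 A rfl, sw_zero_left])] at h2
  exact zero_ne_one h2

theorem space : Space (pop (m := m)) where
  dense := dense
  fib A B B' hAB hAB' h := by
    rw [adj_iff] at hAB hAB'
    have hall : ∀ r : SV m, sw r A.1 = 0 → sw r (B.1 + B'.1) = 0 := by
      intro r hr
      rw [sw_add_right]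
      by_cases h0 : r = 0
      · rw [h0, sw_zero_left, sw_zero_left, add_zero]
      by_cases hA : r = A
      · rw [hA, hAB, hAB']; rfl
      have h1 := h ⟨r, h0⟩ ((nb_iff _ _).2 ⟨fun e => hA (congrArg Subtype.val e), by rw [sw_comm]; exact hr⟩)
      rw [pop_eq_iff, pop_eq_iff, sw_comm r (B : SV m), sw_comm r (B' : SV m)] at h1
      change (sw r B = 0 ↔ sw r B' = 0) at h1
      revert h1
      generalize sw r (B : SV m) = x
      generalize sw r (B' : SV m) = y
      revert x y
      decide
    rcases eq_or_eq_add hall with e | e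
    · exact Or.inl (Subtype.ext (by rw [← add_two (B : SV m) B', e, add_zero]))
    · refine Or.inr (Subtype.ext ?_)
      rw [pop_of_adj hAB, ← add_two (B : SV m) B', e, add_comm]
  gen A B hAB T hT hN hA hB := by
    rw [adj_iff] at hAB
    refine Set.eq_univ_of_forall fun x => ?_
    have hperp : ∀ r : SP m, sw (A : SV m) r = 0 → r ∈ T := fun r hr => by
      by_cases h : r = A
      · exact h ▸ hA
      · exact hN ((nb_iff _ _).2 ⟨h, hr⟩)
    rcases two_cases (sw A.1 x.1) with h | h
    · exact hperp x h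
    have hw0 : sw (A : SV m) ((B : SV m) + x) = 0 := by rw [sw_add_right, hAB, h]; rfl
    by_cases h0 : (B : SV m) + x = 0
    · have : x = B := Subtype.ext (by rw [← add_two (B : SV m) x, h0, add_zero])
      exact this ▸ hB
    set w : SP m := ⟨(B : SV m) + x, h0⟩
    rcases two_cases (sw (w : SV m) B) with hb | hb
    swap
    · have := hT w (hperp w hw0) B hB
      rwa [show pop w B = x from Subtype.ext (by rw [pop_of_adj hb, add_comm]; exact add_two _ _)] at this
    · have hAB' : (pop A B).1 = (A : SV m) + B := pop_of_adj hAB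
      have h1 : pop A B ∈ T := hT A hA B hB
      by_cases hwA : (w : SV m) + A = 0
      · have : x = pop A B := Subtype.ext (by
          rw [hAB', ← add_two (B : SV m) x, show (B : SV m) + x = A by
            rw [← add_two (w : SV m) A, hwA, add_zero], add_comm])
        exact this ▸ h1
      set w' : SP m := ⟨(w : SV m) + A, hwA⟩
      have hw'0 : sw (A : SV m) w' = 0 := by
        show sw A.1 (w.1 + A.1) = 0
        rw [sw_add_right, sw_self, add_zero]; exact hw0
      have hw'1 : sw (w' : SV m) (pop A B) = 1 := by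
        show sw (w.1 + A.1) (pop A B).1 = 1
        rw [hAB', sw_add_left, sw_add_right, sw_add_right, sw_self, hb, hAB, sw_comm (A : SV m) w, hw0]
        rfl
      have := hT w' (hperp w' hw'0) _ h1
      rwa [show pop w' (pop A B) = x from Subtype.ext (by
        rw [pop_of_adj hw'1, hAB']
        show (B : SV m) + x + A + (A + B) = x
        rw [show (B : SV m) + x + A + (A + B) = ((B : SV m) + B) + (A + A) + x by abel, two_add, two_add,
          zero_add, zero_add])] at this

/-- Bijections between neighbourhoods preserve the form and commute with the translations. -/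
theorem nb_map {A A' : SP m} {α : SP m → SP m} (hα : Set.BijOn α (Nb pop A) (Nb pop A'))
    (hop : ∀ r ∈ Nb pop A, ∀ s ∈ Nb pop A, α (pop r s) = pop (α r) (α s)) :
    (∀ r ∈ Nb pop A, ∀ s ∈ Nb pop A, sw (α r).1 (α s).1 = sw r.1 s.1) ∧
    ∀ r ∈ Nb pop A, ∀ r' ∈ Nb pop A, r'.1 = r.1 + A.1 → (α r').1 = (α r).1 + A'.1 := by
  have hmem : ∀ r ∈ Nb pop A, ∀ s ∈ Nb pop A, pop r s ∈ Nb pop A := by
    intro r hr s hs
    rw [nb_iff] at hr hs ⊢
    have e : sw (A : SV m) (pop r s).1 = 0 := by
      rw [pop_val, sw_add_right, sw_smul_right, hr.2, hs.2, mul_zero, add_zero]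
    refine ⟨fun h => hs.1 ?_, e⟩
    refine Subtype.ext ?_
    have hv := congrArg Subtype.val h
    rw [pop_val] at hv
    rcases two_cases (sw s.1 r.1) with hc | hc <;> rw [hc] at hv
    · simpa using hv
    · rw [one_smul] at hv
      have : sw (A : SV m) r = 1 := by
        rw [← hv, sw_add_left, hc, sw_self, add_zero]
      rw [hr.2] at this
      exact absurd this zero_ne_one
  have h1 : ∀ r ∈ Nb pop A, ∀ s ∈ Nb pop A, sw (α r).1 (α s).1 = sw r.1 s.1 := by
    intro r hr s hs
    have h : pop (α r) (α s) = α s ↔ pop r s = s := by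
      rw [← hop r hr s hs]
      exact ⟨fun h => hα.injOn (hmem r hr s hs) hs h, congrArg α⟩
    rw [pop_eq_iff, pop_eq_iff] at h
    revert h
    generalize sw (α r).1 (α s).1 = x
    generalize sw r.1 s.1 = y
    revert x y
    decide
  refine ⟨h1, fun r hr r' hr' e => ?_⟩
  have hall : ∀ t : SV m, sw t A'.1 = 0 → sw t ((α r).1 + (α r').1) = 0 := by
    intro t ht
    have hr2 := ((nb_iff _ _).1 (hα.mapsTo hr)).2
    have hr2' := ((nb_iff _ _).1 (hα.mapsTo hr')).2
    rw [sw_add_right]
    by_cases h0 : t = 0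
    · rw [h0, sw_zero_left, sw_zero_left, add_zero]
    by_cases hA : t = A'
    · rw [hA, hr2, hr2', add_zero]
    obtain ⟨s, hs, hst⟩ := hα.surjOn ((nb_iff A' ⟨t, h0⟩).2
      ⟨fun e => hA (congrArg Subtype.val e), by rw [sw_comm]; exact ht⟩)
    rw [show t = (α s).1 by rw [hst], h1 s hs r hr, h1 s hs r' hr', e, sw_add_right,
      sw_comm (A : SV m) s, ((nb_iff _ _).1 hs).2, add_zero]
    exact (by decide : ∀ x : ZMod 2, x + x = 0) _
  rcases eq_or_eq_add hall with h | h
  · exfalso
    have : α r = α r' := Subtype.ext (by rw [← add_two (α r).1 (α r').1, h, add_zero])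
    have := congrArg Subtype.val (hα.injOn hr hr' this)
    rw [e, left_eq_add] at this
    exact A.2 this
  · rw [← add_two (α r).1 (α r').1, h]

theorem extends_symp : Extends (pop (m := m)) := by
  classical
  intro A B A' B' hAB hAB' α hα hop hsec
  rw [adj_iff] at hAB hAB'
  obtain ⟨hform, htr⟩ := nb_map hα hop
  let proj : SV m → SV m := fun x => x + sw x B.1 • A.1 + sw x A.1 • B.1
  have hprojA : ∀ x, sw (proj x) A.1 = 0 := fun x => by
    simp only [proj, sw_add_left, sw_smul_left, sw_self, sw_comm A.1 B.1, hAB, mul_zero, add_zero, mul_one]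
    exact (by decide : ∀ y : ZMod 2, y + y = 0) _
  have hprojB : ∀ x, sw (proj x) B.1 = 0 := fun x => by
    simp only [proj, sw_add_left, sw_smul_left, sw_self, hAB, mul_zero, add_zero, mul_one]
    exact (by decide : ∀ y : ZMod 2, y + y = 0) _
  let hat : SV m → SV m := fun u => if h : u = 0 then 0 else (α ⟨u, h⟩).1
  have hU : ∀ {u : SV m} (h : u ≠ 0), sw u A.1 = 0 → sw u B.1 = 0 → (⟨u, h⟩ : SP m) ∈ Nb pop A := by
    intro u h hA hB
    refine (nb_iff _ _).2 ⟨fun e => ?_, by rw [sw_comm]; exact hA⟩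
    rw [show u = A.1 from congrArg Subtype.val e, hAB] at hB
    exact one_ne_zero hB
  have hhatA : ∀ {u : SV m}, sw u A.1 = 0 → sw u B.1 = 0 → sw (hat u) A'.1 = 0 ∧ sw (hat u) B'.1 = 0 := by
    intro u hA hB
    simp only [hat]
    split_ifs with h
    · exact ⟨sw_zero_left _, sw_zero_left _⟩
    · have hN := hU h hA hB
      refine ⟨by rw [sw_comm]; exact ((nb_iff _ _).1 (hα.mapsTo hN)).2, ?_⟩
      have := (hsec _ hN).1 ((pop_eq_iff _ _).2 (by rw [sw_comm]; exact hB))
      rw [pop_eq_iff] at this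
      rw [sw_comm]; exact this
  have hhatform : ∀ {u v : SV m}, sw u A.1 = 0 → sw u B.1 = 0 → sw v A.1 = 0 → sw v B.1 = 0 →
      sw (hat u) (hat v) = sw u v := by
    intro u v h1 h2 h3 h4
    simp only [hat]
    split_ifs with hu hv hv
    · rw [hu, sw_zero_left, sw_zero_left]
    · rw [hu, sw_zero_left, sw_zero_left]
    · rw [hv, sw_zero_right, sw_zero_right]
    · exact hform _ (hU hu h1 h2) _ (hU hv h3 h4)
  let F : SV m → SV m := fun x => hat (proj x) + sw x B.1 • A'.1 + sw x A.1 • B'.1
  have hproj_eq : ∀ x, x = proj x + sw x B.1 • A.1 + sw x A.1 • B.1 := fun x => by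
    show x = x + sw x B.1 • A.1 + sw x A.1 • B.1 + sw x B.1 • A.1 + sw x A.1 • B.1
    rw [show x + sw x B.1 • A.1 + sw x A.1 • B.1 + sw x B.1 • A.1 + sw x A.1 • B.1 =
      x + (sw x B.1 • A.1 + sw x B.1 • A.1) + (sw x A.1 • B.1 + sw x A.1 • B.1) by abel, two_add, two_add,
      add_zero, add_zero]
  have hform' : ∀ x y, sw (F x) (F y) = sw x y := by
    intro x y
    have e1 := hhatA (hprojA x) (hprojB x)
    have e2 := hhatA (hprojA y) (hprojB y)
    conv_rhs => rw [hproj_eq x, hproj_eq y]
    simp only [F, sw_add_left, sw_add_right, sw_smul_left, sw_smul_right, hhatform (hprojA x) (hprojB x)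
      (hprojA y) (hprojB y), e1.1, e1.2, sw_comm (hat (proj y)) A'.1, sw_comm (hat (proj y)) B'.1, e2.1, e2.2,
      sw_comm (proj y) A.1, sw_comm (proj y) B.1, hprojA, hprojB, sw_self, hAB, hAB',
      sw_comm A.1 B.1, sw_comm A'.1 B'.1]
  have hFinj : Function.Injective F := by
    intro x y h
    have : ∀ z, sw z (x + y) = 0 := fun z => by
      rw [sw_add_right, ← hform' z x, ← hform' z y, h]
      exact (by decide : ∀ y : ZMod 2, y + y = 0) _
    rw [← add_two x y, sw_nondeg this, add_zero]
  have hFsurj : Function.Surjective F := Finite.surjective_of_injective hFinj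
  have hFadd : ∀ x y, F (x + y) = F x + F y := by
    intro x y
    have : ∀ z, sw z (F x + F y + F (x + y)) = 0 := fun z => by
      obtain ⟨z, rfl⟩ := hFsurj z
      rw [sw_add_right, sw_add_right, hform', hform', hform', sw_add_right]
      exact (by decide : ∀ p q : ZMod 2, p + q + (p + q) = 0) _ _
    rw [← add_two (F x + F y) (F (x + y)), sw_nondeg this, add_zero]
  have hF0 : F 0 = 0 := by
    have := hFadd 0 0
    rw [add_zero, two_add] at this
    exact this
  have hFne : ∀ p : SP m, F p.1 ≠ 0 := fun p h => p.2 (hFinj (h.trans hF0.symm))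
  let σ0 : SP m → SP m := fun p => ⟨F p.1, hFne p⟩
  have hσi : Function.Injective σ0 := fun p q h => Subtype.ext (hFinj (congrArg Subtype.val h))
  refine ⟨Equiv.ofBijective σ0 ⟨hσi, Finite.surjective_of_injective hσi⟩, fun p q => Subtype.ext ?_, ?_, ?_, ?_⟩
  · show F (pop p q).1 = (pop (σ0 p) (σ0 q)).1
    rw [pop_val, pop_val, hFadd]
    show F q.1 + _ = F q.1 + sw (F q.1) (F p.1) • F p.1
    rw [hform']
    rcases two_cases (sw q.1 p.1) with h | h <;> simp [h, hF0]
  · refine Subtype.ext ?_
    show F A.1 = A'.1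
    have : proj A.1 = 0 := by simp only [proj, hAB, sw_self, one_smul, zero_smul, add_zero, two_add]
    simp [F, this, hat, hAB, sw_self]
  · refine Subtype.ext ?_
    show F B.1 = B'.1
    have : proj B.1 = 0 := by
      simp only [proj, sw_comm A.1 B.1, hAB, sw_self, one_smul, zero_smul, add_zero, two_add]
    simp [F, this, hat, sw_comm A.1 B.1, hAB, sw_self]
  · intro r hr
    refine Subtype.ext ?_
    show F r.1 = (α r).1
    have hrA : sw r.1 A.1 = 0 := by rw [sw_comm]; exact ((nb_iff _ _).1 hr).2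
    rcases two_cases (sw r.1 B.1) with hb | hb
    · have : proj r.1 = r.1 := by simp [proj, hb, hrA]
      simp [F, this, hat, hb, hrA, r.2]
    · have hp : proj r.1 = r.1 + A.1 := by simp [proj, hb, hrA]
      have h0 : r.1 + A.1 ≠ 0 := fun e => ((nb_iff _ _).1 hr).1 (Subtype.ext (by
        rw [← add_two r.1 A.1, e, add_zero]))
      have hN : (⟨r.1 + A.1, h0⟩ : SP m) ∈ Nb pop A := hU h0
        (by rw [sw_add_left, hrA, sw_self, add_zero]) (by rw [sw_add_left, hb, hAB]; rfl)
      have := htr r hr _ hN rfl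
      simp only [F, hp, hb, hrA, one_smul, zero_smul, add_zero, hat, dif_neg h0, this]
      rw [add_assoc, two_add, add_zero]

end CfsgLib.FischerClass
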