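import Cfsg.Agent.Lib.FischerClass.UnitSpace
import Cfsg.Agent.Lib.FischerClass.SympSpace
import Cfsg.Agent.Lib.FischerO2.Main

/-!
A noncentral 2-core gives symplectic or unitary coordinates.
-/

set_option autoImplicit false
set_option linter.style.haveILetI false
set_option linter.unusedSectionVars false

namespace CfsgLib.FischerClass

open Cfsg
open CfsgLib.HePres (K4)
open CfsgLib.ThreeTransp CfsgLib.ThreeTransp.Relations
open CfsgLib.FischerO2 (Symp Unit5 IsPoints)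

variable {G : Type*} [Group G] [Finite G] {D : Set G}

/-- Symplectic coordinates. -/
theorem symp_coords (S : Symp D) (hZ : Subgroup.center G = ⊥) :
    ∃ m : ℕ, 2 ≤ m ∧ ∃ f : SP m → G, Pm D pop f := by
  classical
  obtain ⟨m, vec, h0, hs, hcm, ⟨hinj, hflip⟩, -⟩ := S.iso_vec hZ
  have L := S.toLines
  have hm : 2 ≤ m := by
    by_contra hlt
    obtain ⟨a, ha, b, hb, hne, hab⟩ := L.wide
    have h := (hcm ⟨a, ha⟩ ⟨b, hb⟩).1 hab
    have hne' : vec ⟨a, ha⟩ ≠ vec ⟨b, hb⟩ := fun e => hne (congrArg Subtype.val (hinj e))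
    have h1 := h0 ⟨a, ha⟩
    have h2 := h0 ⟨b, hb⟩
    revert h hne' h1 h2
    generalize vec ⟨a, ha⟩ = u
    generalize vec ⟨b, hb⟩ = v
    revert u v
    interval_cases m <;> decide +kernel
  choose f hf using fun p : SP m => hs p.1 p.2
  refine ⟨m, hm, fun p => (f p : G), ⟨fun p q e => Subtype.ext ?_, ?_, fun p q => ?_⟩⟩
  · rw [← hf p, ← hf q, Subtype.ext e]
  · ext y
    refine ⟨?_, fun hy => ?_⟩
    · rintro ⟨p, rfl⟩; exact (f p).2
    · exact ⟨⟨vec ⟨y, hy⟩, h0 _⟩, congrArg (Subtype.val : D → G) (hinj (hf ⟨vec ⟨y, hy⟩, h0 _⟩))⟩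
  · have key : ∀ r : D, vec r = (pop p q).1 → (f (pop p q) : G) = r := fun r h =>
      congrArg Subtype.val (hinj ((hf _).trans h.symm))
    have hc : (f p : G) * f q * (f p : G) = (f p : G) * f q * (f p : G)⁻¹ := by
      rw [inv_eq_self L.set (f p).2]
    rw [hc]
    by_cases h : Commute (f p : G) (f q)
    · rw [h.eq, mul_inv_cancel_right]
      refine key _ ?_
      have hsw := (hcm _ _).1 h
      rw [hf, hf] at hsw
      rw [hf, (pop_eq_iff p q).2 hsw]
    · refine key ⟨_, L.closed _ _ (f q).2⟩ ?_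
      rw [hflip _ _ h, hf, hf]
      have hsw : sw p.1 q.1 = 1 := (two_cases _).resolve_left fun e => h ((hcm _ _).2 (by rw [hf, hf]; exact e))
      rw [pop_of_adj hsw]

/-- Unitary coordinates. -/
theorem unit_coords (U : Unit5 D) : ∃ n : ℕ, 4 ≤ n ∧ ∃ f : UP n → G, Pm D uop f := by
  classical
  have L := U.toLines
  have hF : Fintype.card K4 = 4 := K4.card_eq
  obtain ⟨x, e, C⟩ := U.exists_chart
  obtain ⟨lab, kap, m, rv, uv, T, hm⟩ := C.exists_tight hF
  obtain ⟨φ, P⟩ := T.exists_points hm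
  have hsel : ∀ p : UP (m + 2), ∃ a ∈ D, ∃ c : K4, c ≠ 0 ∧ p.1.rep = c • φ a :=
    fun p => P.surj _ p.1.rep_nonzero p.2
  choose f hfD c hc0 hfc using hsel
  have huniq : ∀ {a : G} (ha : a ∈ D) (p : UP (m + 2)) (k : K4), p.1.rep = k • φ a → f p = a := by
    intro a ha p k h
    have hk : k ≠ 0 := fun e => p.1.rep_nonzero (by rw [h, e, zero_smul])
    refine P.inj _ (hfD p) _ ha ((c p)⁻¹ * k) ?_
    rw [mul_smul, ← h, hfc, smul_smul, inv_mul_cancel₀ (hc0 p), one_smul]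
  refine ⟨m + 2, by omega, f, ⟨fun p q e => ?_, ?_, fun p q => ?_⟩⟩
  · refine eq_of_rep (c := c p * (c q)⁻¹) ?_
    rw [hfc p, hfc q, e, smul_smul, mul_assoc, inv_mul_cancel₀ (hc0 q), mul_one]
  · ext a
    refine ⟨?_, fun ha => ?_⟩
    · rintro ⟨p, rfl⟩; exact hfD p
    · obtain ⟨k, -, hk⟩ := mkU_rep (φ a) (P.ne_zero a ha) (P.iso a ha)
      exact ⟨_, huniq ha _ k hk⟩
  set a := f p
  set b := f q
  have ha : a ∈ D := hfD p
  have hb : b ∈ D := hfD q
  have hop : uop p q = mkU (φ b + uh (φ b) (φ a) • φ a)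
      (tr_ne (P.iso a ha) (P.ne_zero b hb)) (tr_iso (P.iso a ha) (P.iso b hb)) := by
    rw [← mkU_self p, ← mkU_self q]
    simp only [hfc p, hfc q]
    rw [← uop_mk (u0 := P.ne_zero a ha) (u1 := P.iso a ha) (v0 := P.ne_zero b hb) (v1 := P.iso b hb)]
    exact congrArg₂ uop (mkU_eq_iff.2 ⟨c p, rfl⟩) (mkU_eq_iff.2 ⟨c q, rfl⟩)
  obtain ⟨k, hk0, hk⟩ := mkU_rep (φ b + uh (φ b) (φ a) • φ a)
    (tr_ne (P.iso a ha) (P.ne_zero b hb)) (tr_iso (P.iso a ha) (P.iso b hb))
  rw [← hop] at hk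
  by_cases hab : Commute a b
  · rw [L.flip_fix ha hab]
    refine huniq hb _ k ?_
    rw [hk, uh_zero_iff.2 ((P.comm a ha b hb).1 hab), zero_smul, add_zero]
  set w := φ b + uh (φ b) (φ a) • φ a with hw
  set z := f (uop p q)
  have hz : z ∈ D := hfD _
  obtain ⟨l, hl0, hzw⟩ : ∃ l : K4, l ≠ 0 ∧ w = l • φ z := by
    refine ⟨k⁻¹ * c (uop p q), mul_ne_zero (inv_ne_zero hk0) (hc0 _), ?_⟩
    rw [mul_smul, ← hfc, hk, smul_smul, inv_mul_cancel₀ hk0, one_smul]
  have hperp : ∀ r ∈ D, uh (φ r) w = 0 → Commute r z := fun r hr h => by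
    refine (P.comm r hr z hz).2 ?_
    rw [hzw, uh_smul_right] at h
    exact (mul_eq_zero.mp h).resolve_left (pow_ne_zero 2 hl0)
  have hba : uh (φ b) (φ a) ≠ 0 := fun h => hab ((P.comm b hb a ha).2 h).symm
  have Cab : FischerO2.Chart D a b := { toUnit5 := U, hx := ha, he := hb, hxe := hab }
  have hzoff : z ∈ FischerO2.off D a := ⟨hz, fun h => hba (by
    have h' : uh (φ z) (φ a) = 0 := (P.comm z hz a ha).1 h.symm
    have h3 := congrArg (fun v => uh v (φ a)) hzw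
    simp only [hw, uh_add_left, uh_smul_left, P.iso a ha, mul_zero, add_zero, h'] at h3
    exact h3)⟩
  rcases Cab.off_perp hF hzoff fun r hr => (hperp r hr.1 (by
      show uh (φ r) w = 0
      rw [hw, uh_add_right, uh_smul_right, show uh (φ r) (φ b) = 0 from (P.comm r hr.1 b hb).1 hr.2.2.symm,
        show uh (φ r) (φ a) = 0 from (P.comm r hr.1 a ha).1 hr.2.1.symm, mul_zero, add_zero])).symm with hzb | hzb
  · exfalso
    apply hba
    have h3 : uh w (φ b) = 0 := by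
      rw [hzw, uh_smul_left, show φ z = φ b from congrArg φ hzb,
        show uh (φ b) (φ b) = 0 from P.iso b hb, mul_zero]
    rw [hw, uh_add_left, uh_smul_left, show uh (φ b) (φ b) = 0 from P.iso b hb, zero_add,
      uh_swap (φ b) (φ a)] at h3
    rcases mul_eq_zero.1 h3 with h' | h'
    · exact h'
    · exact sq_eq_zero_iff.1 h'
  · exact hzb

end CfsgLib.FischerClass
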