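import Cfsg.Agent.Lib.FischerClass.OrthThreeShape
import Cfsg.Agent.Lib.FischerClass.OrthThreeGroup

/-!
Neighbourhood a reflection group over the field with three elements: the group is the reflection group in one
dimension more.
-/

set_option autoImplicit false
set_option linter.unusedSectionVars false

namespace CfsgLib.FischerClass

open Cfsg CfsgLib.Orth

variable {n : ℕ} {Q : QuadraticForm (ZMod 3) (Fin n → ZMod 3)}

local notation "B" => QuadraticMap.polar (DFunLike.coe Q)

/-- The tail of a vector. -/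
def tailL (n : ℕ) : (Fin (n + 1) → ZMod 3) →ₗ[ZMod 3] (Fin n → ZMod 3) := LinearMap.funLeft _ _ Fin.succ

/-- One more orthogonal vector of norm one. -/
noncomputable def extQ (Q : QuadraticForm (ZMod 3) (Fin n → ZMod 3)) :
    QuadraticForm (ZMod 3) (Fin (n + 1) → ZMod 3) :=
  Q.comp (tailL n) + QuadraticMap.proj 0 0

theorem extQ_apply (t : ZMod 3) (v : Fin n → ZMod 3) : extQ Q (Fin.cons t v) = t * t + Q v := by
  rw [extQ, QuadraticMap.add_apply, QuadraticMap.comp_apply, QuadraticMap.proj_apply, Fin.cons_zero, add_comm]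
  congr 2

theorem extQ_polar (s t : ZMod 3) (u v : Fin n → ZMod 3) :
    QuadraticMap.polar (⇑(extQ Q)) (Fin.cons s u) (Fin.cons t v) = 2 * (s * t) + B u v := by
  have h : (Fin.cons s u : Fin (n + 1) → ZMod 3) + Fin.cons t v = Fin.cons (s + t) (u + v) := by
    funext i
    refine Fin.cases ?_ (fun j => ?_) i <;> simp
  rw [QuadraticMap.polar, h, extQ_apply, extQ_apply, extQ_apply, q_add]
  ring

theorem extQ_nondeg (hB : Nondeg Q) : Nondeg (extQ Q) := by
  intro x hx
  obtain ⟨t, v, rfl⟩ : ∃ t v, x = Fin.cons t v := ⟨x 0, Fin.tail x, (Fin.cons_self_tail x).symm⟩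
  have h1 := hx (Fin.cons 1 0)
  rw [extQ_polar, b_zero_right, add_zero, mul_one, mul_eq_zero, or_iff_right f3_two] at h1
  have h2 : v = 0 := hB v fun y => by
    have := hx (Fin.cons 0 y)
    rwa [extQ_polar, mul_zero, mul_zero, zero_add] at this
  rw [h1, h2]
  funext i
  refine Fin.cases ?_ (fun j => ?_) i <;> simp

theorem cons_smul (c t : ZMod 3) (v : Fin n → ZMod 3) :
    c • (Fin.cons t v : Fin (n + 1) → ZMod 3) = Fin.cons (c * t) (c • v) := by
  funext i
  refine Fin.cases ?_ (fun j => ?_) i <;> simp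

theorem cons_sub (s t : ZMod 3) (u v : Fin n → ZMod 3) :
    (Fin.cons s u : Fin (n + 1) → ZMod 3) - Fin.cons t v = Fin.cons (s - t) (u - v) := by
  funext i
  refine Fin.cases ?_ (fun j => ?_) i <;> simp

variable {G : Type*} [Group G] [Finite G] {D : Set G} {f : RP Q → G} {d a : G}

/-- Any two common neighbours are one link apart. -/
theorem orth_three_link (hB : Nondeg Q) (hn : 5 ≤ n) (S : Set (RP Q)) {r : Fin n → ZMod 3} (hr0 : r ≠ 0)
    (hrq : Q r = 0) (hS : ∀ q, q ∈ S ↔ B r q.1.rep = 0) {p q : RP Q} (hp : p ∈ S) (hq : q ∈ S) (hne : q ≠ p) :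
    Link rop S p q := by
  refine ⟨hp, hq, ?_⟩
  by_cases hpq : Adj rop p q
  · exact Or.inl hpq
  right
  set x := p.1.rep
  set y := q.1.rep
  have hxy : B x y = 0 := (nbR_iff' p q).1 ⟨hne, of_not_not hpq⟩
  have qx : Q x = 1 := p.2
  have qy : Q y = 1 := q.2
  have hxr : B x r = 0 := by rw [b_comm]; exact (hS p).1 hp
  have hyr : B y r = 0 := by rw [b_comm]; exact (hS q).1 hq
  have nx : Q x ≠ 0 := by rw [qx]; exact one_ne_zero
  have ny : Q y ≠ 0 := by rw [qy]; exact one_ne_zero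
  obtain ⟨s, hs, hsq, hrs⟩ := exists_partner_one hB (cut_nondeg (perp_nondeg hB nx) (mem_perp.2 hxy) ny)
    (mem_cut.2 ⟨mem_perp.2 hxr, hyr⟩) hr0 hrq
  obtain ⟨hxs', hys⟩ := mem_cut.1 hs
  have hxs : B x s = 0 := mem_perp.1 hxs'
  have q1 : Q (r + s) = 1 := by rw [q_add, hrq, hsq, hrs]; ring
  have q2 : Q (x - y + (r - s)) = 1 := by
    simp only [q_add, q_sub, b_sub_left, b_sub_right, qx, qy, hrq, hsq, hxy, hxr, hxs, hyr, hys, hrs]
    decide +kernel
  have q3 : Q (x - y - (r - s)) = 1 := by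
    simp only [q_sub, b_sub_left, b_sub_right, qx, qy, hrq, hsq, hxy, hxr, hxs, hyr, hys, hrs]
    decide +kernel
  set P1 := mkR _ q1 with hP1
  set P2 := mkR _ q2 with hP2
  set P3 := mkR _ q3 with hP3
  refine ⟨P1, P2, P3, ⟨(nbR_iff' _ _).2 ?_, (nbR_iff' _ _).2 ?_, (nbR_iff' _ _).2 ?_, ⟨?_, ?_, ?_⟩, ?_⟩, ?_⟩
  iterate 3
    rw [b_mk_left, b_mk_right]
    simp only [b_add_left, b_add_right, b_sub_left, b_sub_right, b_self x, b_self y, b_self_zero hrq,
      b_self_zero hsq, qx, qy, hxy, hxr, hxs, hyr, hys, hrs, b_comm y x, b_comm r x, b_comm r y, b_comm s x,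
      b_comm s y, b_comm s r]
    decide +kernel
  iterate 3
    rw [hS, b_mk_right]
    simp only [b_add_right, b_sub_right, b_self_zero hrq, hrs, b_comm r x, b_comm r y, hxr, hyr]
    decide +kernel
  · intro u hu
    rw [hS] at hu ⊢
    set v := u.1.rep
    rw [← mkR_self u, rop_mk, rop_mk, rop_mk, b_mk_right]
    simp only [b_add_left, b_add_right, b_sub_left, b_sub_right, b_smul_left, b_smul_right, b_self x, b_self y,
      b_self_zero hrq, b_self_zero hsq, qx, qy, hxy, hxr, hxs, hyr, hys, hrs, b_comm y x, b_comm r x, b_comm r y,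
      b_comm s x, b_comm s y, b_comm s r, b_comm v x, b_comm v y, b_comm v r, b_comm v s, show B r v = 0 from hu]
    simp only [show v = u.1.rep from rfl, show B r u.1.rep = 0 from hu]
    generalize B x u.1.rep = c₁
    generalize B y u.1.rep = c₂
    generalize B s u.1.rep = c₃
    revert c₁ c₂ c₃
    decide +kernel
  · conv_lhs => rw [← mkR_self p]
    rw [rop_mk, rop_mk, rop_mk, ← mkR_self q, mkR_eq_iff]
    refine ⟨1, ?_⟩
    simp only [one_smul, b_add_left, b_add_right, b_sub_left, b_sub_right, b_smul_left, b_smul_right,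
      show p.1.rep = x from rfl, show q.1.rep = y from rfl, b_self x, b_self y, b_self_zero hrq, b_self_zero hsq,
      qx, qy, hxy, hxr, hxs, hyr, hys, hrs, b_comm y x, b_comm r x, b_comm r y, b_comm s x, b_comm s y, b_comm s r]
    match_scalars <;> decide +kernel

/-- The group is the reflection group in one dimension more. -/
theorem orth_three_case (hB : Nondeg Q) (hn : 5 ≤ n) (X : Ctx D) (C : Co D d rop f) (hd : d ∈ D) (ha : a ∈ D)
    (hda : ¬ Commute d a) :
    ∃ R : QuadraticForm (ZMod 3) (Fin (n + 1) → ZMod 3), (QuadraticMap.polarBilin R).Nondegenerate ∧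
      ∃ φ : G ≃* HG R, φ '' D = EG R := by
  have hι : 5 ≤ Fintype.card (Fin n) := by rw [Fintype.card_fin]; exact hn
  obtain ⟨r, hr0, hrq, hS⟩ := orth_three_shape hB hι X C hd ha hda
  have hR := extQ_nondeg hB
  obtain ⟨T, M⟩ := exists_model hR (by rw [Fintype.card_fin]; omega)
  refine ⟨extQ Q, ⟨fun x hx => hR x hx, fun x hx => hR x fun y => by rw [b_comm]; exact hx y⟩, ?_⟩
  set δ : Fin (n + 1) → ZMod 3 := Fin.cons 1 0
  set α : Fin (n + 1) → ZMod 3 := Fin.cons 1 r
  have qδ : extQ Q δ = 1 := by rw [extQ_apply, QuadraticMap.map_zero]; decide +kernel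
  have qα : extQ Q α = 1 := by rw [extQ_apply, hrq]; decide +kernel
  have qlift : ∀ p : RP Q, extQ Q (Fin.cons 0 p.1.rep) = 1 := fun p => by rw [extQ_apply, p.2]; decide +kernel
  set f' : RP Q → HG (extQ Q) := fun p => T (Fin.cons 0 p.1.rep)
  have hline : ∀ {s t : ZMod 3} {u v : Fin n → ZMod 3},
      (∃ c : ZMod 3, c • (Fin.cons t v : Fin (n + 1) → ZMod 3) = Fin.cons s u) ↔
        ∃ c : ZMod 3, c * t = s ∧ c • v = u := by
    intro s t u v
    simp only [cons_smul, Fin.cons_inj]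
  have hTmk : ∀ (v : Fin n → ZMod 3) (hv : Q v = 1), T (Fin.cons 0 (mkR v hv).1.rep) = T (Fin.cons 0 v) := by
    intro v hv
    obtain ⟨c, -, e⟩ := mkR_rep v hv
    exact (M.inj _ _ (qlift _) (by rw [extQ_apply, hv]; decide +kernel)).2
      (hline.2 ⟨c, mul_zero c, e.symm⟩)
  have C' : Co (EG (extQ Q)) (T δ) rop f' := by
    refine ⟨fun p q h => ?_, Set.ext fun y => ⟨?_, ?_⟩, fun p q => ?_⟩
    · obtain ⟨c, -, hc⟩ := hline.1 ((M.inj _ _ (qlift p) (qlift q)).1 h)
      exact rp_eq hc.symm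
    · rintro ⟨p, rfl⟩
      refine ⟨M.mem _ (qlift p), fun h => ?_, (M.comm _ _ qδ (qlift p)).2 (Or.inl ?_)⟩
      · obtain ⟨c, hc, hv⟩ := hline.1 ((M.inj _ _ (qlift p) qδ).1 h)
        exact p.1.rep_nonzero (by rw [← hv, smul_zero])
      · rw [extQ_polar, b_zero_left]; ring
    · rintro ⟨hy, hne, hc⟩
      obtain ⟨v', hv', rfl⟩ := M.surj y hy
      obtain ⟨t, v, rfl⟩ : ∃ t v, v' = Fin.cons t v := ⟨v' 0, Fin.tail v', (Fin.cons_self_tail v').symm⟩
      rcases (M.comm _ _ qδ hv').1 hc with h | h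
      · rw [extQ_polar, b_zero_left, one_mul, add_zero, mul_eq_zero, or_iff_right f3_two] at h
        subst h
        rw [extQ_apply, mul_zero, zero_add] at hv'
        exact ⟨mkR v hv', hTmk v hv'⟩
      · exact absurd ((M.inj _ _ qδ hv').2 h).symm hne
    · show T _ = T _ * T _ * T _
      rw [M.flip _ _ (qlift p) (qlift q), rop, hTmk]
      rw [extQ_polar, cons_smul, cons_sub]
      simp only [mul_zero, zero_add, sub_zero]
  have hda' : ¬ Commute (T δ) (T α) := fun h => by
    rcases (M.comm _ _ qδ qα).1 h with h | h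
    · rw [extQ_polar, b_zero_left, add_zero, mul_one, mul_one] at h
      exact f3_two h
    · obtain ⟨c, hc, hv⟩ := hline.1 h
      rw [mul_one] at hc
      rw [hc, one_smul] at hv
      exact hr0 hv
  have hSc : Sc f a = Sc f' (T α) := by
    ext p
    refine (hS p).trans ?_
    show _ ↔ Commute (T α) (T (Fin.cons 0 p.1.rep))
    rw [M.comm _ _ qα (qlift p), extQ_polar, mul_zero, mul_zero, zero_add]
    refine ⟨Or.inl, fun h => h.elim id fun h => ?_⟩
    obtain ⟨c, hc, -⟩ := hline.1 h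
    rw [mul_zero] at hc
    exact absurd hc zero_ne_one
  obtain ⟨e, he⟩ := X.sc_nonempty C hd ha hda
  refine X.exists_match M.base (rop_space hB hι) (rop_extends hB hι) hd ha hda C (M.mem _ qδ) (M.mem _ qα) hda' C'
    hSc he (fun p hp => ?_) ?_
  · by_cases hpe : e = p
    · rw [hpe]
    · exact Relation.ReflTransGen.single (orth_three_link hB hn _ hr0 hrq hS hp he hpe)
  -- every outer member is reached
  intro y hy hnc
  obtain ⟨v', hv', rfl⟩ := M.surj y hy
  obtain ⟨t, u, rfl⟩ : ∃ t v, v' = Fin.cons t v := ⟨v' 0, Fin.tail v', (Fin.cons_self_tail v').symm⟩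
  have ht : t ≠ 0 := fun h => hnc ((M.comm _ _ qδ hv').2 (Or.inl (by rw [extQ_polar, h, b_zero_left]; ring)))
  have hu0 : u ≠ 0 := fun h => hnc ((M.comm _ _ qδ hv').2 (Or.inr (hline.2 ⟨t, f3_sq ht, by rw [h, smul_zero]⟩)))
  set w := t • u
  have hw0 : w ≠ 0 := smul_ne_zero ht hu0
  have hwq : Q w = 0 := by
    rw [q_smul, f3_sq ht, one_mul]
    rw [extQ_apply, f3_sq ht] at hv'
    exact add_eq_left.1 hv'
  have hy' : T (Fin.cons t u) = T (Fin.cons 1 w) :=
    (M.inj _ _ hv' (by rw [extQ_apply, hwq]; decide +kernel)).2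
      (hline.2 ⟨t, mul_one t, by rw [smul_smul, f3_sq ht, one_smul]⟩)
  rw [hy']
  -- one reflection
  have one : ∀ z z' : Fin n → ZMod 3, Q z = 0 → Q z' = 0 → B z z' = 2 → ∃ p,
      f' p * T (Fin.cons 1 z) * f' p = T (Fin.cons 1 z') := by
    intro z z' hz hz' hzz
    have hp : Q (z - z') = 1 := by rw [q_sub, hz, hz', hzz]; decide +kernel
    refine ⟨mkR _ hp, ?_⟩
    show T _ * _ * T _ = _
    rw [hTmk, M.flip _ _ (by rw [extQ_apply, hp]; decide +kernel) (by rw [extQ_apply, hz]; decide +kernel),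
      extQ_polar, cons_smul, cons_sub]
    congr 2
    · ring
    · rw [zero_mul, mul_zero, zero_add, b_sub_left, b_self_zero hz, b_comm z' z, hzz,
        show (0 : ZMod 3) - 2 = 1 by decide +kernel, one_smul, sub_sub_cancel]
  by_cases hspan : w ∈ Submodule.span (ZMod 3) {r}
  · obtain ⟨c, hc⟩ := Submodule.mem_span_singleton.1 hspan
    have hc0 : c ≠ 0 := fun h => hw0 (by rw [← hc, h, zero_smul])
    rcases f3_cases hc0 with rfl | rfl
    · rw [one_smul] at hc
      exact Or.inl (by rw [← hc])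
    · refine Or.inr (Or.inl ?_)
      rw [M.flip _ _ qδ qα, extQ_polar, b_zero_left, cons_smul, cons_sub]
      refine (M.inj _ _ (by rw [extQ_apply, hwq]; decide +kernel) ?_).2 (hline.2 ⟨2, ?_, ?_⟩)
      · rw [extQ_apply, smul_zero, sub_zero, hrq]; decide +kernel
      · decide +kernel
      · rw [smul_zero, sub_zero]; exact hc
  by_cases hrw : B r w = 2
  · obtain ⟨p, hp⟩ := one r w hrq hwq hrw
    exact Or.inr (Or.inr (Or.inl ⟨p, hp.symm⟩))
  obtain ⟨z, hzq, hrz, hzw⟩ : ∃ z, Q z = 0 ∧ B r z = 2 ∧ B z w = 2 := by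
    by_cases hb : B r w = 0
    · have htop : NondegOn Q ⊤ := fun x _ h => hB x fun y => h y trivial
      obtain ⟨z, -, hz1, hz2⟩ := exists_pair_vec htop trivial trivial hr0 hspan hB 1
      refine ⟨(2 : ZMod 3) • z + Q z • r, ?_, ?_, ?_⟩
      · rw [q_add, q_smul, q_smul, hrq, b_smul_left, b_smul_right, b_comm z r, hz1]
        linear_combination 2 * Q z * Fischer.three_eq_zero
      · rw [b_add_right, b_smul_right, b_smul_right, hz1, b_self_zero hrq]; ring
      · rw [b_add_left, b_smul_left, b_smul_left, b_comm z w, hz2, hb]; ring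
    · have hb1 : B r w = 1 := (f3_cases hb).resolve_right hrw
      obtain ⟨K, hK, fK, -, hKm⟩ := hyp_split hB (W := ⊤) (fun x _ h => hB x fun y => h y trivial) trivial trivial
        hrq hwq hb
      rw [finrank_top, Module.finrank_fintype_fun_eq_card, Fintype.card_fin] at fK
      obtain ⟨k, hk, qk⟩ := exists_norm hB hK (by omega) (c := 2) f3_two
      obtain ⟨-, hrk, hwk⟩ := (hKm k).1 hk
      refine ⟨(2 : ZMod 3) • (r + w) + k, ?_, ?_, ?_⟩
      · rw [q_add, q_smul, q_add, hrq, hwq, hb1, qk, b_smul_left, b_add_left, hrk, hwk]; decide +kernel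
      · rw [b_add_right, b_smul_right, b_add_right, b_self_zero hrq, hb1, hrk]; decide +kernel
      · rw [b_add_left, b_smul_left, b_add_left, b_self_zero hwq, hb1, b_comm k w, hwk]; decide +kernel
  obtain ⟨p, hp⟩ := one r z hrq hzq hrz
  obtain ⟨p', hp'⟩ := one z w hzq hwq hzw
  exact Or.inr (Or.inr (Or.inr ⟨p, p', by rw [hp, hp']⟩))

end CfsgLib.FischerClass
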