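import Cfsg.Agent.Lib.FischerClass.TablesData

/-!
The small coincidences as equivalences of operations.
-/

set_option autoImplicit false
set_option linter.style.haveILetI false
set_option linter.unusedSectionVars false

namespace CfsgLib.FischerClass

open Cfsg CfsgLib.Orth
open CfsgLib.HePres (K4)

/-- The unitary point of an index. -/
def uVec (i : Fin 45) : UV 4 := uDec (uPts.getD i.1 0)

/-- The point of the first form of an index. -/
def urVec (i : Fin 45) : Fin 5 → ZMod 3 := rDec (urPts.getD i.1 0)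

/-- The table of the unitary points. -/
def uMul (i j : Fin 45) : Fin 45 := ⟨(uTab.getD i.1 []).getD j.1 0 % 45, Nat.mod_lt _ (by norm_num)⟩

theorem uVec_spec : ∀ i, uVec i ≠ 0 ∧ uh (uVec i) (uVec i) = 0 := by decide +kernel

theorem urVec_spec : ∀ i, fiveF 1 (urVec i) = 1 := by decide +kernel

theorem uVec_inj : ∀ i j, (∃ c : K4, c • uVec j = uVec i) → i = j := by decide +kernel

theorem urVec_inj : ∀ i j, (∃ c : ZMod 3, c • urVec j = urVec i) → i = j := by decide +kernel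

theorem uVec_surj : ∀ v : UV 4, v ≠ 0 → uh v v = 0 → ∃ i, ∃ c : K4, c • uVec i = v := by decide +kernel

theorem urVec_surj : ∀ v : Fin 5 → ZMod 3, fiveF 1 v = 1 → ∃ i, ∃ c : ZMod 3, c • urVec i = v := by
  decide +kernel

theorem uVec_mul : ∀ i j, ∃ c : K4, c • uVec (uMul i j) = uVec j + uh (uVec j) (uVec i) • uVec i := by
  decide +kernel

theorem urVec_mul : ∀ i j, ∃ c : ZMod 3,
    c • urVec (uMul i j) = urVec j - fiveB 1 (urVec i) (urVec j) • urVec i := by
  decide +kernel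

/-- The elliptic vector of an index. -/
def oVec (i : Fin 36) : (Fin 2 ⊕ Fin 2) ⊕ Fin 2 → ZMod 2 := oDec (oPts.getD i.1 0)

/-- The point of the second form of an index. -/
def orVec (i : Fin 36) : Fin 5 → ZMod 3 := rDec (orPts.getD i.1 0)

/-- The table of the elliptic vectors. -/
def oMul (i j : Fin 36) : Fin 36 := ⟨(oTab.getD i.1 []).getD j.1 0 % 36, Nat.mod_lt _ (by norm_num)⟩

/-- The elliptic form. -/
abbrev mF (v : (Fin 2 ⊕ Fin 2) ⊕ Fin 2 → ZMod 2) : ZMod 2 := Cfsg.quadFormMinus 2 (ZMod 2) 1 1 v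

theorem oVec_spec : ∀ i, mF (oVec i) = 1 := by decide +kernel

theorem orVec_spec : ∀ i, fiveF 2 (orVec i) = 1 := by decide +kernel

theorem oVec_inj : ∀ i j, oVec i = oVec j → i = j := by decide +kernel

theorem orVec_inj : ∀ i j, (∃ c : ZMod 3, c • orVec j = orVec i) → i = j := by decide +kernel

theorem oVec_surj : ∀ v, mF v = 1 → ∃ i, oVec i = v := by decide +kernel

theorem orVec_surj : ∀ v : Fin 5 → ZMod 3, fiveF 2 v = 1 → ∃ i, ∃ c : ZMod 3, c • orVec i = v := by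
  decide +kernel

theorem oVec_mul : ∀ i j, oVec (oMul i j) = oVec j +
    (mF (oVec i + oVec j) + mF (oVec i) + mF (oVec j)) • oVec i := by
  decide +kernel

theorem orVec_mul : ∀ i j, ∃ c : ZMod 3,
    c • orVec (oMul i j) = orVec j - fiveB 2 (orVec i) (orVec j) • orVec i := by
  decide +kernel

theorem rp_bij {N : ℕ} {c : ZMod 3} {v : Fin N → Fin 5 → ZMod 3} (h : ∀ i, fiveF c (v i) = 1)
    (hi : ∀ i j, (∃ k : ZMod 3, k • v j = v i) → i = j)
    (hs : ∀ w, fiveF c w = 1 → ∃ i, ∃ k : ZMod 3, k • v i = w) :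
    Function.Bijective fun i => mkR (Q := fiveQ c) (v i) (by rw [fiveQ_eq]; exact h i) := by
  refine ⟨fun i j e => hi i j (mkR_eq_iff.1 e), fun p => ?_⟩
  obtain ⟨i, k, e⟩ := hs p.1.rep (by rw [← fiveQ_eq]; exact p.2)
  refine ⟨i, ?_⟩
  conv_rhs => rw [← mkR_self p]
  have hk : k ≠ 0 := fun e' => p.1.rep_nonzero (by rw [← e, e', zero_smul])
  exact mkR_eq_iff.2 ⟨k⁻¹, by rw [← e, smul_smul, inv_mul_cancel₀ hk, one_smul]⟩

/-- Unitary points in dimension four are norm-one points of a five-dimensional space. -/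
theorem exists_four_equiv : ∃ σ : RP (fiveQ 1) ≃ UP 4, ∀ p q, σ (rop p q) = uop (σ p) (σ q) := by
  refine exists_equiv_of_table uMul (α := fun i => mkR (urVec i) (by rw [fiveQ_eq]; exact urVec_spec i))
    (β := fun i => mkU (uVec i) (uVec_spec i).1 (uVec_spec i).2) (rp_bij urVec_spec urVec_inj urVec_surj)
    ⟨fun i j e => uVec_inj i j (mkU_eq_iff.1 e), fun p => ?_⟩ (fun i j => ?_) (fun i j => ?_)
  · obtain ⟨i, k, e⟩ := uVec_surj p.1.rep p.1.rep_nonzero p.2
    refine ⟨i, ?_⟩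
    conv_rhs => rw [← mkU_self p]
    have hk : k ≠ 0 := fun e' => p.1.rep_nonzero (by rw [← e, e', zero_smul])
    exact mkU_eq_iff.2 ⟨k⁻¹, by rw [← e, smul_smul, inv_mul_cancel₀ hk, one_smul]⟩
  · obtain ⟨c, hc⟩ := urVec_mul i j
    rw [rop_mk, mkR_eq_iff]
    exact ⟨c, by rw [fiveB_eq]; exact hc⟩
  · obtain ⟨c, hc⟩ := uVec_mul i j
    rw [uop_mk, mkU_eq_iff]
    exact ⟨c, hc⟩

/-- Elliptic vectors of norm one in dimension six are norm-one points of a five-dimensional space. -/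
theorem exists_six_equiv {Q : QuadraticForm (ZMod 2) ((Fin 2 ⊕ Fin 2) ⊕ Fin 2 → ZMod 2)}
    (hQ : ⇑Q = Cfsg.quadFormMinus 2 (ZMod 2) 1 1) :
    ∃ σ : RP (fiveQ 2) ≃ OV Q, ∀ p q, σ (rop p q) = oop (σ p) (σ q) := by
  refine exists_equiv_of_table oMul (α := fun i => mkR (orVec i) (by rw [fiveQ_eq]; exact orVec_spec i))
    (β := fun i => (⟨oVec i, by rw [hQ]; exact oVec_spec i⟩ : OV Q)) (rp_bij orVec_spec orVec_inj orVec_surj)
    ⟨fun i j e => oVec_inj i j (congrArg Subtype.val e), fun p => ?_⟩ (fun i j => ?_) (fun i j => ?_)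
  · obtain ⟨i, e⟩ := oVec_surj p.1 (show mF p.1 = 1 by rw [mF, ← hQ]; exact p.2)
    exact ⟨i, Subtype.ext e⟩
  · obtain ⟨c, hc⟩ := orVec_mul i j
    rw [rop_mk, mkR_eq_iff]
    exact ⟨c, by rw [fiveB_eq]; exact hc⟩
  · refine Subtype.ext ?_
    show oVec j + QuadraticMap.polar (⇑Q) (oVec i) (oVec j) • oVec i = oVec (oMul i j)
    rw [oVec_mul, QuadraticMap.polar, hQ, CharTwo.sub_eq_add, CharTwo.sub_eq_add]

end CfsgLib.FischerClass
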