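import Cfsg.Agent.Lib.FischerClass.UnitFiveData

/-!
The unitary groups in dimension five are no neighbourhoods.
-/

set_option autoImplicit false
set_option maxRecDepth 10000

namespace CfsgLib.FischerClass

open Cfsg
open CfsgLib.HePres (K4)

theorem uni_fib {n : ℕ} (hn : 4 ≤ n) (A B B' : UP n) (h1 : Adj uop A B) (h2 : Adj uop A B')
    (h : ∀ r ∈ Nb uop A, (uop B r = r ↔ uop B' r = r)) : B' = B ∨ B' = uop A B := by
  have hAB : uh A.1.rep B.1.rep ≠ 0 := fun e => h1 ((uop_eq_iff _ _).2 e)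
  have hAB' : uh A.1.rep B'.1.rep ≠ 0 := fun e => h2 ((uop_eq_iff _ _).2 e)
  have hperp : ∀ (s : Set (UV n)), Submodule.span K4 s ≠ ⊤ → ∃ z, z ≠ 0 ∧ ∀ x ∈ s, uh x z = 0 := by
    intro s hs
    obtain ⟨x, hx⟩ : ∃ x, x ∉ Submodule.span K4 s := by
      by_contra! hc
      exact hs (eq_top_iff.2 fun x _ => hc x)
    obtain ⟨φ, hφ, hk⟩ := Submodule.exists_dual_map_eq_bot_of_notMem hx inferInstance
    obtain ⟨z, hz⟩ := exists_uh φ
    refine ⟨z, fun e => hφ ?_, fun y hy => ?_⟩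
    · rw [← hz, e, uh_zero_iff, uh_zero_left]
    · rw [hz]
      exact (Submodule.mem_bot K4).1 (hk ▸ Submodule.mem_map_of_mem (Submodule.subset_span hy))
  have hiso : ∀ y, uh A.1.rep y = 0 → uh B.1.rep y = 0 → uh y y = 0 → uh B'.1.rep y = 0 := by
    intro y ha hb hy
    by_cases hy0 : y = 0
    · rw [hy0, uh_zero_iff, uh_zero_left]
    obtain ⟨k, hk0, hk⟩ := mkU_rep y hy0 hy
    have hr : mkU y hy0 hy ∈ Nb uop A := (nbU_iff _ _).2 ⟨fun e => hAB (by
      have h' := congrArg (fun p => uh p.1.rep B.1.rep) e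
      simp only [hk, uh_smul_left, uh_zero_iff.2 hb, mul_zero] at h'
      exact h'.symm), by rw [hk, uh_smul_right, ha, mul_zero]⟩
    have h' := (uop_eq_iff _ _).1 ((h _ hr).1 ((uop_eq_iff _ _).2 (by rw [hk, uh_smul_right, hb, mul_zero])))
    rw [hk, uh_smul_right, mul_eq_zero, sq_eq_zero_iff] at h'
    exact h'.resolve_left hk0
  have hall : ∀ y, uh A.1.rep y = 0 → uh B.1.rep y = 0 → uh B'.1.rep y = 0 := by
    intro y ha hb
    rcases FischerO2.herm_self_cases K4.card_eq y with hy | hy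
    · exact hiso y ha hb hy
    change uh y y = 1 at hy
    -- an anisotropic partner orthogonal to `y`
    obtain ⟨z, hzA, hzB, hzy, hz⟩ : ∃ z, uh A.1.rep z = 0 ∧ uh B.1.rep z = 0 ∧ uh y z = 0 ∧ uh z z = 1 := by
      obtain ⟨u, hu0, hu⟩ := hperp {A.1.rep, B.1.rep, y} (fun e => by
        classical
        have h3 := finrank_span_finset_le_card (R := K4) ({A.1.rep, B.1.rep, y} : Finset (UV n))
        rw [Set.finrank, Finset.coe_insert, Finset.coe_insert, Finset.coe_singleton, e, finrank_top,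
          Module.finrank_fintype_fun_eq_card, Fintype.card_fin] at h3
        have := Finset.card_le_three (a := A.1.rep) (b := B.1.rep) (c := y)
        omega)
      simp only [Set.mem_insert_iff, Set.mem_singleton_iff, forall_eq_or_imp, forall_eq] at hu
      rcases FischerO2.herm_self_cases K4.card_eq u with huu | huu
      swap; · exact ⟨u, hu.1, hu.2.1, hu.2.2, huu⟩
      obtain ⟨v, hvA, hvB, hvy, hvu⟩ : ∃ v, uh A.1.rep v = 0 ∧ uh B.1.rep v = 0 ∧ uh y v = 0 ∧ uh u v ≠ 0 := by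
        obtain ⟨i, hi⟩ := Function.ne_iff.1 hu0
        set x : UV n := Pi.single i 1
        have hx : uh u x ≠ 0 := by
          rw [show uh u x = u i by simp [x, uh, hermForm, Pi.single_apply, ite_pow, mul_ite]]
          exact hi
        set x1 := x + (uh B.1.rep x * (uh B.1.rep A.1.rep)⁻¹) ^ 2 • A.1.rep +
          (uh A.1.rep x * (uh A.1.rep B.1.rep)⁻¹) ^ 2 • B.1.rep with hx1
        have hBA : uh B.1.rep A.1.rep ≠ 0 := fun e => hAB (uh_zero_iff.1 e)
        have h4 : ∀ c : K4, (c ^ 2) ^ 2 = c := fun c => FischerO2.F4.sq_sq K4.card_eq c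
        have a1 : uh A.1.rep x1 = 0 := by
          rw [hx1, uh_add_right, uh_add_right, uh_smul_right, uh_smul_right, A.2, mul_zero, add_zero, h4,
            inv_mul_cancel_right₀ hAB, k4_add]
        have b1 : uh B.1.rep x1 = 0 := by
          rw [hx1, uh_add_right, uh_add_right, uh_smul_right, uh_smul_right, B.2, mul_zero, add_zero, h4,
            inv_mul_cancel_right₀ hBA, k4_add]
        have u1 : uh u x1 = uh u x := by
          rw [hx1, uh_add_right, uh_add_right, uh_smul_right, uh_smul_right, uh_zero_iff.2 hu.1,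
            uh_zero_iff.2 hu.2.1, mul_zero, mul_zero, add_zero, add_zero]
        refine ⟨x1 + (uh y x1) ^ 2 • y, ?_, ?_, ?_, ?_⟩
        · rw [uh_add_right, uh_smul_right, a1, ha, mul_zero, add_zero]
        · rw [uh_add_right, uh_smul_right, b1, hb, mul_zero, add_zero]
        · rw [uh_add_right, uh_smul_right, hy, mul_one, h4, k4_add]
        · rw [uh_add_right, uh_smul_right, uh_zero_iff.2 hu.2.2, mul_zero, add_zero, u1]; exact hx
      rcases FischerO2.herm_self_cases K4.card_eq v with hvv | hvv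
      swap; · exact ⟨v, hvA, hvB, hvy, hvv⟩
      change uh v v = 0 at hvv
      change uh u u = 0 at huu
      obtain ⟨c, hc⟩ : ∃ c : K4, c * uh u v + c * c * (uh u v * uh u v) = 1 := by
        have key : ∀ w : K4, w ≠ 0 → ∃ c : K4, c * w + c * c * (w * w) = 1 := by decide +kernel
        exact key _ hvu
      refine ⟨v + c • u, ?_, ?_, ?_, ?_⟩
      · rw [uh_add_right, uh_smul_right, hvA, hu.1, mul_zero, add_zero]
      · rw [uh_add_right, uh_smul_right, hvB, hu.2.1, mul_zero, add_zero]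
      · rw [uh_add_right, uh_smul_right, hvy, hu.2.2, mul_zero, add_zero]
      · rw [uh_add_left, uh_add_right, uh_add_right, uh_smul_left, uh_smul_left, uh_smul_right,
          uh_smul_right, huu, hvv, uh_swap u v]
        linear_combination hc
    change uh z z = 1 at hz
    have key : ∀ c : K4, c ≠ 0 → uh B'.1.rep y + c * c * uh B'.1.rep z = 0 := by
      intro c hc
      rw [← pow_two, ← uh_smul_right, ← uh_add_right]
      refine hiso _ ?_ ?_ ?_
      · rw [uh_add_right, uh_smul_right, ha, hzA, mul_zero, add_zero]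
      · rw [uh_add_right, uh_smul_right, hb, hzB, mul_zero, add_zero]
      · rw [uh_add_left, uh_add_right, uh_add_right, uh_smul_left, uh_smul_left, uh_smul_right,
          uh_smul_right, hy, hz, hzy, uh_zero_iff.2 hzy]
        revert c
        simp only [pow_two]
        decide +kernel
    have alg : ∀ x w : K4, (∀ c : K4, c ≠ 0 → x + c * c * w = 0) → x = 0 := by decide +kernel
    exact alg _ _ key
  -- so `B'` lies on the line of `A` and `B`
  have hspan : B'.1.rep ∈ Submodule.span K4 {A.1.rep, B.1.rep} := by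
    by_contra hno
    obtain ⟨φ, hφ, hk⟩ := Submodule.exists_dual_map_eq_bot_of_notMem hno inferInstance
    obtain ⟨z, hz⟩ := exists_uh φ
    have h0 : ∀ x ∈ ({A.1.rep, B.1.rep} : Set (UV n)), uh x z = 0 := fun x hx => by
      rw [hz]; exact (Submodule.mem_bot K4).1 (hk ▸ Submodule.mem_map_of_mem (Submodule.subset_span hx))
    exact hφ (by rw [← hz]; exact hall z (h0 _ (Set.mem_insert _ _)) (h0 _ (Set.mem_insert_of_mem _ rfl)))
  obtain ⟨α, β, hαβ⟩ := Submodule.mem_span_pair.1 hspan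
  have hβ : β ≠ 0 := fun e => hAB' (by rw [← hαβ, e, zero_smul, add_zero, uh_smul_right, A.2, mul_zero])
  by_cases hα : α = 0
  · exact Or.inl (eq_of_rep (c := β) (by rw [← hαβ, hα, zero_smul, zero_add]))
  right
  obtain ⟨k, hk0, hk⟩ := mkU_rep _ (tr_ne A.2 B.1.rep_nonzero) (tr_iso A.2 B.2)
  refine eq_of_rep (c := β * k⁻¹) ?_
  rw [show (uop A B).1.rep = k • (B.1.rep + uh B.1.rep A.1.rep • A.1.rep) from hk, smul_smul,
    inv_mul_cancel_right₀ hk0, smul_add, smul_smul, add_comm (β • _), ← hαβ]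
  congr 2
  have hiso' := B'.2
  rw [← hαβ, uh_add_left, uh_add_right, uh_add_right, uh_smul_left, uh_smul_left, uh_smul_left, uh_smul_left,
    uh_smul_right, uh_smul_right, uh_smul_right, uh_smul_right, A.2, B.2, uh_swap B.1.rep A.1.rep] at hiso'
  have alg : ∀ a b w : K4, a ≠ 0 → b ≠ 0 → w ≠ 0 →
      a * (b * b * (w * w)) + b * (a * a * w) = 0 → a = b * w := by decide +kernel
  refine alg α β _ hα hβ (fun e => hAB (uh_zero_iff.1 e)) ?_
  linear_combination hiso'

theorem act_mkU {n : ℕ} : ∀ {W : List (UP n)} {w : List (UV n)},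
    List.Forall₂ (fun p v => ∃ k : K4, k ≠ 0 ∧ p.1.rep = k • v) W w → ∀ (v : UV n) (h0 : v ≠ 0) (h1 : uh v v = 0),
    ∃ k : K4, k ≠ 0 ∧ (act uop W (mkU v h0 h1)).1.rep = k • w.foldr (fun p x => x + uh x p • p) v
  | _, _, List.Forall₂.nil, v, h0, h1 => mkU_rep v h0 h1
  | p :: W, u :: w, List.Forall₂.cons ⟨a, ha, hp⟩ hW, v, h0, h1 => by
    obtain ⟨k, hk, he⟩ := act_mkU hW v h0 h1
    set q := act uop W (mkU v h0 h1)
    obtain ⟨m, hm, hm'⟩ := mkU_rep _ (tr_ne p.2 q.1.rep_nonzero) (tr_iso p.2 q.2)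
    refine ⟨m * k, mul_ne_zero hm hk, hm'.trans ?_⟩
    rw [List.foldr_cons, he, hp, uh_smul_left, uh_smul_right]
    simp only [smul_add, smul_smul]
    congr 2
    linear_combination m * k * uh (w.foldr (fun p x => x + uh x p • p) v) u * k4_cube ha

/-- Words given by codes. -/
theorem exists_points5 (t : Fin 3 → K4) : ∃ W : List (UP 5),
    List.Forall₂ (fun p v => ∃ k : K4, k ≠ 0 ∧ p.1.rep = k • v) W (word5 t) := by
  have h : ∀ m ∈ words5.getD (pick5 t).1 [], cv5 m ≠ 0 ∧ uh (cv5 m) (cv5 m) = 0 := by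
    intro m hm
    have hw := five_words
    rw [List.all_eq_true] at hw
    rcases lt_or_ge (pick5 t).1 words5.length with hl | hl
    · rw [List.getD_eq_getElem _ _ hl] at hm
      have := List.all_eq_true.1 (hw _ (List.getElem_mem hl)) m hm
      simpa using this
    · rw [List.getD_eq_default _ _ hl] at hm
      exact absurd hm List.not_mem_nil
  rw [word5]
  revert h
  induction words5.getD (pick5 t).1 [] with
  | nil => exact fun _ => ⟨[], List.Forall₂.nil⟩
  | cons m l ih =>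
    intro h
    obtain ⟨W, hW⟩ := ih fun x hx => h x (List.mem_cons_of_mem _ hx)
    obtain ⟨h0, h1⟩ := h m (List.mem_cons_self ..)
    exact ⟨mkU _ h0 h1 :: W, List.Forall₂.cons (mkU_rep _ h0 h1) hW⟩

variable {G : Type*} [Group G] [Finite G] {D : Set G} {f : UP 5 → G} {d a : G}

/-- No primitive class has a unitary neighbourhood of dimension five. -/
theorem uni_five (X : Ctx D) (C : Co D d uop f) (hd : d ∈ D) (ha : a ∈ D) (hda : ¬ Commute d a) : False := by
  obtain ⟨he1, he0, hgen, hnine⟩ := five_basic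
  set e := mkU e5 he0 he1
  obtain ⟨b, hb, hdb, he⟩ := X.exists_at C hd ha hda e
  obtain ⟨ke, hke, eke⟩ := mkU_rep _ he0 he1
  have haway : ∀ c, wOf5 c 0 = 0 ∧ wOf5 c 1 = 0 := fun c => by
    constructor <;> simp only [wOf5, Finset.sum_apply, Pi.smul_apply, smul_eq_mul] <;>
      refine Finset.sum_eq_zero fun k _ => ?_
    · rw [(hgen k).1, mul_zero]
    · rw [(hgen k).2, mul_zero]
  have he5 : e5 0 = 1 ∧ e5 1 = 1 ∧ e5 2 = 0 ∧ e5 3 = 0 ∧ e5 4 = 0 := by decide +kernel
  have hwe : ∀ c, uh (wOf5 c) e5 = 0 := fun c => by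
    simp [uh, hermForm, Fin.sum_univ_five, (haway c).1, (haway c).2, he5.2.2.1, he5.2.2.2.1, he5.2.2.2.2]
  -- the lift of one of the nine
  have lift : ∀ i, ∃ p ∈ Nb uop e, p ∈ Sc f b ∧
      ∃ s k : K4, k ≠ 0 ∧ p.1.rep = k • (wOf5 (nine i) + s • e5) := by
    intro i
    obtain ⟨w0, w1⟩ := hnine i
    obtain ⟨kq, hkq, ekq⟩ := mkU_rep _ w0 w1
    have hq : mkU _ w0 w1 ∈ Nb uop e := (nbU_iff _ _).2 ⟨fun h => by
        obtain ⟨c, hc⟩ := mkU_eq_iff.1 h
        have hc0 := congrFun hc 0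
        rw [Pi.smul_apply, smul_eq_mul, he5.1, mul_one, (haway _).1] at hc0
        rw [hc0, zero_smul] at hc
        exact w0 hc.symm,
      by rw [eke, ekq, uh_smul_left, uh_smul_right, uh_zero_iff.1 (hwe _), mul_zero, mul_zero]⟩
    obtain ⟨p, hp, hpS, hspan⟩ := uni_line_exists X C hd hb hdb he hq
    obtain ⟨α, β, hαβ⟩ := Submodule.mem_span_pair.1 hspan
    rw [eke, ekq, smul_smul, smul_smul] at hαβ
    have hβ : β * kq ≠ 0 := fun h => hp.1 (eq_of_rep (c := α) (by
      rw [← hαβ, h, zero_smul, add_zero, eke, smul_smul]))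
    refine ⟨p, hp, hpS, (β * kq)⁻¹ * (α * ke), β * kq, hβ, ?_⟩
    rw [← hαβ, smul_add, smul_smul (β * kq), ← mul_assoc, mul_inv_cancel₀ hβ, one_mul, add_comm]
  let Lin : (Fin 3 → K4) → K4 → Prop := fun c s =>
    ∃ p ∈ Sc f b, ∃ k : K4, k ≠ 0 ∧ p.1.rep = k • (wOf5 c + s • e5)
  have base : ∀ k : Fin 3, ∃ s, Lin (Pi.single k 1) s := by
    intro k
    have hk : ∃ i, nine i = Pi.single k 1 := ⟨⟨k.1, by omega⟩, by fin_cases k <;> rfl⟩
    obtain ⟨i, hi⟩ := hk
    obtain ⟨p, -, hp, s, c, hc, h⟩ := lift i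
    exact ⟨s, p, hp, c, hc, hi ▸ h⟩
  choose t ht using base
  let tOf : (Fin 3 → K4) → K4 := fun c => ∑ k, c k * t k
  have hsingle : ∀ k, Lin (Pi.single k 1) (tOf (Pi.single k 1)) := fun k => by
    rw [show tOf (Pi.single k 1) = t k by simp [tOf, Pi.single_apply]]; exact ht k
  have hcop : ∀ c' c, Lin c' (tOf c') → Lin c (tOf c) → Lin (cop5 c' c) (tOf (cop5 c' c)) := by
    rintro c' c ⟨q, hq, kq, hkq, eq⟩ ⟨p, hp, kp, hkp, ep⟩
    obtain ⟨m, hm, em⟩ := mkU_rep _ (tr_ne p.2 q.1.rep_nonzero) (tr_iso p.2 q.2)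
    refine ⟨uop p q, (X.sc_closed C hp).2 hq, m * kq, mul_ne_zero hm hkq, em.trans ?_⟩
    have hh : uh (wOf5 c' + tOf c' • e5) (wOf5 c + tOf c • e5) = uh (wOf5 c') (wOf5 c) := by
      rw [uh_add_left, uh_add_right, uh_add_right, uh_smul_left, uh_smul_left, uh_smul_right, uh_smul_right,
        hwe, uh_zero_iff.1 (hwe c), he1]
      simp
    have hw : wOf5 (cop5 c' c) + tOf (cop5 c' c) • e5 =
        (wOf5 c' + tOf c' • e5) + uh (wOf5 c') (wOf5 c) • (wOf5 c + tOf c • e5) := by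
      rw [show tOf (cop5 c' c) = tOf c' + uh (wOf5 c') (wOf5 c) * tOf c by
        simp [tOf, cop5, add_mul, Finset.sum_add_distrib, Finset.mul_sum, mul_assoc]]
      simp only [cop5, wOf5, Pi.add_apply, Pi.smul_apply, smul_eq_mul, add_smul, mul_smul, Finset.sum_add_distrib,
        ← Finset.smul_sum, smul_add]
      abel
    rw [hw, eq, ep, uh_smul_left, uh_smul_right, hh]
    generalize wOf5 c' + tOf c' • e5 = A'
    generalize wOf5 c + tOf c • e5 = A
    simp only [smul_add, smul_smul]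
    congr 2
    linear_combination m * kq * uh (wOf5 c') (wOf5 c) * k4_cube hkp
  have L3 := hcop _ _ (hsingle 1) (hsingle 0)
  have L4 := hcop _ _ (hsingle 2) (hsingle 0)
  have L5 := hcop _ _ (hsingle 2) (hsingle 1)
  have L6 := hcop _ _ L4 (hsingle 1)
  have L7 := hcop _ _ L3 (hsingle 2)
  have L8 := hcop _ _ L6 (hsingle 2)
  have hnines : ∀ i, Lin (nine i) (tOf (nine i)) := by
    intro i
    fin_cases i
    exacts [hsingle 0, hsingle 1, hsingle 2, L3, L4, L5, L6, L7, L8]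
  -- the section consists of the nine
  set T : Fin 3 → K4 := t
  have hv : ∀ i, wOf5 (nine i) + tOf (nine i) • e5 = vOf5 T (nine i) := fun i => rfl
  have hvne : ∀ i (c : K4), wOf5 (nine i) + tOf (nine i) • e5 ≠ c • e5 := by
    intro i c h
    have h0 := congrFun h 0
    rw [Pi.add_apply, Pi.smul_apply, Pi.smul_apply, smul_eq_mul, smul_eq_mul, he5.1, (haway _).1, zero_add,
      mul_one, mul_one] at h0
    rw [h0] at h
    exact (hnine i).1 (add_eq_right.1 h)
  have hpt : ∀ i, ∃ p ∈ Nb uop e, p ∈ Sc f b ∧ ∃ k : K4, k ≠ 0 ∧ p.1.rep = k • vOf5 T (nine i) := by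
    intro i
    obtain ⟨p, hp, k, hk, hrep⟩ := hnines i
    refine ⟨p, (nbU_iff _ _).2 ⟨fun h => hvne i (k⁻¹ * ke) ?_, ?_⟩, hp, k, hk, hrep⟩
    · rw [h, eke] at hrep
      rw [mul_smul, hrep, smul_smul, inv_mul_cancel₀ hk, one_smul]
    · rw [eke, hrep, uh_smul_left, uh_smul_right, uh_add_right, uh_smul_right, uh_zero_iff.1 (hwe _), he1]
      simp
  have hsec : ∀ u ∈ Nb uop e, u ∈ Sc f b → ∃ i, ∃ k : K4, u.1.rep = k • vOf5 T (nine i) := by
    intro u hu huS
    have huh := ((nbU_iff _ _).1 hu).2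
    rw [eke, uh_smul_left, mul_eq_zero, or_iff_right hke] at huh
    simp [uh, hermForm, Fin.sum_univ_five, he5.1, he5.2.1, he5.2.2.1, he5.2.2.2.1, he5.2.2.2.2] at huh
    have h01 : u.1.rep 0 = u.1.rep 1 := by
      have key : ∀ x y : K4, x * x + y * y = 0 → x = y := by decide +kernel
      exact key _ _ (by linear_combination huh)
    set w : UV 5 := ![0, 0, u.1.rep 2, u.1.rep 3, u.1.rep 4]
    have hu' : u.1.rep = w + u.1.rep 0 • e5 := by
      funext j
      fin_cases j <;> simp [w, he5.1, he5.2.1, he5.2.2.1, he5.2.2.2.1, he5.2.2.2.2, h01]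
    have hww : uh w w = 0 := by
      have h := u.2
      rw [hu', uh_add_left, uh_add_right, uh_add_right, uh_smul_left, uh_smul_left, uh_smul_right,
        uh_smul_right, he1] at h
      have hwe' : uh w e5 = 0 := by
        simp [w, uh, hermForm, Fin.sum_univ_five, he5.2.2.1, he5.2.2.2.1, he5.2.2.2.2]
      rw [hwe', uh_zero_iff.1 hwe'] at h
      simpa using h
    rcases five_complete (u.1.rep 2) (u.1.rep 3) (u.1.rep 4) with h0 | h1 | ⟨i, c, hic⟩
    · exfalso
      refine hu.1 (eq_of_rep (c := u.1.rep 0 * ke⁻¹) ?_)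
      rw [eke, smul_smul, inv_mul_cancel_right₀ hke, hu', show w = 0 from h0, zero_add]
      simp [he5.1]
    · exact absurd hww h1
    · obtain ⟨p, hp, hpS, k, hk, hrep⟩ := hpt i
      have := uni_line_eq X C hd hb hdb he hp hpS hu huS (Submodule.mem_span_pair.2
        ⟨(u.1.rep 0 + c * tOf (nine i)) * ke⁻¹, c * k⁻¹, by
          rw [eke, smul_smul, inv_mul_cancel_right₀ hke, hrep, smul_smul, inv_mul_cancel_right₀ hk,
            ← hv, smul_add, smul_smul]
          conv_rhs => rw [hu', show w = c • wOf5 (nine i) from hic]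
          rw [add_smul, add_comm (c • wOf5 _) _, add_assoc, ← add_assoc ((c * tOf _) • e5), uv_add, zero_add,
            add_comm]⟩)
      exact ⟨i, k, this ▸ hrep⟩
  obtain ⟨W, hW⟩ := exists_points5 T
  have hchk := five_checks (T 0) (T 1) (T 2)
  rw [show ![T 0, T 1, T 2] = T from funext fun j => by fin_cases j <;> rfl] at hchk
  obtain ⟨⟨ce, hce⟩, hperm, ⟨cf, hcf⟩, hl1, hl2, hl3, hline⟩ := hchk
  have hact : ∀ (p : UP 5) (v : UV 5) (k : K4), k ≠ 0 → p.1.rep = k • v →
      ∃ m : K4, m ≠ 0 ∧ (act uop W p).1.rep = m • actV (word5 T) v := by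
    intro p v k hk hp
    have hv0 : v ≠ 0 := fun h => p.1.rep_nonzero (by rw [hp, h, smul_zero])
    have hv1 : uh v v = 0 := by
      have h := p.2
      rw [hp, uh_smul_left, uh_smul_right, mul_eq_zero, mul_eq_zero, sq_eq_zero_iff] at h
      exact (h.resolve_left hk).resolve_left hk
    rw [show p = mkU v hv0 hv1 from by
      obtain ⟨k', hk', h'⟩ := mkU_rep v hv0 hv1
      exact eq_of_rep (c := k * k'⁻¹) (by rw [h', smul_smul, inv_mul_cancel_right₀ hk', hp])]
    exact act_mkU hW v hv0 hv1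
  have hfix : act uop W e = e := by
    obtain ⟨m, -, hm⟩ := hact e e5 ke hke eke
    exact eq_of_rep (c := m * ce * ke⁻¹) (by rw [hm, hce, eke, smul_smul, smul_smul, inv_mul_cancel_right₀ hke])
  have hinv := X.sc_invariant (fun A B B' => uni_fib (by norm_num) A B B') C hd hb hdb he hfix fun u hu huS => by
    obtain ⟨i, k, hk⟩ := hsec u hu huS
    obtain ⟨j, c, hjc⟩ := hperm i
    obtain ⟨p, -, hpS, kp, hkp, hrep⟩ := hpt j
    have hk0 : k ≠ 0 := fun h => u.1.rep_nonzero (by rw [hk, h, zero_smul])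
    obtain ⟨m, -, hm⟩ := hact u _ k hk0 hk
    rw [show act uop W u = p from eq_of_rep (c := m * c * kp⁻¹) (by
      rw [hm, hjc, hrep, smul_smul, smul_smul, inv_mul_cancel_right₀ hkp])]
    exact hpS
  -- the line without fixed points
  obtain ⟨φ, -, hφS, kφ, hkφ, hφ⟩ := hpt (fix5 T)
  set v0 := vOf5 T (nine (fix5 T))
  set l0 := line5 T
  have hl0 : l0 ≠ 0 := fun h => hl3 0 (by rw [zero_smul]; exact h.symm)
  obtain ⟨kl, hkl, ekl⟩ := mkU_rep l0 hl0 hl1
  have hq : mkU l0 hl0 hl1 ∈ Nb uop φ := (nbU_iff _ _).2 ⟨fun h => hl3 (kl⁻¹ * kφ) (by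
      rw [mul_smul, ← hφ, ← h, ekl, smul_smul, inv_mul_cancel₀ hkl, one_smul]), by
    rw [hφ, ekl, uh_smul_left, uh_smul_right, uh_zero_iff.1 hl2, mul_zero, mul_zero]⟩
  obtain ⟨p, hp, hpS, hspan⟩ := uni_line_exists X C hd hb hdb hφS hq
  obtain ⟨α, β, hαβ⟩ := Submodule.mem_span_pair.1 hspan
  rw [hφ, ekl, smul_smul, smul_smul] at hαβ
  have hβ : β * kl ≠ 0 := fun h => hp.1 (eq_of_rep (c := α) (by
    rw [← hαβ, h, zero_smul, add_zero, hφ, smul_smul]))
  set s := (β * kl)⁻¹ * (α * kφ) with hs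
  have hprep : p.1.rep = (β * kl) • (l0 + s • v0) := by
    rw [← hαβ, hs, smul_add, smul_smul (β * kl), ← mul_assoc, mul_inv_cancel₀ hβ, one_mul, add_comm]
  obtain ⟨⟨x, y, hxy⟩, hne⟩ := hline s
  obtain ⟨m, hm0, hm⟩ := hact p _ _ hβ hprep
  have hfixφ : act uop W φ = φ := by
    obtain ⟨m', -, hm'⟩ := hact φ _ kφ hkφ hφ
    exact eq_of_rep (c := m' * cf * kφ⁻¹) (by
      rw [hm', hcf, hφ, smul_smul, smul_smul, inv_mul_cancel_right₀ hkφ])
  have hmem : act uop W p ∈ Nb uop φ := ⟨fun h => hp.1 (C.act_inj X W (h.trans hfixφ.symm)),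
    by rw [← hfixφ]; exact (C.act_com X W φ p).2 hp.2⟩
  have heq := uni_line_eq X C hd hb hdb hφS hp hpS hmem (hinv p hpS) (Submodule.mem_span_pair.2
    ⟨(m * x + m * y * s) * kφ⁻¹, m * y * (β * kl)⁻¹, by
      rw [hm, hxy, hφ, hprep, smul_smul, smul_smul, inv_mul_cancel_right₀ hkφ, inv_mul_cancel_right₀ hβ]
      simp only [smul_add, smul_smul, add_smul]
      rw [add_assoc, add_left_comm ((m * y * s) • v0), uv_add, add_zero]⟩)
  rw [heq, hprep] at hm
  refine hne (m⁻¹ * (β * kl)) ?_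
  rw [mul_smul m⁻¹ (β * kl) (l0 + s • v0), hm, smul_smul, inv_mul_cancel₀ hm0, one_smul]

end CfsgLib.FischerClass
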