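import Cfsg.Agent.Lib.FischerClass.UnitSpace

/-!
The unitary groups in dimension at least seven are no neighbourhoods: the common neighbours would lift
the points of a five-dimensional space linearly, so would contain three points on a line.
-/

set_option autoImplicit false
set_option maxRecDepth 10000

namespace CfsgLib.FischerClass

open Cfsg
open CfsgLib.HePres (K4)

/-- An element by its code. -/
def kc (a : ℕ) : K4 := ⟨⟨a % 4, Nat.mod_lt _ (by norm_num)⟩⟩

/-- Five vectors supported away from the first two coordinates. -/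
def gen7 (k : Fin 5) : Fin 7 → K4 :=
  ![![kc 0, kc 0, kc 0, kc 0, kc 0, kc 1, kc 2], ![kc 0, kc 0, kc 1, kc 0, kc 0, kc 3, kc 0],
    ![kc 0, kc 0, kc 1, kc 0, kc 3, kc 0, kc 0], ![kc 0, kc 0, kc 1, kc 1, kc 1, kc 0, kc 1],
    ![kc 0, kc 0, kc 0, kc 0, kc 1, kc 2, kc 0]] k

/-- The standard point. -/
def e7 : Fin 7 → K4 := ![kc 1, kc 1, kc 0, kc 0, kc 0, kc 0, kc 0]

/-- A combination of the five. -/
def wOf (c : Fin 5 → K4) : Fin 7 → K4 := ∑ k, c k • gen7 k

/-- One step of the program. -/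
def cop (c' c : Fin 5 → K4) : Fin 5 → K4 := c' + uh (wOf c') (wOf c) • c

def c9 : Fin 5 → K4 := cop (Pi.single 3 1) (Pi.single 1 1)
def c12 : Fin 5 → K4 := cop (Pi.single 4 1) (Pi.single 2 1)
def c13 : Fin 5 → K4 := cop (Pi.single 4 1) (Pi.single 3 1)
def c19 : Fin 5 → K4 := cop c12 (Pi.single 1 1)
def c21 : Fin 5 → K4 := cop c9 (Pi.single 2 1)

theorem prog_checks : (∀ k, gen7 k 0 = 0 ∧ gen7 k 1 = 0 ∧ gen7 k ≠ 0 ∧ uh (gen7 k) (gen7 k) = 0) ∧
    uh e7 e7 = 0 ∧ uh (wOf c21) (wOf c13) = 0 ∧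
    (∀ k : K4, k • wOf c21 ≠ wOf c13) ∧ (∃ k : K4, k ≠ 0 ∧ c19 = k • (c21 + c13)) := by
  decide +kernel

variable {n : ℕ}

/-- The extension by zeros. -/
def pad (n : ℕ) (v : Fin 7 → K4) : UV n := fun i => if h : i.1 < 7 then v ⟨i.1, h⟩ else 0

theorem pad_add (u v : Fin 7 → K4) : pad n (u + v) = pad n u + pad n v := by
  funext i; simp only [pad, Pi.add_apply]; split <;> simp

theorem pad_smul (c : K4) (v : Fin 7 → K4) : pad n (c • v) = c • pad n v := by
  funext i; simp only [pad, Pi.smul_apply, smul_eq_mul]; split <;> simp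

theorem pad_inj (hn : 7 ≤ n) {u v : Fin 7 → K4} (h : pad n u = pad n v) : u = v := by
  funext i
  have := congrFun h (Fin.castLE hn i)
  simpa [pad] using this

theorem uh_pad (hn : 7 ≤ n) (u v : Fin 7 → K4) : uh (pad n u) (pad n v) = uh u v := by
  simp only [uh, hermForm]
  refine (Fintype.sum_of_injective (Fin.castLE hn) (Fin.castLE_injective hn) _ _ (fun i hi => ?_)
    fun i => by simp [pad]).symm
  have : ¬ i.1 < 7 := fun h => hi ⟨⟨i.1, h⟩, Fin.ext rfl⟩
  simp [pad, this]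

/-- Away from the first two coordinates. -/
def Away (w : Fin 7 → K4) : Prop := w 0 = 0 ∧ w 1 = 0

theorem Away.uh_e {w : Fin 7 → K4} (h : Away w) : uh w e7 = 0 ∧ uh e7 w = 0 := by
  constructor <;> simp [uh, hermForm, Fin.sum_univ_seven, e7, h.1, h.2, show kc 0 = 0 from rfl]

theorem eq_zero_of_e {w : Fin 7 → K4} (h : Away w) {t : K4} (hw : w + t • e7 = 0) : w = 0 := by
  have h0 := congrFun hw 0
  simp [e7, h.1, show kc 1 = 1 from rfl] at h0
  simpa [h0] using hw

theorem wOf_add (c c' : Fin 5 → K4) : wOf (c + c') = wOf c + wOf c' := by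
  simp [wOf, add_smul, Finset.sum_add_distrib]

theorem wOf_smul (a : K4) (c : Fin 5 → K4) : wOf (a • c) = a • wOf c := by
  simp [wOf, mul_smul, Finset.smul_sum]

theorem wOf_away (c : Fin 5 → K4) : Away (wOf c) := by
  constructor <;> simp only [wOf, Finset.sum_apply, Pi.smul_apply, smul_eq_mul] <;>
    refine Finset.sum_eq_zero fun k _ => ?_
  · rw [(prog_checks.1 k).1, mul_zero]
  · rw [(prog_checks.1 k).2.1, mul_zero]

theorem wOf_single (k : Fin 5) : wOf (Pi.single k 1) = gen7 k := by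
  simp [wOf, Pi.single_apply, ite_smul]

variable {G : Type*} [Group G] [Finite G] {D : Set G} {f : UP n → G} {d a : G}

/-- No primitive class has a unitary neighbourhood of dimension at least seven. -/
theorem uni_seven (X : Ctx D) (C : Co D d uop f) (hn : 7 ≤ n) (hd : d ∈ D) (ha : a ∈ D)
    (hda : ¬ Commute d a) : False := by
  have he0 : pad n e7 ≠ 0 := fun e => by
    have := congrFun e ⟨0, by omega⟩
    simp [pad, e7, show kc 1 = 1 from rfl] at this
  have he1 : uh (pad n e7) (pad n e7) = 0 := by rw [uh_pad hn]; exact prog_checks.2.1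
  set e := mkU _ he0 he1 with hedef
  obtain ⟨b, hb, hdb, he⟩ := X.exists_at C hd ha hda e
  obtain ⟨ke, hke, eke⟩ := mkU_rep _ he0 he1
  -- the lifts
  let Lin : (Fin 7 → K4) → K4 → Prop := fun w t =>
    ∃ (h0 : pad n (w + t • e7) ≠ 0) (h1 : uh (pad n (w + t • e7)) (pad n (w + t • e7)) = 0),
      mkU _ h0 h1 ∈ Sc f b
  have base : ∀ k, ∃ t, Lin (gen7 k) t := by
    intro k
    obtain ⟨g0, g1, gne, gg⟩ := prog_checks.1 k
    have hw0 : pad n (gen7 k) ≠ 0 := fun h => gne (pad_inj hn (h.trans (funext fun i => by simp [pad]).symm))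
    have hw1 : uh (pad n (gen7 k)) (pad n (gen7 k)) = 0 := by rw [uh_pad hn]; exact gg
    obtain ⟨kq, hkq, ekq⟩ := mkU_rep _ hw0 hw1
    have hq : mkU _ hw0 hw1 ∈ Nb uop e := (nbU_iff _ _).2 ⟨fun h => gne (by
        obtain ⟨c, hc⟩ := mkU_eq_iff.1 h
        rw [← pad_smul] at hc
        have := pad_inj hn hc
        refine eq_zero_of_e ⟨g0, g1⟩ (t := c) ?_
        rw [this]; exact uv_add _),
      by rw [eke, ekq, uh_smul_left, uh_smul_right, uh_pad hn, (Away.uh_e ⟨g0, g1⟩).2, mul_zero, mul_zero]⟩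
    obtain ⟨p, hp, hpS, hspan⟩ := uni_line_exists X C hd hb hdb he hq
    obtain ⟨α, β, hαβ⟩ := Submodule.mem_span_pair.1 hspan
    rw [eke, ekq, smul_smul, smul_smul] at hαβ
    have hβ : β * kq ≠ 0 := fun h => hp.1 (eq_of_rep (c := α) (by
      rw [← hαβ, h, zero_smul, add_zero, eke, smul_smul]))
    refine ⟨(β * kq)⁻¹ * (α * ke), ?_⟩
    have hrep : pad n (gen7 k + ((β * kq)⁻¹ * (α * ke)) • e7) = (β * kq)⁻¹ • p.1.rep := by
      rw [pad_add, pad_smul, ← hαβ, smul_add, smul_smul, smul_smul, inv_mul_cancel₀ hβ, one_smul, add_comm]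
    refine ⟨hrep ▸ smul_ne_zero (inv_ne_zero hβ) p.1.rep_nonzero,
      by rw [hrep, uh_smul_left, uh_smul_right, p.2, mul_zero, mul_zero], ?_⟩
    convert hpS
    obtain ⟨c, -, hc⟩ := mkU_rep _ (hrep ▸ smul_ne_zero (inv_ne_zero hβ) p.1.rep_nonzero)
      (by rw [hrep, uh_smul_left, uh_smul_right, p.2, mul_zero, mul_zero])
    exact eq_of_rep (c := c * (β * kq)⁻¹) (by rw [hc, hrep, smul_smul])
  have step : ∀ {u v : Fin 7 → K4} {s t : K4}, Away u → Away v → Lin u s → Lin v t →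
      Lin (v + uh v u • u) (t + uh v u * s) := by
    intro u v s t hu hv ⟨u0, u1, hu'⟩ ⟨v0, v1, hv'⟩
    have h := (X.sc_closed C hu').2 hv'
    have hh : uh (pad n (v + t • e7)) (pad n (u + s • e7)) = uh v u := by
      rw [uh_pad hn, uh_add_left, uh_add_right, uh_add_right, uh_smul_left, uh_smul_left, uh_smul_right,
        uh_smul_right, hu.uh_e.2, hv.uh_e.1, prog_checks.2.1]
      simp
    have hvec : pad n (v + t • e7) + uh v u • pad n (u + s • e7) =
        pad n (v + uh v u • u + (t + uh v u * s) • e7) := by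
      simp only [pad_add, pad_smul, add_smul, smul_add, smul_smul]
      abel
    refine ⟨hvec ▸ hh ▸ tr_ne u1 v0, hvec ▸ hh ▸ tr_iso u1 v1, ?_⟩
    rw [uop_mk] at h
    convert h using 2
    rw [hh, hvec]
  choose t ht using base
  let tOf : (Fin 5 → K4) → K4 := fun c => ∑ k, c k * t k
  have hsingle : ∀ k, Lin (wOf (Pi.single k 1)) (tOf (Pi.single k 1)) := fun k => by
    rw [wOf_single, show tOf (Pi.single k 1) = t k by simp [tOf, Pi.single_apply]]
    exact ht k
  have hcop : ∀ c' c, Lin (wOf c') (tOf c') → Lin (wOf c) (tOf c) → Lin (wOf (cop c' c)) (tOf (cop c' c)) := by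
    intro c' c h' h
    have h2 := step (wOf_away c) (wOf_away c') h h'
    rwa [show wOf (cop c' c) = wOf c' + uh (wOf c') (wOf c) • wOf c by rw [cop, wOf_add, wOf_smul],
      show tOf (cop c' c) = tOf c' + uh (wOf c') (wOf c) * tOf c by
        simp [tOf, cop, add_mul, Finset.sum_add_distrib, Finset.mul_sum, mul_assoc]]
  obtain ⟨x0, x1, hx⟩ : Lin (wOf c13) (tOf c13) := hcop _ _ (hsingle 4) (hsingle 3)
  obtain ⟨y0, y1, hy⟩ : Lin (wOf c21) (tOf c21) := hcop _ _ (hcop _ _ (hsingle 3) (hsingle 1)) (hsingle 2)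
  obtain ⟨z0, z1, hz⟩ : Lin (wOf c19) (tOf c19) := hcop _ _ (hcop _ _ (hsingle 4) (hsingle 2)) (hsingle 1)
  obtain ⟨-, -, h0, hne, k, hk, hrel⟩ := prog_checks
  have hrel' : pad n (wOf c19 + tOf c19 • e7) =
      k • (pad n (wOf c21 + tOf c21 • e7) + pad n (wOf c13 + tOf c13 • e7)) := by
    rw [hrel, show tOf (k • (c21 + c13)) = k * (tOf c21 + tOf c13) by
      simp [tOf, add_mul, Finset.sum_add_distrib, Finset.mul_sum, mul_assoc, mul_add]]
    simp only [wOf_smul, wOf_add, pad_add, pad_smul, add_smul, smul_add, smul_smul, mul_add]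
    abel
  obtain ⟨kx, hkx, ekx⟩ := mkU_rep _ x0 x1
  obtain ⟨ky, hky, eky⟩ := mkU_rep _ y0 y1
  obtain ⟨kz, hkz, ekz⟩ := mkU_rep _ z0 z1
  have hxy : uh (pad n (wOf c21 + tOf c21 • e7)) (pad n (wOf c13 + tOf c13 • e7)) = 0 := by
    rw [uh_pad hn, uh_add_left, uh_add_right, uh_add_right, uh_smul_left, uh_smul_left, uh_smul_right,
      uh_smul_right, (wOf_away _).uh_e.1, (wOf_away _).uh_e.2, prog_checks.2.1, h0]
    simp
  -- the three are distinct points on one line
  have hdist : ∀ c : K4, c • pad n (wOf c21 + tOf c21 • e7) ≠ pad n (wOf c13 + tOf c13 • e7) := by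
    intro c hc
    rw [← pad_smul] at hc
    refine hne c (funext fun i => ?_)
    have he7 : ∀ i : Fin 7, (i = 0 ∨ i = 1) ∨ e7 i = 0 := by decide +kernel
    have h := congrFun (pad_inj hn hc) i
    rcases he7 i with (rfl | rfl) | hi
    · exact (congrArg (c * ·) (wOf_away _).1).trans ((mul_zero c).trans (wOf_away _).1.symm)
    · exact (congrArg (c * ·) (wOf_away _).2).trans ((mul_zero c).trans (wOf_away _).2.symm)
    · simp only [Pi.smul_apply, Pi.add_apply, smul_eq_mul, hi, mul_zero, add_zero] at h ⊢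
      exact h
  have hyx : mkU _ y0 y1 ∈ Nb uop (mkU _ x0 x1) := (nbU_iff _ _).2 ⟨fun h => by
      obtain ⟨c, hc⟩ := mkU_eq_iff.1 h
      have hc0 : c ≠ 0 := fun e => y0 (by rw [← hc, e, zero_smul])
      exact hdist c⁻¹ (by rw [← hc, smul_smul, inv_mul_cancel₀ hc0, one_smul]),
    by rw [ekx, eky, uh_smul_left, uh_smul_right, uh_zero_iff.1 hxy, mul_zero, mul_zero]⟩
  have hzx : mkU _ z0 z1 ∈ Nb uop (mkU _ x0 x1) := (nbU_iff _ _).2 ⟨fun h => by
      obtain ⟨c, hc⟩ := mkU_eq_iff.1 h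
      rw [hrel'] at hc
      have h' : (c + k) • pad n (wOf c13 + tOf c13 • e7) = k • pad n (wOf c21 + tOf c21 • e7) := by
        rw [add_smul, hc, smul_add, add_assoc, uv_add, add_zero]
      by_cases hck : c + k = 0
      · rw [hck, zero_smul] at h'
        exact y0 ((smul_eq_zero.1 h'.symm).resolve_left hk)
      · exact hdist ((c + k)⁻¹ * k) (by rw [mul_smul, ← h', smul_smul, inv_mul_cancel₀ hck, one_smul]),
    by rw [ekx, ekz, uh_smul_left, uh_smul_right, hrel', uh_smul_right, uh_add_right, uh_zero_iff.1 hxy, x1,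
      add_zero, mul_zero, mul_zero, mul_zero]⟩
  have heq := uni_line_eq X C hd hb hdb hx hyx hy hzx hz (Submodule.mem_span_pair.2
    ⟨kz * k * kx⁻¹, kz * k * ky⁻¹, by
      rw [ekx, eky, ekz, hrel', smul_smul, smul_smul, mul_assoc, inv_mul_cancel₀ hkx,
        mul_assoc (kz * k), inv_mul_cancel₀ hky, mul_one, smul_add, smul_add, smul_smul, smul_smul, add_comm]⟩)
  obtain ⟨c, hc⟩ := mkU_eq_iff.1 heq
  rw [hrel'] at hc
  have h' : (c + k) • pad n (wOf c21 + tOf c21 • e7) = k • pad n (wOf c13 + tOf c13 • e7) := by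
    rw [add_smul, hc, smul_add, add_comm (k • pad n (wOf c21 + tOf c21 • e7)), add_assoc, uv_add, add_zero]
  exact hdist (k⁻¹ * (c + k)) (by rw [mul_smul, h', smul_smul, inv_mul_cancel₀ hk, one_smul])

end CfsgLib.FischerClass
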