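import Cfsg.Agent.Lib.FischerClass.Models
import Cfsg.Agent.Lib.FischerClass.FromO2
import Cfsg.Agent.Lib.FischerClass.Tables
import Cfsg.Agent.Lib.FischerClass.UnitFive
import Cfsg.Agent.Lib.FischerClass.UnitSeven
import Cfsg.Agent.Lib.FischerClass.OrthThreeCase
import Cfsg.Agent.Lib.HallHigman.SolubleBounds
import Cfsg.Agent.S1615

/-!
The induction: a class with the standing hypotheses and trivial cores is one of the standard ones.
-/

set_option autoImplicit false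
set_option linter.style.haveILetI false
set_option linter.unusedSectionVars false

namespace CfsgLib.FischerClass

open Cfsg CfsgLib.Orth
open CfsgLib.HePres (K4)
open CfsgLib.ThreeTransp CfsgLib.ThreeTransp.Relations

universe u

/-- The shapes a neighbourhood can have. -/
def Shaped {G : Type*} [Group G] (D : Set G) : Prop :=
  (∃ n, 5 ≤ n ∧ ∃ f : Tp n → G, Pm D sop f) ∨
  (∃ m, 2 ≤ m ∧ ∃ f : SP m → G, Pm D pop f) ∨
  (∃ n, 4 ≤ n ∧ ∃ f : UP n → G, Pm D uop f) ∨
  (∃ (ι : Type) (_ : Fintype ι) (_ : DecidableEq ι) (Q : QuadraticForm (ZMod 2) (ι → ZMod 2)),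
    Nondeg Q ∧ 8 ≤ Fintype.card ι ∧ ∃ f : OV Q → G, Pm D oop f) ∨
  (∃ n, 5 ≤ n ∧ ∃ Q : QuadraticForm (ZMod 3) (Fin n → ZMod 3), Nondeg Q ∧ ∃ f : RP Q → G, Pm D rop f) ∨
  (IsOfTypeM22 G D ∨ IsOfTypeM23 G D ∨ IsOfTypeM24 G D)

/-- The conclusion of the classification. -/
def Classified {G : Type*} [Group G] (D : Set G) : Prop :=
  (∃ n : ℕ, 7 ≤ n ∧ ∃ e : G ≃* Equiv.Perm (Fin n), e '' D = {σ : Equiv.Perm (Fin n) | σ.IsSwap}) ∨
  ((∃ m : ℕ, 4 ≤ m ∧ ∃ e : G ≃* ↥(Cfsg.isometryGroup (ZMod 2) (Cfsg.quadFormPlus m (ZMod 2))), e '' D =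
      {g : ↥(Cfsg.isometryGroup (ZMod 2) (Cfsg.quadFormPlus m (ZMod 2))) | (((g : GL (Fin m ⊕ Fin m) (ZMod 2)) :
        Matrix (Fin m ⊕ Fin m) (Fin m ⊕ Fin m) (ZMod 2)) - 1).rank = 1}) ∨
   ∃ m : ℕ, 2 ≤ m ∧ ∃ e : G ≃* ↥(Cfsg.isometryGroup (ZMod 2) (Cfsg.quadFormMinus m (ZMod 2) 1 1)), e '' D =
      {g : ↥(Cfsg.isometryGroup (ZMod 2) (Cfsg.quadFormMinus m (ZMod 2) 1 1)) | (((g : GL ((Fin m ⊕ Fin m) ⊕ Fin 2) (ZMod 2)) :
        Matrix ((Fin m ⊕ Fin m) ⊕ Fin 2) ((Fin m ⊕ Fin m) ⊕ Fin 2) (ZMod 2)) - 1).rank = 1}) ∨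
  (∃ n : ℕ, 5 ≤ n ∧ ∃ Q : QuadraticForm (ZMod 3) (Fin n → ZMod 3), (QuadraticMap.polarBilin Q).Nondegenerate ∧
    ∃ e : G ≃* HG Q, e '' D = EG Q) ∨
  (IsOfTypeM22 G D ∨ IsOfTypeM23 G D ∨ IsOfTypeM24 G D)

/-- The cases of the exceptional types. -/
structure MathieuCases : Prop where
  m22 : ∀ {G : Type u} [Group G] [Finite G] {D : Set G}, Ctx D → ∀ {d : G}, d ∈ D →
    Nonempty (PerpQuot D d ≃* Cfsg.PSU 6 K4 2) → IsOfTypeM22 G D
  m23 : ∀ {G : Type u} [Group G] [Finite G] {D : Set G}, Ctx D → ∀ {d : G}, d ∈ D →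
    IsOfTypeM22 (PerpQuot D d) (perpImage D d) → IsOfTypeM23 G D
  m24 : ∀ {G : Type u} [Group G] [Finite G] {D : Set G}, Ctx D → ∀ {d : G}, d ∈ D →
    IsOfTypeM23 (PerpQuot D d) (perpImage D d) → IsOfTypeM24 G D
  none : ∀ {G : Type u} [Group G] [Finite G] {D : Set G}, Ctx D → ∀ {d : G}, d ∈ D →
    Cfsg.pCore 2 ↥(perpGroup D d) ≤ Subgroup.center _ → Cfsg.pCore 3 ↥(perpGroup D d) ≤ Subgroup.center _ →
    IsOfTypeM24 (PerpQuot D d) (perpImage D d) → False

variable {G : Type u} [Group G] [Finite G] {D : Set G}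

/-- The dispatch on the shape of a neighbourhood. -/
theorem dispatch (F : MathieuCases.{u}) (X : Ctx D) {d : G} (hd : d ∈ D) (hP : Ctx (perpImage D d))
    (h2 : Cfsg.pCore 2 ↥(perpGroup D d) ≤ Subgroup.center _)
    (h3 : Cfsg.pCore 3 ↥(perpGroup D d) ≤ Subgroup.center _)
    (h : Shaped (perpImage D d)) : Classified D := by
  obtain ⟨a, ha, hda⟩ := exists_not_commute X.cls
    (let ⟨a, ha, b, hb, hab, _⟩ := X.hw; ⟨a, ha, b, hb, hab⟩) hd
  have symp : ∀ {m : ℕ} {g : SP m → G}, 2 ≤ m → Co D d pop g → Classified D := by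
    intro m g hm C
    rcases symp_case X hm C hd ha hda with ⟨-, e, he⟩ | ⟨h3, e, he⟩ | ⟨e, he⟩
    · exact Or.inl ⟨8, by norm_num, e, he⟩
    · exact Or.inr (Or.inl (Or.inl ⟨m + 1, by omega, e, he⟩))
    · exact Or.inr (Or.inl (Or.inr ⟨m, hm, e, he⟩))
  have orth : ∀ {n : ℕ} {Q : QuadraticForm (ZMod 3) (Fin n → ZMod 3)} {g : RP Q → G},
      Nondeg Q → 5 ≤ n → Co D d rop g → Classified D := by
    intro n Q g hB hn C
    obtain ⟨R, hR, e, he⟩ := orth_three_case hB hn X C hd ha hda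
    exact Or.inr (Or.inr (Or.inl ⟨n + 1, by omega, R, hR, e, he⟩))
  rcases h with ⟨n, hn, f, C⟩ | ⟨m, hm, f, C⟩ | ⟨n, hn, f, C⟩ | ⟨ι, _, _, Q, hB, hι, f, C⟩ |
    ⟨n, hn, Q, hB, f, C⟩ | h22 | h23 | h24
  · by_cases h6 : n = 6
    · subst h6
      let σ := (Equiv.ofBijective sixMap sixMap_spec.1).symm
      have hσ : ∀ p q, σ (pop p q) = sop (σ p) (σ q) := fun p q => by
        refine (Equiv.ofBijective sixMap sixMap_spec.1).symm_apply_eq.2 ?_
        show pop p q = sixMap (sop (σ p) (σ q))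
        rw [sixMap_spec.2]
        exact congrArg₂ pop ((Equiv.ofBijective sixMap sixMap_spec.1).apply_symm_apply p).symm
          ((Equiv.ofBijective sixMap sixMap_spec.1).apply_symm_apply q).symm
      obtain ⟨g, C'⟩ := X.exists_co hd (C.reindex σ hσ)
      exact symp le_rfl C'
    · obtain ⟨g, C'⟩ := X.exists_co hd C
      obtain ⟨x, hx⟩ := sym_shape X (by omega) C' hd ha hda
      obtain ⟨e, he⟩ := sym_recog X hn C' hd ha hda hx
      exact Or.inl ⟨n + 2, by omega, e, he⟩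
  · obtain ⟨g, C'⟩ := X.exists_co hd C
    exact symp hm C'
  · obtain ⟨g, C'⟩ := X.exists_co hd C
    rcases (by omega : n = 4 ∨ n = 5 ∨ n = 6 ∨ 7 ≤ n) with rfl | rfl | rfl | h7
    · obtain ⟨σ, hσ⟩ := exists_four_equiv
      obtain ⟨g', C''⟩ := X.exists_co hd (C.reindex σ hσ)
      exact orth (fiveQ_nondeg one_ne_zero) le_rfl C''
    · exact (uni_five X C' hd ha hda).elim
    · obtain ⟨e, -⟩ := (psu_model (n := 6) (by norm_num)).iso hP.hD hP.hZ C
      exact Or.inr (Or.inr (Or.inr (Or.inl (F.m22 X hd ⟨e⟩))))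
    · exact (uni_seven X C' h7 hd ha hda).elim
  · obtain ⟨g, C'⟩ := X.exists_co hd C
    exact (orth_two_case hB hι X C' hd ha hda).elim
  · obtain ⟨g, C'⟩ := X.exists_co hd C
    exact orth hB hn C'
  · exact Or.inr (Or.inr (Or.inr (Or.inr (Or.inl (F.m23 X hd h22)))))
  · exact Or.inr (Or.inr (Or.inr (Or.inr (Or.inr (F.m24 X hd h23)))))
  · exact (F.none X hd h2 h3 h24).elim

/-- A classified class has a standard shape. -/
theorem Classified.shaped (h : Classified D) : Shaped D := by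
  rcases h with ⟨n, hn, e, he⟩ | (⟨m, hm, e, he⟩ | ⟨m, hm, e, he⟩) | ⟨n, hn, Q, hQ, e, he⟩ | h
  · exact Or.inl ⟨n, by omega, (sym_model n (by omega)).pm e he⟩
  · obtain ⟨Q, hQ, hB⟩ := exists_quadForm_plus (F := ZMod 2) m
    revert e
    rw [← hQ]
    intro e he
    have hι : 8 ≤ Fintype.card (Fin m ⊕ Fin m) := by
      rw [Fintype.card_sum, Fintype.card_fin]; omega
    exact Or.inr (Or.inr (Or.inr (Or.inl
      ⟨Fin m ⊕ Fin m, inferInstance, inferInstance, Q, hB, hι, (otwo_model hB (by omega)).pm e he⟩)))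
  · obtain ⟨Q, hQ, hB⟩ := exists_quadForm_minus (F := ZMod 2) m (a := 1) (b := 1) (by decide)
    revert e
    rw [← hQ]
    intro e he
    have hι : Fintype.card ((Fin m ⊕ Fin m) ⊕ Fin 2) = 2 * m + 2 := by
      rw [Fintype.card_sum, Fintype.card_sum, Fintype.card_fin, Fintype.card_fin]; omega
    obtain ⟨f, C⟩ := (otwo_model hB (by omega)).pm e he
    rcases Nat.lt_or_ge m 3 with h2 | h3
    · obtain rfl : m = 2 := by omega
      obtain ⟨σ, hσ⟩ := exists_six_equiv hQ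
      exact Or.inr (Or.inr (Or.inr (Or.inr (Or.inl
        ⟨5, le_rfl, fiveQ 2, fiveQ_nondeg (by decide), _, C.reindex σ hσ⟩))))
    · exact Or.inr (Or.inr (Or.inr (Or.inl ⟨_, inferInstance, inferInstance, Q, hB, by omega, f, C⟩)))
  · have hB : Nondeg Q := fun v h => hQ.1 v h
    exact Or.inr (Or.inr (Or.inr (Or.inr (Or.inl
      ⟨n, hn, Q, hB, (po_model hB (by rw [Fintype.card_fin]; exact hn)).pm e he⟩))))
  · exact Or.inr (Or.inr (Or.inr (Or.inr (Or.inr h))))

theorem solvable_normal_bot (h : ∀ p : ℕ, p.Prime → Cfsg.pCore p G = ⊥) (N : Subgroup G) (hN : N.Normal)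
    (hs : Group.IsSolvable N) : N = ⊥ := by
  by_contra hne
  haveI := hs
  haveI : Nontrivial N := (Subgroup.nontrivial_iff_ne_bot N).2 hne
  obtain ⟨p, hp, -, hpc⟩ := HallHigman.exists_pCore_ne_bot_of_solvable N inferInstance
  haveI := Fact.mk hp
  haveI := hN
  have h1 : (Cfsg.pCore p N).map N.subtype ≤ Cfsg.pCore p G :=
    haveI : (Cfsg.pCore p N).Characteristic := PSolvable.pCore_characteristic p
    Fitting.le_pCore (PSolvable.normal_map_of_characteristic N _) ((Fitting.pCore_isPGroup p).map _)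
  rw [h p hp, le_bot_iff, Subgroup.map_eq_bot_iff_of_injective _ N.subtype_injective] at h1
  exact hpc h1

/-- The class of the symmetric group of degree five is the class of transpositions. -/
theorem five_image (hD : IsThreeTranspositionClass D) (e : G ≃* Equiv.Perm (Fin 5)) :
    e '' D = SymE 5 := by
  have key : ∀ σ : Equiv.Perm (Fin 5), σ * σ = 1 → σ ≠ 1 →
      Equiv.Perm.sign σ = 1 ∨ ∃ x y, x ≠ y ∧ σ = Equiv.swap x y := by decide +kernel
  obtain ⟨d, hd, hDd⟩ := hD.2.1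
  have hodd : Equiv.Perm.sign (e d) ≠ 1 := by
    intro h
    have hle : Subgroup.closure D ≤ ((Equiv.Perm.sign).comp e.toMonoidHom).ker := by
      rw [Subgroup.closure_le]
      intro x hx
      obtain ⟨g, rfl⟩ := class_exists_conj hD hd hx
      show Equiv.Perm.sign (e (g * d * g⁻¹)) = 1
      rw [map_mul, map_mul, map_mul, map_mul, h, mul_one, ← map_mul, ← map_mul, mul_inv_cancel, map_one,
        map_one]
    have h1 := hle (x := e.symm (Equiv.swap 0 1)) (hD.2.2 ▸ Subgroup.mem_top _)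
    have h2 : Equiv.Perm.sign (e (e.symm (Equiv.swap (0 : Fin 5) 1))) = 1 := h1
    rw [e.apply_symm_apply, Equiv.Perm.sign_swap (by decide)] at h2
    exact absurd h2 (by decide)
  obtain ⟨x, y, hxy, he⟩ := (key (e d) (by rw [← map_mul, mul_self_eq_one hD.1 hd, map_one]) (fun h =>
    ne_one_of_mem hD.1 hd (e.injective (h.trans e.map_one.symm)))).resolve_left hodd
  ext σ
  constructor
  · rintro ⟨z, hz, rfl⟩
    obtain ⟨g, rfl⟩ := class_exists_conj hD hd hz
    refine ⟨e g x, e g y, (e g).injective.ne hxy, ?_⟩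
    rw [map_mul, map_mul, map_inv, he, Equiv.swap_apply_apply]
  · rintro ⟨z, w, hzw, rfl⟩
    obtain ⟨g, hg⟩ := isConj_iff.1 (Equiv.Perm.isConj_swap hxy hzw)
    exact ⟨e.symm g * d * (e.symm g)⁻¹, class_conjClosed hD _ d hd, by
      rw [map_mul, map_mul, map_inv, e.apply_symm_apply, he, hg]⟩

theorem card_perpQuot_lt (X : Ctx D) {d : G} (hd : d ∈ D) : Nat.card (PerpQuot D d) < Nat.card G := by
  refine lt_of_le_of_lt (Nat.card_le_card_of_surjective _ (QuotientGroup.mk_surjective)) ?_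
  have hne : perpGroup D d ≠ ⊤ := fun h => ne_one_of_mem X.hS hd (Subgroup.mem_bot.1 (X.hZ ▸
    Subgroup.mem_center_iff.2 fun g => by
      have hle : perpGroup D d ≤ Subgroup.centralizer ({d} : Set G) := (Subgroup.closure_le _).2
        fun y hy => Subgroup.mem_centralizer_singleton_iff.2 hy.2.2.symm.eq
      exact Subgroup.mem_centralizer_singleton_iff.1 (hle (h ▸ Subgroup.mem_top g))))
  exact lt_of_le_of_ne (Subgroup.card_le_card_group _) fun h => hne (Subgroup.eq_top_of_card_eq _ h)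

/-- Classes with trivial cores and perfect derived subgroup have a standard shape. -/
theorem shaped_of (F : MathieuCases.{u}) : ∀ (N : ℕ) {G : Type u} [Group G] [Finite G] {D : Set G},
    Nat.card G < N → Ctx D → (∀ p : ℕ, p.Prime → Cfsg.pCore p G = ⊥) →
    ⁅commutator G, commutator G⁆ = commutator G → Shaped D := by
  intro N
  induction N with
  | zero => intro G _ _ D h; omega
  | succ N ih =>
    intro G _ _ D hN X hcore hperf
    obtain ⟨d, hd⟩ : ∃ d, d ∈ D := let ⟨a, ha, _⟩ := X.hw; ⟨a, ha⟩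
    by_cases h2 : Cfsg.pCore 2 ↥(perpGroup D d) ≤ Subgroup.center _
    swap
    · rcases (FischerO2.lines_of_core X.hD X.hprim X.hw hd h2).symp_or_unit with S | U
      · obtain ⟨m, hm, hf⟩ := symp_coords S X.hZ
        exact Or.inr (Or.inl ⟨m, hm, hf⟩)
      · obtain ⟨n, hn, hf⟩ := unit_coords U
        exact Or.inr (Or.inr (Or.inl ⟨n, hn, hf⟩))
    by_cases h3 : Cfsg.pCore 3 ↥(perpGroup D d) ≤ Subgroup.center _
    swap
    · haveI : Fact (Nat.Prime 3) := ⟨Nat.prime_three⟩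
      have hodd : ¬ Cfsg.oddCore ↥(perpGroup D d) ≤ Subgroup.center _ := fun h => h3 (le_trans (by
        refine le_sSup ⟨Fitting.pCore_normal 3, ?_⟩
        obtain ⟨k, hk⟩ := IsPGroup.iff_card.1 (Fitting.pCore_isPGroup (G := ↥(perpGroup D d)) 3)
        rw [hk]
        exact Nat.Coprime.pow_left k (by norm_num)) h)
      obtain ⟨e⟩ := Cfsg.Agent.S1615.result (solvable_normal_bot hcore) hperf X.cls d hd hodd
      exact Or.inl ⟨5, le_rfl, (sym_model 5 (by norm_num)).pm e (five_image X.cls e)⟩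
    obtain ⟨hP, hc, -, hp⟩ := X.perp_ctx hd h2 h3
    exact (dispatch F X hd hP h2 h3 (ih (by have := card_perpQuot_lt X hd; omega) hP hc hp)).shaped

/-- The classification under central cores of one neighbourhood. -/
theorem classified_of (F : MathieuCases.{u}) (X : Ctx D) {d : G} (hd : d ∈ D)
    (h2 : Cfsg.pCore 2 ↥(perpGroup D d) ≤ Subgroup.center _)
    (h3 : Cfsg.pCore 3 ↥(perpGroup D d) ≤ Subgroup.center _) : Classified D := by
  obtain ⟨hP, hc, -, hp⟩ := X.perp_ctx hd h2 h3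
  exact dispatch F X hd hP h2 h3 (shaped_of F _ (Nat.lt_succ_self _) hP hc hp)

end CfsgLib.FischerClass
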