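import Cfsg.Agent.Lib.FischerClass.Basic

/-!
In a primitive class the neighbours of a member do not fall into separate commuting pieces: a piece
containing two non-commuting members with a common neighbour leaves nothing outside it.
-/

set_option autoImplicit false
set_option linter.unusedSectionVars false

namespace CfsgLib.FischerClass

open Cfsg
open CfsgLib.ThreeTransp CfsgLib.ThreeTransp.Relations

variable {G : Type*} [Group G] [Finite G] {D : Set G}

/-- A member of `mu D d a` commuting with no other member of it. -/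
def Isolated (D : Set G) (d a e : G) : Prop :=
  e ∈ mu D d a ∧ ∀ u ∈ mu D d a, Commute e u → u = e

theorem Isolated.conj (hc : IsConjClosed D) {d a e : G} (h : Isolated D d a e) (g : G) :
    Isolated D (g * d * g⁻¹) (g * a * g⁻¹) (g * e * g⁻¹) := by
  refine ⟨(mu_conj hc g d a).2 h.1, fun u hu hcomm => ?_⟩
  have hu' : g⁻¹ * u * g ∈ mu D d a := (mu_conj hc g d a).1 (by simpa [mul_assoc] using hu)
  have := h.2 _ hu' ((commute_conjBy g _ _).1 (by simpa [mul_assoc] using hcomm))
  rw [← this]; group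

/-- A piece `U` of the neighbours of `d`, no member of which commutes with an outer one, containing
two non-commuting members with a common neighbour, is everything. -/
theorem piece_eq_all (X : Ctx D) {d : G} (hd : d ∈ D) {U : Set G} (hU : U ⊆ nbr D d)
    (hsplit : ∀ x ∈ U, ∀ y ∈ nbr D d, y ∉ U → ¬ Commute x y) {x z w : G} (hx : x ∈ U) (hz : z ∈ U)
    (hw : w ∈ U) (hxz : ¬ Commute x z) (hxw : Commute x w) (hzw : Commute z w) : U = nbr D d := by
  refine Set.Subset.antisymm hU fun y hy => by_contra fun hyU => ?_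
  have hxy := hsplit x hx y hy hyU
  have hiso : Isolated D x y d := by
    refine ⟨⟨hd, (hU hx).2.2.symm, hy.2.2.symm⟩, fun u hu hdu => by_contra fun hne => ?_⟩
    have hun : u ∈ nbr D d := ⟨hu.1, hne, hdu⟩
    by_cases huU : u ∈ U
    · exact hsplit u huU y hy hyU hu.2.2.symm
    · exact hsplit x hx u hun huU hu.2.1
  obtain ⟨g, hgx, hgy⟩ := X.pair_conj (hU hx).1 (hU hz).1 (hU hx).1 hy.1 hxz hxy
  have he : g * d * g⁻¹ ∈ mu D x y := by
    have := (mu_conj X.hc g x z (u := d)).2 ⟨hd, (hU hx).2.2.symm, (hU hz).2.2.symm⟩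
    rwa [hgx, hgy] at this
  have hwe : g * w * g⁻¹ ∈ mu D x y ∧ g * w * g⁻¹ ≠ g * d * g⁻¹ ∧
      Commute (g * d * g⁻¹) (g * w * g⁻¹) := by
    refine ⟨?_, fun e => (hU hw).2.1 (by simpa using e), (commute_conjBy g d w).2 (hU hw).2.2⟩
    have := (mu_conj X.hc g x z (u := w)).2 ⟨(hU hw).1, hxw, hzw⟩
    rwa [hgx, hgy] at this
  have hnc : ¬ Commute d (g * d * g⁻¹) := by
    intro h
    have h1 := hiso.2 _ he h
    rw [h1] at hwe
    exact hwe.2.1 (hiso.2 _ hwe.1 hwe.2.2)
  have heq := eq_conj_of_not_commute X.hS hd he.1 hnc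
  set m := d * (g * d * g⁻¹)
  have hmx : m * x * m⁻¹ = x := by
    rw [((hU hx).2.2.mul_left he.2.1.symm).eq, mul_inv_cancel_right]
  have hmy : m * y * m⁻¹ = y := by
    rw [(hy.2.2.mul_left he.2.2.symm).eq, mul_inv_cancel_right]
  have h2 := hiso.conj X.hc m
  rw [hmx, hmy, ← heq] at h2
  exact hwe.2.1 (h2.2 _ hwe.1 hwe.2.2)

end CfsgLib.FischerClass
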