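import Cfsg.Agent.Lib.FischerClass.Unique
import Cfsg.Agent.Lib.FischerClass.Frame

/-!
Coordinates on a whole class, their transfer to the neighbours of a member, and general facts on the
common neighbours of two non-commuting members seen in coordinates.
-/

set_option autoImplicit false
set_option linter.style.haveILetI false
set_option linter.unusedSectionVars false

namespace CfsgLib.FischerClass

open Cfsg
open CfsgLib.ThreeTransp CfsgLib.ThreeTransp.Relations

/-- Coordinates on a class. -/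
structure Pm {G : Type*} [Group G] (D : Set G) {P : Type*} (op : P → P → P) (f : P → G) : Prop where
  inj : Function.Injective f
  range : Set.range f = D
  conj : ∀ p q, f (op p q) = f p * f q * f p

section Pm

variable {G H : Type*} [Group G] [Group H] {D : Set G} {E : Set H} {P Q : Type*} {op : P → P → P}
  {opQ : Q → Q → Q} {f : P → G}

theorem Pm.mem (C : Pm D op f) (p : P) : f p ∈ D := C.range ▸ Set.mem_range_self p

theorem Pm.map (C : Pm D op f) (φ : G ≃* H) (h : φ '' D = E) : Pm E op (φ ∘ f) where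
  inj := φ.injective.comp C.inj
  range := by rw [Set.range_comp, C.range, h]
  conj p q := by simp only [Function.comp, C.conj, map_mul]

theorem Pm.reindex (C : Pm D op f) (σ : Q ≃ P) (hσ : ∀ p q, σ (opQ p q) = op (σ p) (σ q)) :
    Pm D opQ (f ∘ σ) where
  inj := C.inj.comp σ.injective
  range := by rw [σ.surjective.range_comp, C.range]
  conj p q := by simp only [Function.comp, hσ, C.conj]

/-- Two classes with the same coordinates are isomorphic. -/
theorem Pm.iso (hg : Subgroup.closure D = ⊤) (hg' : Subgroup.closure E = ⊤)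
    (hZ : Subgroup.center G = ⊥) (hZ' : Subgroup.center H = ⊥)
    (hsq : ∀ y ∈ D, y * y = 1) (hsq' : ∀ y ∈ E, y * y = 1)
    {f' : P → H} (C : Pm D op f) (C' : Pm E op f') :
    ∃ φ : G ≃* H, φ '' D = E ∧ ∀ p, φ (f p) = f' p := by
  set Γ := Subgroup.closure (Set.range fun p => ((f p, f' p) : G × H))
  have hrel : ∀ g ∈ Γ, ∀ p, ∃ q, g.1 * f p * g.1⁻¹ = f q ∧ g.2 * f' p * g.2⁻¹ = f' q := by
    have : (Γ : Set (G × H)) ⊆
        {g | ∀ p, ∃ q, g.1 * f p * g.1⁻¹ = f q ∧ g.2 * f' p * g.2⁻¹ = f' q} := by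
      refine closure_subset_of_mul_mem (fun p => ⟨p, by simp, by simp⟩) ?_ ?_
      · rintro g hg _ ⟨r, rfl⟩ p
        obtain ⟨q, h1, h2⟩ := hg (op r p)
        refine ⟨q, ?_, ?_⟩
        · show g.1 * f r * f p * (g.1 * f r)⁻¹ = _
          rw [← h1, C.conj, mul_inv_rev, inv_eq_of_mul_eq_one_left (hsq _ (C.mem r))]; group
        · show g.2 * f' r * f' p * (g.2 * f' r)⁻¹ = _
          rw [← h2, C'.conj, mul_inv_rev, inv_eq_of_mul_eq_one_left (hsq' _ (C'.mem r))]; group
      · rintro _ ⟨r, rfl⟩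
        exact Prod.ext (inv_eq_of_mul_eq_one_left (hsq _ (C.mem r)))
          (inv_eq_of_mul_eq_one_left (hsq' _ (C'.mem r)))
    exact this
  let π : Γ →* G := (MonoidHom.fst G H).comp Γ.subtype
  let π' : Γ →* H := (MonoidHom.snd G H).comp Γ.subtype
  have surj : Function.Surjective π ∧ Function.Surjective π' := by
    constructor <;> rw [← MonoidHom.range_eq_top, eq_top_iff]
    · rw [← hg, Subgroup.closure_le, ← C.range]
      rintro _ ⟨p, rfl⟩
      exact ⟨⟨(f p, f' p), Subgroup.subset_closure ⟨p, rfl⟩⟩, rfl⟩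
    · rw [← hg', Subgroup.closure_le, ← C'.range]
      rintro _ ⟨p, rfl⟩
      exact ⟨⟨(f p, f' p), Subgroup.subset_closure ⟨p, rfl⟩⟩, rfl⟩
  have inj : Function.Injective π ∧ Function.Injective π' := by
    constructor <;> refine (injective_iff_map_eq_one _).2 fun g h => ?_
    · have h1 : (g : G × H).1 = 1 := h
      refine Subtype.ext (Prod.ext h1 (Subgroup.mem_bot.1 ?_))
      rw [← hZ']
      refine le_center_of_forall hg' (H := Subgroup.zpowers (g : G × H).2) ?_ (Subgroup.mem_zpowers _)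
      intro x hx y hy
      obtain ⟨p, rfl⟩ : ∃ p, f' p = y := by rwa [← C'.range] at hy
      obtain ⟨q, e1, e2⟩ := hrel g g.2 p
      rw [h1, one_mul, inv_one, mul_one] at e1
      rw [← C.inj e1] at e2
      obtain ⟨i, rfl⟩ := Subgroup.mem_zpowers_iff.1 hx
      exact (Commute.zpow_left (mul_inv_eq_iff_eq_mul.1 e2) i).symm
    · have h1 : (g : G × H).2 = 1 := h
      refine Subtype.ext (Prod.ext (Subgroup.mem_bot.1 ?_) h1)
      rw [← hZ]
      refine le_center_of_forall hg (H := Subgroup.zpowers (g : G × H).1) ?_ (Subgroup.mem_zpowers _)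
      intro x hx y hy
      obtain ⟨p, rfl⟩ : ∃ p, f p = y := by rwa [← C.range] at hy
      obtain ⟨q, e1, e2⟩ := hrel g g.2 p
      rw [h1, one_mul, inv_one, mul_one] at e2
      rw [← C'.inj e2] at e1
      obtain ⟨i, rfl⟩ := Subgroup.mem_zpowers_iff.1 hx
      exact (Commute.zpow_left (mul_inv_eq_iff_eq_mul.1 e1) i).symm
  let e1 := MulEquiv.ofBijective π ⟨inj.1, surj.1⟩
  let e2 := MulEquiv.ofBijective π' ⟨inj.2, surj.2⟩
  have hp : ∀ p, (e1.symm.trans e2) (f p) = f' p := fun p => by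
    rw [MulEquiv.trans_apply, show e1.symm (f p) = ⟨(f p, f' p), Subgroup.subset_closure ⟨p, rfl⟩⟩ from
      e1.symm_apply_eq.2 rfl]
    rfl
  refine ⟨e1.symm.trans e2, ?_, hp⟩
  rw [← C.range, ← C'.range, ← Set.range_comp]
  exact congrArg Set.range (funext hp)

end Pm

variable {G : Type*} [Group G] [Finite G] {D : Set G} {P : Type*} {op : P → P → P} (X : Ctx D)
include X

/-- Coordinates on the perp image give coordinates on the neighbours. -/
theorem Ctx.exists_co {d : G} (hd : d ∈ D) {f : P → PerpQuot D d} (C : Pm (perpImage D d) op f) :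
    ∃ g : P → G, Co D d op g := by
  have h : ∀ p, ∃ y : ↥(perpGroup D d), (y : G) ∈ nbr D d ∧ proj D d y = f p := fun p => by
    obtain ⟨y, hy, e⟩ := C.mem p
    exact ⟨y, hy, e⟩
  choose g hg hgf using h
  refine ⟨fun p => g p, ⟨fun p q e => C.inj ?_, ?_, fun p q => ?_⟩⟩
  · rw [← hgf, ← hgf, Subtype.ext e]
  · ext y
    refine ⟨?_, fun hy => ?_⟩
    · rintro ⟨p, rfl⟩; exact hg p
    · have hy' : proj D d ⟨y, Subgroup.subset_closure hy⟩ ∈ perpImage D d :=
        ⟨⟨y, Subgroup.subset_closure hy⟩, hy, rfl⟩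
      obtain ⟨p, hp⟩ : ∃ p, f p = proj D d ⟨y, Subgroup.subset_closure hy⟩ := by
        rwa [← C.range] at hy'
      refine ⟨p, ?_⟩
      exact congrArg Subtype.val (proj_injective X.cls X.hsep hd (hg p)
        (z := ⟨y, Subgroup.subset_closure hy⟩) hy ((hgf p).trans hp))
  · show _ = ((g p * g q * g p : ↥(perpGroup D d)) : G)
    refine congrArg Subtype.val (proj_injective X.cls X.hsep hd (hg _) ?_ ?_)
    · have h := conj_mem_nbr X.hc (g := (g p : G)) (hg p).2.2.symm (hg q)
      rw [inv_eq_self X.hS (hg p).1] at h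
      exact h
    · rw [hgf, C.conj, map_mul, map_mul, hgf, hgf]

variable {d a : G} {f : P → G}

/-- Non-commuting members have common neighbours. -/
theorem Ctx.sc_nonempty (C : Co D d op f) (hd : d ∈ D) (ha : a ∈ D) (hda : ¬ Commute d a) :
    ∃ p, p ∈ Sc f a := by
  obtain ⟨y, hy⟩ := X.nbr_nonempty hd
  obtain ⟨u, hu, hyu⟩ := exists_not_commute_nbr X.cls X.hsep hd hy
  obtain ⟨g, hg1, hg2⟩ := X.pair_conj hy.1 hu.1 hd ha hyu hda
  have hm := (mu_conj X.hc g y u (u := d)).2 ⟨hd, hy.2.2.symm, hu.2.2.symm⟩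
  rw [hg1, hg2] at hm
  have hne : g * d * g⁻¹ ≠ d := fun e => hda (e ▸ hm.2.2).symm
  obtain ⟨p, hp⟩ := C.exists_pt ⟨hm.1, hne, hm.2.1⟩
  exact ⟨p, by show Commute a (f p); rw [hp]; exact hm.2.2⟩

/-- The common neighbours are closed. -/
theorem Ctx.sc_closed (C : Co D d op f) {p q : P} (hp : p ∈ Sc f a) :
    op p q ∈ Sc f a ↔ q ∈ Sc f a := by
  show Commute a (f (op p q)) ↔ Commute a (f q)
  rw [C.conj]
  conv_lhs => rw [← conj_eq_of_commute X.hS (C.mem p).1 (hp : Commute a (f p)).symm]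
  exact commute_conj_iff X.hS (C.mem p).1 _ _

/-- The outer member may be moved so that a given point becomes a common neighbour. -/
theorem Ctx.exists_at (C : Co D d op f) (hd : d ∈ D) (ha : a ∈ D) (hda : ¬ Commute d a) (e : P) :
    ∃ b ∈ D, ¬ Commute d b ∧ e ∈ Sc f b := by
  obtain ⟨p, hp⟩ := X.sc_nonempty C hd ha hda
  obtain ⟨g, hg, he⟩ := transitive_commute X.hD X.hprim X.hw hd (C.mem p).1 (C.mem e).1
    (C.mem p).2.1 (C.mem e).2.1 (C.mem p).2.2 (C.mem e).2.2
  have hgd : Commute g d := Subgroup.mem_centralizer_singleton_iff.1 ((Subgroup.closure_le _).2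
    (fun y hy => Subgroup.mem_centralizer_singleton_iff.2 hy.2.2.symm.eq) hg)
  refine ⟨g * a * g⁻¹, X.hc g a ha, fun h => hda ?_, ?_⟩
  · exact (commute_conjBy g d a).1 (by rwa [hgd.eq, mul_inv_cancel_right])
  · show Commute _ (f e)
    rw [← he]
    exact (commute_conjBy g a (f p)).2 hp

omit X in
/-- The action of a word in the points. -/
def act (op : P → P → P) (w : List P) (p : P) : P := w.foldr op p

theorem Co.act_eq (C : Co D d op f) : ∀ (w : List P), ∃ g : G, Commute g d ∧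
    ∀ p, g * f p * g⁻¹ = f (act op w p)
  | [] => ⟨1, Commute.one_left _, fun p => by simp [act]⟩
  | r :: w => by
    obtain ⟨g, hgd, hg⟩ := Co.act_eq C w
    refine ⟨f r * g, (C.mem r).2.2.symm.mul_left hgd, fun p => ?_⟩
    rw [show act op (r :: w) p = op r (act op w p) from rfl, C.conj, ← hg, mul_inv_rev,
      inv_eq_self X.hS (C.mem r).1]
    group

theorem Co.act_inj (C : Co D d op f) (w : List P) : Function.Injective (act op w) := by
  obtain ⟨g, -, hg⟩ := C.act_eq X w
  intro p q h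
  refine C.inj (mul_left_cancel (mul_right_cancel (b := g⁻¹) ((hg p).trans ?_)))
  rw [h, ← hg q]

theorem Co.act_com (C : Co D d op f) (w : List P) (p q : P) :
    op (act op w p) (act op w q) = act op w q ↔ op p q = q := by
  obtain ⟨g, -, hg⟩ := C.act_eq X w
  rw [← C.com_iff X.hS, ← C.com_iff X.hS, ← hg, ← hg]
  exact commute_conjBy g _ _

/-- A word fixing a common neighbour and the common neighbours next to it preserves all of them. -/
theorem Ctx.sc_invariant (hfib : ∀ A B B', Adj op A B → Adj op A B' →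
      (∀ r ∈ Nb op A, (op B r = r ↔ op B' r = r)) → B' = B ∨ B' = op A B) (C : Co D d op f) (hd : d ∈ D) (ha : a ∈ D)
    (hda : ¬ Commute d a) {e : P} (he : e ∈ Sc f a) {w : List P} (hwe : act op w e = e)
    (hsec : ∀ u ∈ Nb op e, u ∈ Sc f a → act op w u ∈ Sc f a) :
    ∀ u ∈ Sc f a, act op w u ∈ Sc f a := by
  obtain ⟨g, hgd, hg⟩ := C.act_eq X w
  haveI : Finite P := Finite.of_injective f C.inj
  obtain ⟨V⟩ := exists_view X.base C hd ha hda he
  set b := g * a * g⁻¹
  have hScb : ∀ u, act op w u ∈ Sc f b ↔ u ∈ Sc f a := fun u => by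
    show Commute b (f _) ↔ _
    rw [← hg]; exact commute_conjBy g a (f u)
  have heb : e ∈ Sc f b := hwe ▸ (hScb e).2 he
  have hb : b ∈ D := X.hc g a ha
  have hdb : ¬ Commute d b := fun h => hda ((commute_conjBy g d a).1 (by
    rwa [hgd.eq, mul_inv_cancel_right]))
  have hbe : b ∈ nbr D (f e) := ⟨hb, fun h => hdb (by rw [h]; exact (C.mem e).2.2),
    (heb : Commute b (f e)).symm⟩
  obtain ⟨B', hB'⟩ := V.co.exists_pt hbe
  -- the word permutes the common neighbours next to the point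
  have hback : ∀ v ∈ Nb op e, v ∈ Sc f a → ∃ u, u ∈ Sc f a ∧ act op w u = v := by
    let T : Set P := {u | u ∈ Nb op e ∧ u ∈ Sc f a}
    let h : T → T := fun u => ⟨act op w u, ⟨fun h' => u.2.1.1 (C.act_inj X w (h'.trans hwe.symm)),
      by rw [← hwe]; exact (C.act_com X w e u).2 u.2.1.2⟩, hsec u u.2.1 u.2.2⟩
    have hi : Function.Injective h := fun u v e' =>
      Subtype.ext (C.act_inj X w (congrArg Subtype.val e'))
    intro v hv hvS
    obtain ⟨u, hu⟩ := Finite.surjective_of_injective hi ⟨v, hv, hvS⟩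
    exact ⟨u, u.2.2, congrArg Subtype.val hu⟩
  have key : ∀ r ∈ Nb op V.A, (op V.B r = r ↔ op B' r = r) := by
    intro r hr
    rw [← V.mem_iff X.hS hr]
    have h2 : op B' r = r ↔ V.τ r ∈ Sc f b := by
      rw [← V.co.com_iff X.hS B' r, hB', V.fe_eq r hr]
      exact Iff.rfl
    rw [h2]
    have hn := V.bij.mapsTo hr
    constructor
    · intro h
      obtain ⟨u, hu, e'⟩ := hback _ hn h
      rw [← e']; exact (hScb u).2 hu
    · intro h
      obtain ⟨u, e'⟩ := Finite.surjective_of_injective (C.act_inj X w) (V.τ r)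
      rw [← e'] at h hn ⊢
      refine hsec u ⟨fun he' => hn.1 (by rw [he', hwe]), (C.act_com X w e u).1 ?_⟩ ((hScb u).1 h)
      rw [hwe]; exact hn.2
  have h1 : Adj op V.A V.B := V.noncomm
  have h2 : Adj op V.A B' := fun h => hdb (by
    rw [← V.feA, ← hB']; exact (V.co.com_iff X.hS _ _).2 h)
  have hScab : Sc f b = Sc f a := by
    rcases hfib _ _ _ h1 h2 key with h | h
    · rw [h, V.feB] at hB'
      rw [← hB']
    · rw [h, V.co.conj, V.feA, V.feB] at hB'
      rw [← hB']
      ext p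
      show Commute _ _ ↔ Commute _ _
      have := commute_conj_iff X.hS hd a (f p)
      rwa [conj_eq_of_commute X.hS hd (C.mem p).2.2] at this
  intro u hu
  rw [← hScab]
  exact (hScb u).2 hu

/-- The neighbours of a common neighbour among the common neighbours, described by a view. -/
theorem View.section_iff {e : P} (V : View D op f d a e) {q : P}
    (hq : q ∈ Nb op e) : q ∈ Sc f a ↔ ∃ r ∈ Nb op V.A, V.τ r = q ∧ op V.B r = r := by
  constructor
  · intro h
    obtain ⟨r, hr, rfl⟩ := V.bij.surjOn hq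
    exact ⟨r, hr, rfl, (V.mem_iff X.hS hr).1 h⟩
  · rintro ⟨r, hr, rfl, h⟩
    exact (V.mem_iff X.hS hr).2 h

omit X in
/-- Automorphisms fixing the two outer points extend the maps between their neighbourhoods. -/
def Extends (op : P → P → P) : Prop :=
  ∀ A B A' B', Adj op A B → Adj op A' B' → ∀ α : P → P, Set.BijOn α (Nb op A) (Nb op A') →
    (∀ r ∈ Nb op A, ∀ s ∈ Nb op A, α (op r s) = op (α r) (α s)) →
    (∀ r ∈ Nb op A, (op B r = r ↔ op B' (α r) = α r)) →
    ∃ σ : P ≃ P, (∀ p q, σ (op p q) = op (σ p) (σ q)) ∧ σ A = A' ∧ σ B = B' ∧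
      ∀ r ∈ Nb op A, σ r = α r

/-- The same coordinates and common neighbours give a match. -/
theorem Ctx.exists_match {H : Type*} [Group H] [Finite H] {E : Set H} (Y : Base E) (S : Space op)
    (hext : Extends op) (hd : d ∈ D) (ha : a ∈ D) (hda : ¬ Commute d a) (C : Co D d op f)
    {d' a' : H} {f' : P → H} (hd' : d' ∈ E) (ha' : a' ∈ E) (hda' : ¬ Commute d' a')
    (C' : Co E d' op f') (hSc : Sc f a = Sc f' a') {e : P} (he : e ∈ Sc f a)
    (conn : ∀ p ∈ Sc f a, Relation.ReflTransGen (Link op (Sc f a)) p e)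
    (witness : ∀ v ∈ E, ¬ Commute d' v → v = a' ∨ v = d' * a' * d' ∨ (∃ p, v = f' p * a' * f' p) ∨
      ∃ p t, v = f' t * (f' p * a' * f' p) * f' t) :
    ∃ φ : G ≃* H, φ '' D = E := by
  obtain ⟨V⟩ := exists_view X.base C hd ha hda he
  obtain ⟨V'⟩ := exists_view Y C' hd' ha' hda' (hSc ▸ he)
  classical
  have hα : ∀ r, ∃ r', r ∈ Nb op V.A → r' ∈ Nb op V'.A ∧ V'.τ r' = V.τ r := fun r => by
    by_cases hr : r ∈ Nb op V.A
    · obtain ⟨r', h1, h2⟩ := V'.bij.surjOn (V.bij.mapsTo hr)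
      exact ⟨r', fun _ => ⟨h1, h2⟩⟩
    · exact ⟨r, fun h => absurd h hr⟩
  choose α hα using hα
  have hbij : Set.BijOn α (Nb op V.A) (Nb op V'.A) := by
    refine ⟨fun r hr => (hα r hr).1, fun r hr s hs h => V.bij.injOn hr hs ?_, fun r' hr' => ?_⟩
    · rw [← (hα r hr).2, ← (hα s hs).2, h]
    · obtain ⟨r, hr, hrr⟩ := V.bij.surjOn (V'.bij.mapsTo hr')
      exact ⟨r, hr, V'.bij.injOn (hα r hr).1 hr' ((hα r hr).2.trans hrr)⟩
  have hop : ∀ r ∈ Nb op V.A, ∀ s ∈ Nb op V.A, α (op r s) = op (α r) (α s) := by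
    intro r hr s hs
    obtain ⟨hrs, h1⟩ := V.τ_op X.hS C hr hs
    obtain ⟨hrs', h2⟩ := V'.τ_op Y.hS C' (hα r hr).1 (hα s hs).1
    refine V'.bij.injOn (hα _ hrs).1 hrs' ?_
    rw [(hα _ hrs).2, h2, (hα r hr).2, (hα s hs).2, h1]
  have hsec : ∀ r ∈ Nb op V.A, (op V.B r = r ↔ op V'.B (α r) = α r) := fun r hr => by
    rw [← V.mem_iff X.hS hr, ← V'.mem_iff Y.hS (hα r hr).1, (hα r hr).2, hSc]
  obtain ⟨σ, hσ, hA, hB, hr⟩ := hext _ _ _ _ V.noncomm V'.noncomm α hbij hop hsec
  exact Match.iso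
    { d := d, a := a, d' := d', a' := a', f := f, f' := f', e := e, fe := V.fe, fe' := V'.fe ∘ σ,
      A := V.A, B := V.B, X := X, Y := Y, S := S, hd := hd, ha := ha, hd' := hd', ha' := ha',
      hda := hda, hda' := hda', C := C, C' := C', hSc := hSc, he := he, conn := conn,
      Ce := V.co, Ce' := V'.co.reindex σ hσ, feA := V.feA,
      feA' := by rw [Function.comp, hA, V'.feA], feB := V.feB,
      feB' := by rw [Function.comp, hB, V'.feB],
      compat := fun r h => ⟨V.τ r, V.fe_eq r h, by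
        rw [Function.comp, hr r h, V'.fe_eq _ (hα r h).1, (hα r h).2]⟩,
      witness := witness }

end CfsgLib.FischerClass
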