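import Mathlib

/-!
A strongly regular graph whose non-principal eigenvalues are irrational.
-/

set_option autoImplicit false

namespace CfsgLib.FischerClass

open Matrix

variable {V : Type*} [Fintype V] [DecidableEq V] {Γ : SimpleGraph V} [DecidableRel Γ.Adj] {n k l m : ℕ}

/-- With a non-square discriminant the multiplicities agree, so the trace of the centred adjacency
matrix vanishes. -/
theorem srg_trace (h : Γ.IsSRGWith n k l m) (hn : 0 < n)
    (hsq : ∀ q : ℚ, q ^ 2 ≠ ((l : ℚ) - m) ^ 2 + 4 * ((k : ℚ) - m)) :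
    2 * (k : ℝ) + ((n : ℝ) - 1) * ((l : ℝ) - m) = 0 := by
  classical
  set A : Matrix V V ℝ := Γ.adjMatrix ℝ
  set J : Matrix V V ℝ := Matrix.of fun _ _ => 1
  set a : ℝ := (l : ℝ) - m
  set Δ : ℝ := a ^ 2 + 4 * ((k : ℝ) - m)
  have hA2 : A * A = (k : ℝ) • (1 : Matrix V V ℝ) + (l : ℝ) • A + (m : ℝ) • (J - 1 - A) := by
    have := h.matrix_eq (α := ℝ)
    rw [pow_two] at this
    rw [this]
    have hc : Γᶜ.adjMatrix ℝ = J - 1 - A := by
      ext i j
      rcases eq_or_ne i j with rfl | hij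
      · simp [A, J]
      · by_cases hadj : Γ.Adj i j <;> simp [A, J, hij, hadj]
    rw [hc]
    simp [Nat.cast_smul_eq_nsmul, A]
  have hAJ : A * J = (k : ℝ) • J := by
    ext i j
    have hdeg : ({x | Γ.Adj i x} : Finset V).card = k := by
      rw [← h.regular i, ← SimpleGraph.card_neighborFinset_eq_degree, SimpleGraph.neighborFinset_eq_filter]
    simp [A, J, Matrix.mul_apply, hdeg]
  have hJA : J * A = (k : ℝ) • J := by
    have e := congrArg Matrix.transpose hAJ
    have hJT : Jᵀ = J := rfl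
    rwa [Matrix.transpose_mul, Matrix.transpose_smul, hJT, Γ.transpose_adjMatrix] at e
  have hJJ : J * J = (n : ℝ) • J := by
    ext i j
    simp [J, Matrix.mul_apply, h.card]
  have hn' : (n : ℝ) ≠ 0 := Nat.cast_ne_zero.2 hn.ne'
  set I' : Matrix V V ℝ := 1 - (n : ℝ)⁻¹ • J with hI'
  set M : Matrix V V ℝ := ((2 : ℝ) • A - a • 1) * I' with hM
  have hII : I' * I' = I' := by
    rw [hI']
    simp only [sub_mul, mul_sub, one_mul, mul_one, Matrix.smul_mul, Matrix.mul_smul, hJJ, smul_smul]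
    rw [show (n : ℝ)⁻¹ * ((n : ℝ)⁻¹ * n) = (n : ℝ)⁻¹ by field_simp]
    abel
  have hcomm : I' * A = A * I' := by
    simp [hI', sub_mul, mul_sub, Matrix.smul_mul, Matrix.mul_smul, hAJ, hJA]
  have hJI : J * I' = 0 := by
    rw [hI']
    simp [mul_sub, Matrix.mul_smul, hJJ, smul_smul, hn']
  have hM2 : M * M = Δ • I' := by
    have h1 : M * M = ((2 : ℝ) • A - a • 1) * ((2 : ℝ) • A - a • 1) * I' := by
      have : I' * ((2 : ℝ) • A - a • 1) = ((2 : ℝ) • A - a • 1) * I' := by
        simp [mul_sub, sub_mul, Matrix.mul_smul, Matrix.smul_mul, hcomm]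
      calc M * M = ((2 : ℝ) • A - a • 1) * (I' * ((2 : ℝ) • A - a • 1)) * I' := by rw [hM]; noncomm_ring
        _ = ((2 : ℝ) • A - a • 1) * ((2 : ℝ) • A - a • 1) * (I' * I') := by rw [this]; noncomm_ring
        _ = _ := by rw [hII]
    have h2 : ((2 : ℝ) • A - a • 1) * ((2 : ℝ) • A - a • 1) =
        Δ • (1 : Matrix V V ℝ) + (4 * (m : ℝ)) • J := by
      simp only [sub_mul, mul_sub, Matrix.smul_mul, Matrix.mul_smul, one_mul, mul_one, hA2]
      simp only [Δ, a]
      module
    rw [h1, h2, add_mul, Matrix.smul_mul, Matrix.smul_mul, one_mul, hJI, smul_zero, add_zero]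
  have hherm : M.IsHermitian := by
    show Mᴴ = M
    rw [Matrix.conjTranspose_eq_transpose_of_trivial, hM, Matrix.transpose_mul]
    have h1 : I'.transpose = I' := by
      ext i j
      simp [hI', J, Matrix.one_apply, eq_comm]
    have h2 : ((2 : ℝ) • A - a • 1).transpose = (2 : ℝ) • A - a • 1 := by
      simp [A, Γ.transpose_adjMatrix]
    rw [h1, h2]
    simp [mul_sub, sub_mul, Matrix.mul_smul, Matrix.smul_mul, hcomm]
  have hM3 : M * M * M = Δ • M := by
    have : I' * M = M := by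
      rw [hM, ← mul_assoc]
      have : I' * ((2 : ℝ) • A - a • 1) = ((2 : ℝ) • A - a • 1) * I' := by
        simp [mul_sub, sub_mul, Matrix.mul_smul, Matrix.smul_mul, hcomm]
      rw [this, mul_assoc, hII]
    rw [hM2, Matrix.smul_mul, this]
  have hev : ∀ i, hherm.eigenvalues i * hherm.eigenvalues i * hherm.eigenvalues i =
      Δ * hherm.eigenvalues i := by
    intro i
    set v : V → ℝ := ⇑(hherm.eigenvectorBasis i)
    have hv : M *ᵥ v = hherm.eigenvalues i • v := hherm.mulVec_eigenvectorBasis i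
    have h0 : v ≠ 0 := fun e => hherm.eigenvectorBasis.orthonormal.ne_zero i (by
      ext x; exact congrFun e x)
    have e1 : (M * M * M) *ᵥ v = (hherm.eigenvalues i * hherm.eigenvalues i * hherm.eigenvalues i) • v := by
      rw [← Matrix.mulVec_mulVec, ← Matrix.mulVec_mulVec, hv, Matrix.mulVec_smul, hv,
        Matrix.mulVec_smul, Matrix.mulVec_smul, hv, smul_smul, smul_smul]
    rw [hM3, Matrix.smul_mulVec, hv, smul_smul] at e1
    exact (smul_left_injective ℝ h0 e1).symm
  have htr : M.trace = -(2 * (k : ℝ) + ((n : ℝ) - 1) * a) := by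
    have hI : Matrix.trace (1 : Matrix V V ℝ) = n := by rw [Matrix.trace_one, h.card]
    have hJt : Matrix.trace J = n := by simp [Matrix.trace, J, h.card]
    have hAt : Matrix.trace A = 0 := Γ.trace_adjMatrix ℝ
    rw [hM, hI']
    simp only [sub_mul, mul_sub, Matrix.smul_mul, Matrix.mul_smul, one_mul, mul_one, hAJ,
      Matrix.trace_sub, Matrix.trace_smul, hI, hJt, hAt, smul_eq_mul]
    field_simp
    ring
  have hsum : M.trace = ∑ i, hherm.eigenvalues i := by
    simpa using hherm.trace_eq_sum_eigenvalues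
  obtain ⟨j, hj⟩ : ∃ j : ℤ, ∑ i, hherm.eigenvalues i = j * Real.sqrt Δ := by
    have hone : ∀ i, ∃ j : ℤ, hherm.eigenvalues i = j * Real.sqrt Δ := by
      intro i
      rcases eq_or_ne (hherm.eigenvalues i) 0 with h0 | h0
      · exact ⟨0, by simp [h0]⟩
      · have h2 : hherm.eigenvalues i * hherm.eigenvalues i = Δ := mul_right_cancel₀ h0 (hev i)
        rcases le_total 0 (hherm.eigenvalues i) with hp | hp
        · exact ⟨1, by rw [← h2, Real.sqrt_mul_self hp]; simp⟩
        · refine ⟨-1, ?_⟩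
          rw [← h2, show hherm.eigenvalues i * hherm.eigenvalues i =
            (-hherm.eigenvalues i) * (-hherm.eigenvalues i) by ring, Real.sqrt_mul_self (neg_nonneg.2 hp)]
          simp
    choose j hj using hone
    exact ⟨∑ i, j i, by simp [hj, Finset.sum_mul]⟩
  rw [hsum, hj] at htr
  by_contra hne
  have hj0 : (j : ℝ) ≠ 0 := fun e => hne (by rw [e] at htr; linarith)
  have hq : Real.sqrt Δ = (((-(2 * (k : ℚ) + ((n : ℚ) - 1) * ((l : ℚ) - m)) / j : ℚ)) : ℝ) := by
    push_cast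
    rw [eq_div_iff hj0]
    linarith
  have hΔ0 : 0 ≤ Δ := by
    by_contra hneg
    rw [Real.sqrt_eq_zero'.2 (le_of_lt (not_le.1 hneg)), mul_zero] at htr
    exact hne (by linarith)
  refine hsq (-(2 * (k : ℚ) + ((n : ℚ) - 1) * ((l : ℚ) - m)) / j) ?_
  have h2 := Real.sq_sqrt hΔ0
  rw [hq] at h2
  have h3 : (((-(2 * (k : ℚ) + ((n : ℚ) - 1) * ((l : ℚ) - m)) / j) ^ 2 : ℚ) : ℝ) =
      ((((l : ℚ) - m) ^ 2 + 4 * ((k : ℚ) - m) : ℚ) : ℝ) := by
    push_cast
    simpa [Δ, a] using h2
  exact_mod_cast h3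

end CfsgLib.FischerClass
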