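import Cfsg.Agent.Lib.FischerClass.Coords
import Cfsg.Agent.Lib.FischerClass.Srg

/-!
The commuting graph of a class with coordinates at a member is strongly regular.
-/

set_option autoImplicit false
set_option linter.style.haveILetI false
set_option linter.unusedSectionVars false

namespace CfsgLib.FischerClass

open Cfsg
open CfsgLib.ThreeTransp CfsgLib.ThreeTransp.Relations

attribute [local instance] _root_.Classical.propDecidable

variable {G : Type*} [Group G] [Finite G] {D : Set G} {P : Type*} {op : P → P → P} {f : P → G} {d a : G}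

/-- With an irrational eigenvalue the pair parameters satisfy the trace equation. -/
theorem Ctx.no_irrational (X : Ctx D) (C : Co D d op f) (hd : d ∈ D) (ha : a ∈ D) (hda : ¬ Commute d a)
    {k l m : ℕ} (hk : Nat.card P = k) (hl : ∀ p, (Nb op p).ncard = l) (hm : (Sc f a).ncard = m)
    (hsq : ∀ q : ℚ, q ^ 2 ≠ ((l : ℚ) - m) ^ 2 + 4 * ((k : ℚ) - m)) :
    2 * (k : ℝ) + ((Nat.card D : ℝ) - 1) * ((l : ℝ) - m) = 0 := by
  haveI : Fintype D := Fintype.ofFinite _
  haveI : Finite P := Finite.of_injective f C.inj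
  let Γ : SimpleGraph D :=
    { Adj := fun x y => x ≠ y ∧ Commute (x : G) y
      symm := ⟨fun _ _ h => ⟨h.1.symm, h.2.symm⟩⟩
      loopless := ⟨fun _ h => h.1 rfl⟩ }
  have hset : ∀ p, (Set.range f ∩ nbr D (f p)) = f '' Nb op p := fun p => by
    ext y
    constructor
    · rintro ⟨⟨q, rfl⟩, h⟩; exact ⟨q, (C.nb_iff X.hS p q).2 h, rfl⟩
    · rintro ⟨q, hq, rfl⟩; exact ⟨⟨q, rfl⟩, (C.nb_iff X.hS p q).1 hq⟩
  have hcj : ∀ (g : G) (A : Set G), ((fun z => g * z * g⁻¹) '' A).ncard = A.ncard := fun g A =>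
    Set.ncard_image_of_injective _ fun u v h => mul_left_cancel (mul_right_cancel h)
  have hdeg : ∀ x ∈ D, (nbr D x).ncard = k := fun x hx => by
    obtain ⟨g, rfl⟩ := X.exists_conj hd hx
    rw [← image_nbr X.hc d g, hcj, ← C.range, ← hk, Set.ncard_range_of_injective C.inj]
  have hlam : ∀ x ∈ D, ∀ y ∈ nbr D x, (nbr D x ∩ nbr D y).ncard = l := by
    intro x hx y hy
    obtain ⟨g, rfl⟩ := X.exists_conj hd hx
    rw [← image_nbr X.hc d g] at hy
    obtain ⟨_, hz, rfl⟩ := hy
    obtain ⟨p, rfl⟩ := C.exists_pt hz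
    rw [← image_nbr X.hc d g, ← image_nbr X.hc (f p) g,
      ← Set.image_inter (fun u v h => mul_left_cancel (mul_right_cancel h)), hcj, ← C.range, hset,
      Set.ncard_image_of_injective _ C.inj, hl]
  have hmu : ∀ x ∈ D, ∀ y ∈ D, ¬ Commute x y → (nbr D x ∩ nbr D y).ncard = m := by
    intro x hx y hy hxy
    obtain ⟨g, rfl, rfl⟩ := X.pair_conj hd ha hx hy hda hxy
    rw [← image_nbr X.hc d g, ← image_nbr X.hc a g,
      ← Set.image_inter (fun u v h => mul_left_cancel (mul_right_cancel h)), hcj, ← C.range,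
      show Set.range f ∩ nbr D a = f '' Sc f a from ?_, Set.ncard_image_of_injective _ C.inj, hm]
    ext z
    constructor
    · rintro ⟨⟨q, rfl⟩, h⟩; exact ⟨q, h.2.2, rfl⟩
    · rintro ⟨q, hq, rfl⟩
      exact ⟨⟨q, rfl⟩, (C.mem q).1, fun e => hda (e ▸ (C.mem q).2.2), hq⟩
  have himg : ∀ s : Finset D, s.card = (Subtype.val '' (s : Set D)).ncard := fun s => by
    rw [Set.ncard_image_of_injective _ Subtype.val_injective, Set.ncard_coe_finset]
  have hsrg : Γ.IsSRGWith (Nat.card D) k l m := by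
    have hcn : ∀ x y : D, Fintype.card (Γ.commonNeighbors x y) = (nbr D (x : G) ∩ nbr D y).ncard := by
      intro x y
      rw [← Nat.card_eq_fintype_card, Nat.card_coe_set_eq,
        ← Set.ncard_image_of_injective _ Subtype.val_injective]
      congr 1
      ext z
      constructor
      · rintro ⟨w, ⟨h1, h2⟩, rfl⟩
        exact ⟨⟨w.2, fun e => h1.1 (Subtype.ext e.symm), h1.2⟩, w.2, fun e => h2.1 (Subtype.ext e.symm), h2.2⟩
      · rintro ⟨h1, h2⟩
        exact ⟨⟨z, h1.1⟩, ⟨⟨fun e => h1.2.1 (congrArg Subtype.val e).symm, h1.2.2⟩,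
          fun e => h2.2.1 (congrArg Subtype.val e).symm, h2.2.2⟩, rfl⟩
    refine ⟨Nat.card_eq_fintype_card.symm, fun x => ?_, fun x y h => ?_, fun x y hne h => ?_⟩
    · rw [← SimpleGraph.card_neighborFinset_eq_degree, himg, ← hdeg x x.2]
      congr 1
      ext z
      constructor
      · rintro ⟨w, hw, rfl⟩
        rw [Finset.mem_coe, SimpleGraph.mem_neighborFinset] at hw
        exact ⟨w.2, fun e => hw.1 (Subtype.ext e.symm), hw.2⟩
      · intro h
        refine ⟨⟨z, h.1⟩, ?_, rfl⟩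
        rw [Finset.mem_coe, SimpleGraph.mem_neighborFinset]
        exact ⟨fun e => h.2.1 (congrArg Subtype.val e).symm, h.2.2⟩
    · rw [hcn]; exact hlam x x.2 y ⟨y.2, fun e => h.1 (Subtype.ext e.symm), h.2⟩
    · rw [hcn]; exact hmu x x.2 y y.2 fun hc => h ⟨hne, hc⟩
  haveI : Nonempty D := ⟨⟨d, hd⟩⟩
  exact srg_trace hsrg Nat.card_pos hsq

end CfsgLib.FischerClass
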