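import Cfsg.Agent.Lib.M24.Setting
import Cfsg.Agent.Lib.M24.Pairs
import Cfsg.Agent.Lib.FischerClass.Degree

/-!
The perp of a non-commuting pair over a perp quotient Fi23, without a hypothesis on the pair group.
-/

set_option autoImplicit false
set_option linter.style.longLine false

namespace CfsgLib.M24.Weak

open Cfsg CfsgLib.ThreeTransp CfsgLib.ThreeTransp.Relations CfsgLib.CosetEnum CfsgLib.Fi23Pres Cfsg.Spor

/-- A non-commuting pair, the perp group of the first identified with Fi23. -/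
structure Pre (G : Type*) [Group G] [Finite G] (D : Set G) where
  hD : IsThreeTranspositionGroup D
  hprim : IsPrimitiveUnderConj D
  hZ : Subgroup.center G = ⊥
  hsep : Sep D
  hw : ∃ a ∈ D, ∃ b ∈ D, a ≠ b ∧ Commute a b
  /-- the first member -/
  d : G
  /-- the second member -/
  c : G
  hd : d ∈ D
  hc : c ∈ D
  hdc : ¬ Commute d c
  /-- the identification -/
  e : Fi23 ≃* PerpQuot D d
  he : e '' transClass = perpImage D d

namespace Pre

variable {G : Type*} [Group G] [Finite G] {D : Set G} (P : Pre G D)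

theorem hDc (P : Pre G D) : IsThreeTranspositionClass D := (class_of_primitive P.hD P.hprim).1

/-- the map onto Fi23 -/
noncomputable def π : ↥(perpGroup D P.d) →* Fi23 := P.e.symm.toMonoidHom.comp (proj D P.d)

theorem π_surjective : Function.Surjective P.π :=
  P.e.symm.surjective.comp (QuotientGroup.mk'_surjective _)

theorem π_eq_one {y : ↥(perpGroup D P.d)} (h : P.π y = 1) {u : G} (hu : u ∈ nbr D P.d) :
    Commute u (y : G) :=
  commute_of_proj_eq_one (P.e.symm.injective (h.trans (map_one _).symm)) hu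

theorem exists_lift (x : Pt) : ∃ y : ↥(perpGroup D P.d), (y : G) ∈ nbr D P.d ∧ P.π y = tp x := by
  have h : P.e (tp x) ∈ perpImage D P.d := P.he ▸ Set.mem_image_of_mem _ (tp_mem x)
  obtain ⟨y, hy, e⟩ := h
  exact ⟨y, hy, by rw [π, MonoidHom.comp_apply]; exact (congrArg P.e.symm e).trans (P.e.symm_apply_apply _)⟩

/-- the member over a point, in the perp group -/
noncomputable def liftH (x : Pt) : ↥(perpGroup D P.d) := (P.exists_lift x).choose

/-- the member over a point -/
noncomputable def lift (x : Pt) : G := P.liftH x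

theorem lift_mem (x : Pt) : P.lift x ∈ nbr D P.d := (P.exists_lift x).choose_spec.1

theorem π_lift (x : Pt) : P.π (P.liftH x) = tp x := (P.exists_lift x).choose_spec.2

theorem π_injOn {y z : ↥(perpGroup D P.d)} (hy : (y : G) ∈ nbr D P.d) (hz : (z : G) ∈ nbr D P.d)
    (h : P.π y = P.π z) : y = z :=
  proj_injective P.hDc P.hsep P.hd hy hz (P.e.symm.injective h)

theorem lift_inj {x y : Pt} (h : P.lift x = P.lift y) : x = y := by
  have : P.liftH x = P.liftH y := Subtype.ext h
  exact tp_inj (by rw [← P.π_lift x, ← P.π_lift y, this])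

theorem lift_unique {y : ↥(perpGroup D P.d)} (hy : (y : G) ∈ nbr D P.d) {x : Pt} (h : P.π y = tp x) :
    P.lift x = y :=
  congrArg Subtype.val (P.π_injOn (P.lift_mem x) hy ((P.π_lift x).trans h.symm))

theorem exists_point {y : G} (hy : y ∈ nbr D P.d) : ∃ x : Pt, P.lift x = y := by
  have h : proj D P.d ⟨y, Subgroup.subset_closure hy⟩ ∈ P.e '' transClass := by
    rw [P.he]; exact ⟨_, hy, rfl⟩
  obtain ⟨t, ht, e⟩ := h
  obtain ⟨x, rfl⟩ := exists_tp ht
  refine ⟨x, P.lift_unique (y := ⟨y, Subgroup.subset_closure hy⟩) hy ?_⟩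
  rw [π, MonoidHom.comp_apply, ← e]
  exact P.e.symm_apply_apply _

theorem lift_comm (x y : Pt) : Commute (P.lift x) (P.lift y) ↔ comB x y = true := by
  rw [comB_iff, ← P.π_lift, ← P.π_lift]
  refine ⟨fun h => (show Commute (P.liftH x) (P.liftH y) from Subtype.ext h.eq).map P.π, fun h => ?_⟩
  by_cases hxy : x = y
  · subst hxy; exact Commute.refl _
  · refine commute_of_proj P.hD.1 (P.lift_mem x).1 (P.lift_mem y).1 (fun e => hxy (P.lift_inj ?_)) ?_
    · exact congrArg Subtype.val (proj_injective P.hDc P.hsep P.hd (P.lift_mem x) (P.lift_mem y) e)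
    · have := h.map P.e
      simpa [π] using this

theorem lift_conj (g : ↥(perpGroup D P.d)) (x : Pt) :
    P.lift (rho (P.π g) x) = g * P.lift x * (g : G)⁻¹ := by
  refine P.lift_unique (y := g * P.liftH x * g⁻¹)
    (conj_mem_nbr (class_conjClosed P.hDc) (commute_of_mem_perpGroup g.2) (P.lift_mem x)) ?_
  rw [map_mul, map_mul, map_inv, P.π_lift, tp_smul]

theorem lift_act (x y : Pt) : P.lift (rho (tp x) y) = P.lift x * P.lift y * (P.lift x)⁻¹ := by
  rw [← P.π_lift x]
  exact P.lift_conj (P.liftH x) y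

/-- the points over the perp of the pair -/
def S (x : Pt) : Prop := Commute (P.lift x) P.c

theorem lift_ne_c (x : Pt) : P.lift x ≠ P.c := fun e => P.hdc (e ▸ (P.lift_mem x).2.2)

/-- the setting of the classification -/
theorem ctx (P : Pre G D) : FischerClass.Ctx D := ⟨P.hD, P.hprim, P.hZ, P.hsep, P.hw⟩

/-- conjugation of points -/
noncomputable def opQ (x y : Pt) : Pt := rho (tp x) y

theorem co : FischerClass.Co D P.d opQ P.lift where
  inj _ _ h := P.lift_inj h
  range := Set.ext fun _ => ⟨fun ⟨x, hx⟩ => hx ▸ P.lift_mem x, fun hy => P.exists_point hy⟩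
  conj x y := by rw [opQ, P.lift_act, inv_eq_self P.hD.1 (P.lift_mem x).1]

theorem S_nonempty : ∃ x, P.S x := by
  obtain ⟨p, hp⟩ := P.ctx.sc_nonempty P.co P.hd P.hc P.hdc
  exact ⟨p, Commute.symm hp⟩

theorem S_transport {p : Pt} (hp : P.S p) : ∃ A B : Pt, ∃ ψ : Pt → G, comB A B = false ∧
    Function.Injective ψ ∧ (∀ x y, Commute (ψ x) (ψ y) ↔ comB x y = true) ∧
    ψ '' commonNbr A B = P.lift '' nbrIn P.S p := by
  have hS := P.hD.1
  have hc' := P.hD.2.1
  have ha := P.lift_mem p
  obtain ⟨g, hg⟩ := class_exists_conj P.hDc P.hd ha.1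
  have hdA : g⁻¹ * P.d * g ∈ nbr D P.d := by
    refine ⟨by simpa using hc' g⁻¹ P.d P.hd, fun e => ha.2.1 ?_, ?_⟩
    · rw [← hg]
      calc g * P.d * g⁻¹ = g * (g⁻¹ * P.d * g) * g⁻¹ := by rw [e]
        _ = P.d := by group
    · have := ha.2.2.symm.map (MulAut.conj g⁻¹)
      simpa [← hg, mul_assoc] using this
  have hcA : g⁻¹ * P.c * g ∈ nbr D P.d := by
    refine ⟨by simpa using hc' g⁻¹ P.c P.hc, fun e => P.lift_ne_c p ?_, ?_⟩
    · rw [← hg]
      calc g * P.d * g⁻¹ = g * (g⁻¹ * P.c * g) * g⁻¹ := by rw [e]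
        _ = P.c := by group
    · have := hp.map (MulAut.conj g⁻¹)
      simpa [← hg, mul_assoc] using this
  obtain ⟨A, hA⟩ := P.exists_point hdA
  obtain ⟨B, hB⟩ := P.exists_point hcA
  have hAB : comB A B = false := by
    rw [Bool.eq_false_iff]
    intro h
    rw [← P.lift_comm, hA, hB] at h
    have := h.map (MulAut.conj g)
    exact P.hdc (by simpa [mul_assoc] using this)
  set ψ : Pt → G := fun y => g * P.lift y * g⁻¹ with hψ
  have hψinj : Function.Injective ψ := fun x y h => P.lift_inj (mul_left_cancel (mul_right_cancel h))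
  have hψc : ∀ x y, Commute (ψ x) (ψ y) ↔ comB x y = true := fun x y => by
    rw [← P.lift_comm]
    exact Commute.conj_iff g
  have hψA : ψ A = P.d := by show g * P.lift A * g⁻¹ = _; rw [hA]; group
  have hψB : ψ B = P.c := by show g * P.lift B * g⁻¹ = _; rw [hB]; group
  refine ⟨A, B, ψ, hAB, hψinj, hψc, ?_⟩
  ext z
  constructor
  · rintro ⟨y, hy, rfl⟩
    obtain ⟨q, hq⟩ := P.exists_point (y := ψ y) ⟨hc' g _ (P.lift_mem y).1,
      fun e => hy.1.1 (hψinj (e.trans hψA.symm)), hψA ▸ (hψc A y).mpr hy.1.2⟩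
    refine ⟨q, ⟨?_, fun e => ?_, ?_⟩, hq⟩
    · show Commute (P.lift q) P.c
      rw [hq, ← hψB]
      exact ((hψc B y).mpr hy.2.2).symm
    · rw [e, ← hg] at hq
      exact (P.lift_mem y).2.1 (mul_left_cancel (mul_right_cancel hq)).symm
    · rw [← P.lift_comm, hq, ← hg]
      exact (Commute.conj_iff g).mpr (P.lift_mem y).2.2
  · rintro ⟨q, ⟨h1, h2, h3⟩, rfl⟩
    rw [← P.lift_comm, ← hg] at h3
    have hy : g⁻¹ * P.lift q * g ∈ nbr D P.d := by
      refine ⟨by simpa using hc' g⁻¹ _ (P.lift_mem q).1, fun e => h2 (P.lift_inj ?_), ?_⟩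
      · rw [← hg, ← e]; group
      · have := h3.map (MulAut.conj g⁻¹)
        simpa [mul_assoc] using this
    obtain ⟨y, hy'⟩ := P.exists_point hy
    have hψy : ψ y = P.lift q := by show g * P.lift y * g⁻¹ = _; rw [hy']; group
    refine ⟨y, ⟨⟨fun e => ?_, ?_⟩, fun e => ?_, ?_⟩, hψy⟩
    · exact (P.lift_mem q).2.1 (by rw [← hψy, e, hψA])
    · rw [← hψc, hψA, hψy]; exact (P.lift_mem q).2.2
    · exact P.lift_ne_c q (by rw [← hψy, e, hψB])
    · rw [← hψc, hψB, hψy]; exact h1.symm

theorem perpSet : PerpSet P.S := by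
  refine ⟨P.S_nonempty, fun x y hx hy => ?_, fun p hp => ?_, fun p hp => ?_⟩
  · show Commute (P.lift (rho (tp x) y)) P.c
    rw [P.lift_act]
    exact (hx.mul_left hy).mul_left hx.inv_left
  · obtain ⟨A, B, ψ, hAB, hinj, -, e⟩ := P.S_transport hp
    rw [← Set.ncard_image_of_injective _ (fun x y h => P.lift_inj h), ← e,
      Set.ncard_image_of_injective _ hinj]
    exact (common_far hAB).1
  · obtain ⟨A, B, ψ, hAB, hinj, hcomm, e⟩ := P.S_transport hp
    obtain ⟨f, hf, hmem⟩ := (common_far hAB).2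
    have h : ∀ i, ∃ q : Pt, i < 8 → P.lift q = ψ (f i) ∧ q ∈ nbrIn P.S p := fun i => by
      by_cases hi : i < 8
      · obtain ⟨q, hq, e'⟩ := (e ▸ Set.mem_image_of_mem ψ (hmem i hi) : ψ (f i) ∈ P.lift '' nbrIn P.S p)
        exact ⟨q, fun _ => ⟨e', hq⟩⟩
      · exact ⟨p, fun h => absurd h hi⟩
    choose q hq using h
    refine ⟨q, fun i hi j hj hne => ⟨fun e' => ?_, ?_⟩, fun i hi => (hq i hi).2⟩
    · exact (hf i hi j hj hne).1 (hinj (by rw [← (hq i hi).1, ← (hq j hj).1, e']))
    · rw [← (hf i hi j hj hne).2, Bool.eq_iff_iff, ← P.lift_comm, (hq i hi).1, (hq j hj).1, hcomm]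

/-- the identification moved by an element of Fi23 -/
noncomputable def move (g : Fi23) : Pre G D :=
  { P with
    e := (MulAut.conj g).trans P.e
    he := by
      rw [← P.he, MulEquiv.coe_trans, Set.image_comp]
      refine congrArg (P.e '' ·) (Set.ext fun t => ?_)
      constructor
      · rintro ⟨s, hs, rfl⟩
        exact M23.class_conj hs
      · intro ht
        refine ⟨g⁻¹ * t * g⁻¹⁻¹, M23.class_conj ht, ?_⟩
        simp [mul_assoc] }

theorem move_S (g : Fi23) (x : Pt) : (P.move g).S x ↔ P.S (rho g x) := by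
  have h : (P.move g).lift x = P.lift (rho g x) := by
    refine (P.move g).lift_unique (y := P.liftH (rho g x)) (P.lift_mem _) ?_
    show (MulAut.conj g).symm (P.π (P.liftH (rho g x))) = tp x
    rw [P.π_lift, MulAut.conj_symm_apply, ← tp_smul]
    group
  show Commute _ _ ↔ Commute _ _
  rw [h]
  rfl

theorem small_size : popc Fi24Pres.orbSmallMask certA.N = 1080 := by decide +kernel

theorem near_count (P : Pre G D) (p : Pt) : (FischerClass.Nb opQ p).ncard = 3510 := by
  obtain ⟨g, hg⟩ := exists_move setupA.base p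
  have e : FischerClass.Nb opQ p = rho g '' {y : Pt | subMask0.testBit y = true} := by
    ext y
    have hy : rho g (rho g⁻¹ y) = y := by rw [map_inv, Equiv.Perm.inv_def, Equiv.apply_symm_apply]
    have h1 : opQ p y = y ↔ comB p y = true := by rw [← P.co.com_iff P.hD.1, P.lift_comm]
    constructor
    · rintro ⟨hne, hc⟩
      refine ⟨rho g⁻¹ y, (near_base _).2 ⟨fun e => hne (by rw [← hy, e, hg]), ?_⟩, hy⟩
      rw [← comB_smul g, hy, hg]; exact h1.1 hc
    · rintro ⟨x, hx, rfl⟩
      obtain ⟨hne, hc⟩ := (near_base x).1 hx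
      refine ⟨fun e => hne ((rho g).injective (e.trans hg.symm)), h1.2 ?_⟩
      rw [← hg, comB_smul]; exact hc
  rw [e, Set.ncard_image_of_injective _ (rho g).injective, ← mask_card]
  exact subMask0_size

/-- the small orbit alone would make the graph of the class impossible -/
theorem not_small : ¬ ∀ y : Pt, P.S y ↔ Fi24Pres.orbSmallMask.testBit y = true := by
  intro hall
  have hm : (FischerClass.Sc P.lift P.c).ncard = 1080 := by
    have e : FischerClass.Sc P.lift P.c = {y : Pt | Fi24Pres.orbSmallMask.testBit y = true} :=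
      Set.ext fun y => Commute.symm_iff.trans (hall y)
    rw [e, ← mask_card]; exact small_size
  have h := P.ctx.no_irrational P.co P.hd P.hc P.hdc (k := 31671) (l := 3510) (m := 1080)
    (by rw [Nat.card_eq_fintype_card, Fintype.card_fin]; rfl) P.near_count hm (fun q hq => by
      have hq' : q ^ 2 = ((6027264 : ℕ) : ℚ) := by rw [hq]; norm_num
      obtain ⟨x, hx⟩ := Rat.isSquare_natCast_iff.1 ⟨q, by rw [← sq, hq']⟩
      have h1 : 2455 < x := Nat.mul_self_lt_mul_self_iff.1 (by rw [← hx]; norm_num)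
      have h2 : x < 2456 := Nat.mul_self_lt_mul_self_iff.1 (by rw [← hx]; norm_num)
      omega)
  haveI : Nonempty D := ⟨⟨P.d, P.hd⟩⟩
  have hD : (1 : ℝ) ≤ Nat.card D := by exact_mod_cast Nat.card_pos (α := D)
  push_cast at h
  nlinarith

/-- The standard position. -/
theorem exists_standard (P : Pre G D) : ∃ Q : Pre G D, Q.d = P.d ∧ ∀ x : Pt, Q.S x ↔ smallMid.testBit x = true := by
  obtain ⟨g, h9⟩ := perpSet_nine P.perpSet
  have e : (P.move g).S = fun x => P.S (rho g x) := funext fun x => propext (P.move_S g x)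
  rw [← e] at h9
  exact ⟨P.move g, rfl, (shape (P.move g).perpSet h9).resolve_left (P.move g).not_small⟩

end Pre

/-- a perp quotient of type M(23) gives a pair in standard position -/
theorem exists_pre {G : Type*} [Group G] [Finite G] {D : Set G} (hD : IsThreeTranspositionGroup D)
    (hprim : IsPrimitiveUnderConj D) (hZ : Subgroup.center G = ⊥) {d : G} (hd : d ∈ D)
    (h23 : IsOfTypeM23 (PerpQuot D d) (perpImage D d)) :
    ∃ P : Pre G D, P.d = d ∧ ∀ x : Pt, P.S x ↔ smallMid.testBit x = true := by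
  obtain ⟨hg, hp, hsep, hw, -⟩ := perp_hyps hD hprim hZ hd h23
  obtain ⟨e, he⟩ := M23.type_m23_fi23 hg hp h23
  obtain ⟨c, hc, hdc⟩ := exists_not_commute (class_of_primitive hD hprim).1 hprim.2.1 hd
  exact Pre.exists_standard
    { hD := hD, hprim := hprim, hZ := hZ, hsep := hsep, hw := hw, d := d, c := c, hd := hd, hc := hc,
      hdc := hdc, e := e, he := he }

end CfsgLib.M24.Weak
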