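import Cfsg.Agent.Lib.FischerClass.MathieuTwentyThreeDefs

/-! Kernel checks of the orbit data of patterns. -/

set_option autoImplicit false
set_option maxRecDepth 100000

namespace CfsgLib.FischerClass.MQ

open CfsgLib.CosetEnum CfsgLib.Fi22Pres

theorem nodes_ok : nodeData.all nodeOK = true := by decide +kernel

theorem children_ok : nodeData.all childOK = true := by decide +kernel

theorem root_ok : nodeData.any (fun m => m.1 == [0]) = true := by decide +kernel

theorem masks_ok : maskData.all maskTest = true := by decide +kernel

theorem leaves_ok : leafData.all leafOK = true := by decide +kernel

theorem pattern_ok : patternOK = true := by decide +kernel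

theorem wit_ok : witData.all witOK = true := by decide +kernel

theorem wit_cover : witCover = true := by decide +kernel

theorem pair_cover : allUp (fun y => !(Nat.blt y 3510) || commMask.testBit y || subMask1.testBit y) 12 0 = true := by
  decide +kernel

end CfsgLib.FischerClass.MQ
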