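import Cfsg.Agent.Lib.FischerClass.MathieuTwentyThreeChecks
import Cfsg.Agent.Lib.M23.Orbits
import Cfsg.Agent.Lib.Fi22Three.Model

/-!
Closed proper sets of transpositions of Fi22 with the local shape of common perps contain the eight of the
diagram of Fi23.
-/

set_option autoImplicit false
set_option linter.style.longLine false

namespace CfsgLib.FischerClass.MQ

open CfsgLib.CosetEnum CfsgLib.Fi22Pres Cfsg.Spor
open CfsgLib.M23 (Pt tr comB comB_iff actPt actPt_eq allMask ptE parE movE rootOf listed listed_spec tr_smul tr_inj to_base Diag)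
open CfsgLib.Fi22Three (mkPt mkPt_val letterPts tr_letter)

/-- conjugation of points -/
noncomputable def opP (x y : Pt) : Pt := rho (tr x) y

theorem tr_opP (x y : Pt) : tr (opP x y) = tr x * tr y * (tr x)⁻¹ := (tr_smul _ _).symm

theorem tr_sq (x : Pt) : tr x * tr x = 1 := by
  rw [tr, conjAt, show ∀ c : Fi22, c⁻¹ * gen 0 * c * (c⁻¹ * gen 0 * c) =
    c⁻¹ * (gen 0 * gen 0) * c from fun c => by group, first_facts.1, mul_one, inv_mul_cancel]

theorem opP_opP (x y : Pt) : opP x (opP x y) = y := by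
  rw [opP, opP, ← Equiv.Perm.mul_apply, ← map_mul, tr_sq, map_one]; rfl

theorem opP_val (x y : Pt) : (opP x y : ℕ) = actPt x y := actPt_eq x y

theorem comB_iff_opP (x y : Pt) : comB x y = true ↔ opP x y = y := by
  rw [comB_iff]
  refine ⟨fun h => tr_inj ?_, fun h => ?_⟩
  · rw [tr_opP, h.eq, mul_inv_cancel_right]
  · have := tr_opP x y
    rw [h, eq_mul_inv_iff_mul_eq] at this
    exact this.symm

theorem comB_smul (g : Fi22) (x y : Pt) : comB (rho g x) (rho g y) = comB x y := by
  rw [Bool.eq_iff_iff, comB_iff, comB_iff, ← tr_smul, ← tr_smul]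
  exact comB_iff.commute_mulAut_conj g _ _

theorem comB_symm (x y : Pt) : comB x y = comB y x := by
  rw [Bool.eq_iff_iff, comB_iff, comB_iff]; exact Commute.symm_iff

theorem comB_self (x : Pt) : comB x x = true := (comB_iff x x).2 (Commute.refl _)

theorem rho_opP (g : Fi22) (x y : Pt) : rho g (opP x y) = opP (rho g x) (rho g y) := by
  refine tr_inj ?_
  rw [← tr_smul, tr_opP, tr_opP, ← tr_smul g x, ← tr_smul g y]
  group

theorem fix_of_comB {x y : Pt} (h : comB x y = true) : rho (tr x) y = y := (comB_iff_opP x y).1 h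

theorem Pat.smul {f : ℕ → Pt} (h : Pat f) (g : Fi22) : Pat fun i => rho g (f i) := by
  intro i hi j hj hne
  obtain ⟨h1, h2⟩ := h i hi j hj hne
  exact ⟨fun e => h1 ((rho g).injective e), (comB_smul g _ _).trans h2⟩

theorem maskOf_spec {x : ℕ} (h : maskData.any (fun e => Nat.beq e.1 x) = true) (y : Pt) :
    (maskOf x).testBit y = comB x y := by
  obtain ⟨e, he, hx⟩ := List.any_eq_true.mp h
  have key : ∀ l : List (ℕ × ℕ), (∀ e ∈ l, maskTest e = true) → (∃ e ∈ l, e.1 = x) →
      ((l.lookup x).getD 0).testBit y = comB x y := by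
    intro l hl
    induction l with
    | nil => simp
    | cons a l ih =>
      intro hex
      obtain ⟨a, m⟩ := a
      rw [List.lookup_cons]
      by_cases ha : x = a
      · subst ha
        simp only [beq_self_eq_true, Option.getD_some]
        have h1 := hl _ List.mem_cons_self
        rw [maskTest, Bool.and_eq_true] at h1
        have h2 := allUp_spec h1.1 y (Nat.zero_le _) (lt_of_lt_of_le y.2 (by simpa using hN))
        rw [show Nat.blt y 3510 = true by rw [Nat.blt_eq]; exact y.2, Bool.not_true, Bool.false_or,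
          beq_iff_eq] at h2
        exact h2
      · rw [show (x == a) = false by simpa using ha]
        refine ih (fun e he => hl e (List.mem_cons_of_mem _ he)) ?_
        obtain ⟨e, he, rfl⟩ := hex
        rcases List.mem_cons.mp he with rfl | he
        · exact absurd rfl ha
        · exact ⟨e, he, rfl⟩
  exact key maskData (List.all_eq_true.mp masks_ok) ⟨e, he, Nat.eq_of_beq_eq_true hx⟩

theorem allMask_bit (y : Pt) : allMask.testBit y = true := by
  rw [allMask, Nat.testBit_two_pow_sub_one]; exact decide_eq_true y.2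

theorem cand_spec {P : List ℕ} (hP : ∀ p ∈ P, p < 3510 ∧ maskData.any (fun e => Nat.beq e.1 p) = true)
    {y : Pt} (h : ∀ i < P.length, P.getD i 0 ≠ (y : ℕ) ∧ comB (P.getD i 0) y = !adjQ i P.length) :
    (candMask P).testBit y = true := by
  have key : ∀ l : List ℕ, (∀ i ∈ l, i < P.length) → ∀ acc : ℕ, acc.testBit y = true →
      (l.foldl (fun acc i => acc &&& bif adjQ i P.length then allMask ^^^ maskOf (P.getD i 0)
        else maskOf (P.getD i 0) ^^^ 2 ^ P.getD i 0) acc).testBit y = true := by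
    intro l
    induction l with
    | nil => exact fun _ acc h => h
    | cons i l ih =>
      intro hl acc hacc
      refine ih (fun j hj => hl j (List.mem_cons_of_mem _ hj)) _ ?_
      have hi := hl i List.mem_cons_self
      obtain ⟨h1, h2⟩ := h i hi
      have hm := maskOf_spec (hP (P.getD i 0) (by rw [List.getD_eq_getElem _ _ hi]; exact List.getElem_mem hi)).2 y
      rw [Nat.testBit_and, hacc, Bool.true_and]
      cases ha : adjQ i P.length
      · rw [ha] at h2
        rw [cond_false, Nat.testBit_xor, hm, h2, Nat.testBit_two_pow]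
        rw [decide_eq_false h1]; rfl
      · rw [ha] at h2
        rw [cond_true, Nat.testBit_xor, hm, h2, allMask_bit]
        rfl
  exact key _ (fun i hi => List.mem_range.mp hi) _ (allMask_bit y)

/-- entries obtained by moves inherit a property from the root -/
theorem orbit_spec {ok : ℕ → Bool} {R : Pt → Prop} {b : List (List ℕ)} (h : orbitOK ok b = true)
    (hr : ∀ x : Pt, (x : ℕ) = rootOf b → R x)
    (step : ∀ z u : Pt, ok z = true → R u → R (rho (tr z) u)) :
    ∀ e ∈ b.flatten, ∀ x : Pt, (x : ℕ) = ptE e → R x := by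
  simp only [orbitOK, Bool.and_eq_true, Bool.not_eq_true', Nat.blt_eq] at h
  obtain ⟨⟨hne, hlt⟩, hscan⟩ := h
  have key : ∀ (l : List ℕ) (seen : ℕ), (∀ y, seen.testBit y = true → ∃ hy : y < 3510, R ⟨y, hy⟩) →
      scanB ok l seen = true → ∀ e ∈ l, ∀ x : Pt, (x : ℕ) = ptE e → R x := by
    intro l
    induction l with
    | nil => intros; simp_all
    | cons e l ih =>
      intro seen hs h
      change (strict e fun e => seen.testBit (parE e) && Nat.blt (ptE e) 3510 && Nat.blt (movE e) 3510 &&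
          ok (movE e) && Nat.beq (actPt (movE e) (parE e)) (ptE e) &&
          strict (2 ^ ptE e ||| seen) (scanB ok l)) = true at h
      simp only [strict_eq, Bool.and_eq_true, Nat.blt_eq] at h
      obtain ⟨⟨⟨⟨⟨hp, hx⟩, hz⟩, hok⟩, hact⟩, hrest⟩ := h
      obtain ⟨hu, hRu⟩ := hs _ hp
      have hmove : rho (tr (⟨_, hz⟩ : Pt)) (⟨_, hu⟩ : Pt) = ⟨_, hx⟩ := Fin.ext (by
        rw [actPt_eq]; exact Nat.eq_of_beq_eq_true hact)
      have hRx : R ⟨_, hx⟩ := hmove ▸ step _ _ hok hRu
      intro e' he' x hxe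
      rcases List.mem_cons.mp he' with rfl | he'
      · obtain rfl : x = ⟨_, hx⟩ := Fin.ext hxe
        exact hRx
      · refine ih _ (fun y hy => ?_) hrest e' he' x hxe
        rw [Nat.testBit_or, Bool.or_eq_true, Nat.testBit_two_pow, decide_eq_true_eq] at hy
        rcases hy with rfl | hy
        exacts [⟨hx, hRx⟩, hs y hy]
  cases hfl : b.flatten with
  | nil => simp [hfl] at hne
  | cons a l =>
    intro e he x hxe
    rcases List.mem_cons.mp he with rfl | he
    · exact hr x (by rw [hxe, rootOf, hfl]; rfl)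
    · refine key b.flatten.tail _ (fun y hy => ?_) hscan e (by rw [hfl]; exact he) x hxe
      rw [Nat.testBit_two_pow, decide_eq_true_eq] at hy
      exact hy ▸ ⟨hlt, hr _ rfl⟩

theorem node_step {f : ℕ → Pt} (hf : Pat f) {n : List ℕ × List (List (List ℕ))} (hn : n ∈ nodeData) (g : Fi22)
    (hlen : n.1.length < 8) (hg : ∀ i < n.1.length, (rho g (f i) : ℕ) = n.1.getD i 0) :
    ∃ b ∈ n.2, ∃ g' : Fi22, (∀ i < n.1.length, (rho g' (f i) : ℕ) = n.1.getD i 0) ∧
      (rho g' (f n.1.length) : ℕ) = rootOf b := by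
  have hok := List.all_eq_true.mp nodes_ok n hn
  simp only [nodeOK, Bool.and_eq_true, List.all_eq_true, Nat.blt_eq] at hok
  obtain ⟨⟨hP, hcov⟩, horb⟩ := hok
  set y := rho g (f n.1.length) with hy0
  have hd := hf.smul g
  have hy : (candMask n.1).testBit y = true := cand_spec hP fun i hi => by
    obtain ⟨h1, h2⟩ := hd i (by omega) n.1.length hlen (by omega)
    rw [hg i hi] at h2
    exact ⟨fun e => h1 (Fin.ext ((hg i hi).trans e)), h2⟩
  rw [← Nat.eq_of_beq_eq_true hcov, Nat.testBit_and, Bool.and_eq_true] at hy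
  obtain ⟨b, hb, e, he, hby⟩ := listed_spec hy.2
  obtain ⟨h, hh, hfix⟩ := orbit_spec (R := fun x => ∃ h : Fi22, (rho h x : ℕ) = rootOf b ∧
      ∀ q : Pt, (q : ℕ) ∈ n.1 → rho h q = q) (horb b hb) (fun x hx => ⟨1, by simpa using hx, by simp⟩)
    (fun z u hz hu => by
      obtain ⟨h, hh, hfix⟩ := hu
      refine ⟨h * tr z, ?_, fun q hq => ?_⟩
      · rw [map_mul, Equiv.Perm.mul_apply, ← Equiv.Perm.mul_apply (rho (tr z)) (rho (tr z)), ← map_mul,
          tr_sq, map_one]
        exact hh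
      · rw [map_mul, Equiv.Perm.mul_apply, fix_of_comB]
        · exact hfix q hq
        · rw [comB_symm, ← maskOf_spec (hP q hq).2 z]
          exact List.all_eq_true.mp hz q hq)
    e he y hby.symm
  refine ⟨b, hb, h * g, fun j hj => ?_, ?_⟩
  · rw [map_mul, Equiv.Perm.mul_apply, hfix _ (by
      rw [hg j hj, List.getD_eq_getElem _ _ hj]; exact List.getElem_mem hj), hg j hj]
  · rw [map_mul, Equiv.Perm.mul_apply]; exact hh

theorem pat_walk {f : ℕ → Pt} (hf : Pat f) : ∀ k < 7, ∃ g : Fi22, ∃ n ∈ nodeData,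
    n.1.length = k + 1 ∧ ∀ i ≤ k, (rho g (f i) : ℕ) = n.1.getD i 0 := by
  intro k
  induction k with
  | zero =>
    intro _
    obtain ⟨g, hg⟩ := to_base (f 0)
    obtain ⟨n, hn, hn'⟩ := List.any_eq_true.mp root_ok
    rw [beq_iff_eq] at hn'
    refine ⟨g, n, hn, by rw [hn']; rfl, fun i hi => ?_⟩
    obtain rfl : i = 0 := by omega
    rw [hg, hn']
    rfl
  | succ k ih =>
    intro hk
    obtain ⟨g, n, hn, hlen, hg⟩ := ih (by omega)
    obtain ⟨b, hb, g', hg', hroot⟩ := node_step hf hn g (by omega) (fun i hi => hg i (by omega))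
    have hc := List.all_eq_true.mp (List.all_eq_true.mp children_ok n hn) b hb
    rw [show Nat.blt (n.1.length + 1) 8 = true by rw [Nat.blt_eq]; omega, cond_true] at hc
    obtain ⟨m, hm, hm'⟩ := List.any_eq_true.mp hc
    rw [beq_iff_eq] at hm'
    refine ⟨g', m, hm, by rw [hm', List.length_append, hlen]; rfl, fun i hi => ?_⟩
    rw [hm']
    rcases Nat.lt_or_ge i (k + 1) with h | h
    · rw [List.getD_append _ _ _ _ (by omega), hg' i (by omega)]
    · obtain rfl : i = k + 1 := by omega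
      rw [List.getD_append_right _ _ _ _ (by omega), hlen, Nat.sub_self]
      rw [hlen] at hroot
      exact hroot

/-- every pattern is carried to a listed one -/
theorem pat_leaf {f : ℕ → Pt} (hf : Pat f) : ∃ g : Fi22, ∃ L ∈ leafData,
    ∀ i < 8, (rho g (f i) : ℕ) = L.1.getD i 0 := by
  obtain ⟨g, n, hn, hlen, hg⟩ := pat_walk hf 6 (by norm_num)
  obtain ⟨b, hb, g', hg', hroot⟩ := node_step hf hn g (by omega) (fun i hi => hg i (by omega))
  have hc := List.all_eq_true.mp (List.all_eq_true.mp children_ok n hn) b hb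
  rw [show Nat.blt (n.1.length + 1) 8 = false by rw [hlen]; rfl, cond_false] at hc
  obtain ⟨L, hL, hL'⟩ := List.any_eq_true.mp hc
  rw [beq_iff_eq] at hL'
  refine ⟨g', L, hL, fun i hi => ?_⟩
  rw [hL']
  rcases Nat.lt_or_ge i 7 with h | h
  · rw [List.getD_append _ _ _ _ (by omega), hg' i (by omega)]
  · obtain rfl : i = 7 := by omega
    rw [List.getD_append_right _ _ _ _ (by omega), hlen]
    rw [hlen] at hroot
    exact hroot

/-- what is known of the points commuting with an outer transposition -/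
structure Fit (S : Set Pt) : Prop where
  nonempty : S.Nonempty
  proper : ∃ x, x ∉ S
  closed : ∀ p ∈ S, ∀ q ∈ S, opP p q ∈ S
  sec : ∀ p ∈ S, ∃ f : ℕ → Pt, f 0 = p ∧ Pat f ∧ ∀ i < 8, f i ∈ S
  three : ∀ p ∈ S, ∀ q ∈ S, q ≠ p → comB p q = true → ∃ u v w, u ∈ S ∧ v ∈ S ∧ w ∈ S ∧
    u ≠ v ∧ u ≠ w ∧ v ≠ w ∧ comB p u = false ∧ comB p v = false ∧ comB p w = false

/-- a closed set holding generators of the group holds every point -/
theorem mem_of_gen {S : Set Pt} (hne : S.Nonempty) (hcl : ∀ p ∈ S, ∀ q ∈ S, opP p q ∈ S) {A : Set Fi22}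
    (hA : Subgroup.closure A = ⊤) (hAS : ∀ a ∈ A, ∃ x ∈ S, tr x = a) (y : Pt) : y ∈ S := by
  have key : ∀ h : Fi22, ∀ x ∈ S, rho h x ∈ S := by
    intro h
    refine Subgroup.closure_induction'' (p := fun h _ => ∀ x ∈ S, rho h x ∈ S) ?_ ?_ ?_ ?_
      (hA ▸ Subgroup.mem_top h : h ∈ Subgroup.closure A)
    · intro a ha x hx
      obtain ⟨u, hu, rfl⟩ := hAS a ha
      exact hcl u hu x hx
    · intro a ha x hx
      obtain ⟨u, hu, rfl⟩ := hAS a ha
      rw [inv_eq_of_mul_eq_one_right (tr_sq u)]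
      exact hcl u hu x hx
    · intro x hx; simpa using hx
    · intro a b _ _ iha ihb x hx
      rw [map_mul, Equiv.Perm.mul_apply]
      exact iha _ (ihb _ hx)
  obtain ⟨x, hx⟩ := hne
  obtain ⟨g, hg⟩ := to_base x
  obtain ⟨h, hh⟩ := to_base y
  have e : rho (h⁻¹ * g) x = y := by
    rw [map_mul, Equiv.Perm.mul_apply, hg, ← hh, ← Equiv.Perm.mul_apply, ← map_mul, inv_mul_cancel,
      map_one]; rfl
  exact e ▸ key _ x hx

theorem letters_all {S : Set Pt} (hne : S.Nonempty) (hcl : ∀ p ∈ S, ∀ q ∈ S, opP p q ∈ S)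
    (h : ∀ k < 9, mkPt (nth letterPts k 0) ∈ S) (y : Pt) : y ∈ S :=
  mem_of_gen hne hcl setupA.gen_top (fun a ⟨k, hk, e⟩ => ⟨_, h k hk, (tr_letter hk).trans e⟩) y

theorem Fit.smul {S : Set Pt} (F : Fit S) (g : Fi22) : Fit (rho g '' S) where
  nonempty := F.nonempty.image _
  proper := by
    obtain ⟨x, hx⟩ := F.proper
    exact ⟨rho g x, fun h => hx ((rho g).injective.mem_set_image.1 h)⟩
  closed := by
    rintro _ ⟨p, hp, rfl⟩ _ ⟨q, hq, rfl⟩
    exact ⟨opP p q, F.closed p hp q hq, rho_opP g p q⟩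
  sec := by
    rintro _ ⟨p, hp, rfl⟩
    obtain ⟨f, h0, hf, hS⟩ := F.sec p hp
    exact ⟨fun i => rho g (f i), congrArg (rho g) h0, hf.smul g, fun i hi => Set.mem_image_of_mem _ (hS i hi)⟩
  three := by
    rintro _ ⟨p, hp, rfl⟩ _ ⟨q, hq, rfl⟩ hne hc
    obtain ⟨u, v, w, hu, hv, hw, h1, h2, h3, c1, c2, c3⟩ :=
      F.three p hp q hq (fun e => hne (by rw [e])) ((comB_smul g p q).symm.trans hc)
    exact ⟨_, _, _, Set.mem_image_of_mem _ hu, Set.mem_image_of_mem _ hv, Set.mem_image_of_mem _ hw,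
      fun e => h1 ((rho g).injective e), fun e => h2 ((rho g).injective e),
      fun e => h3 ((rho g).injective e), (comB_smul g p u).trans c1, (comB_smul g p v).trans c2,
      (comB_smul g p w).trans c3⟩

theorem slp_mem {S : Set Pt} (hcl : ∀ p ∈ S, ∀ q ∈ S, opP p q ∈ S) {z : Pt} (hz : z ∈ S) (hz0 : (z : ℕ) = 0) :
    ∀ (steps : List (ℕ × ℕ)) (acc : List ℕ), (∀ v ∈ acc, ∃ x : Pt, (x : ℕ) = v ∧ x ∈ S) →
      ∀ j, ∃ x : Pt, (x : ℕ) = nth (slp steps acc) j 0 ∧ x ∈ S := by
  have hget : ∀ (acc : List ℕ), (∀ v ∈ acc, ∃ x : Pt, (x : ℕ) = v ∧ x ∈ S) → ∀ j,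
      ∃ x : Pt, (x : ℕ) = nth acc j 0 ∧ x ∈ S := fun acc h j => by
    rw [nth_eq]
    rcases Nat.lt_or_ge j acc.length with hj | hj
    · rw [List.getD_eq_getElem _ _ hj]; exact h _ (List.getElem_mem hj)
    · rw [List.getD_eq_default _ _ hj]; exact ⟨z, hz0, hz⟩
  intro steps
  induction steps with
  | nil => exact hget
  | cons s l ih =>
    intro acc h
    show ∀ j, ∃ x : Pt, (x : ℕ) = nth (strict (actPt (nth acc s.1 0) (nth acc s.2 0))
      fun v => slp l (acc ++ [v])) j 0 ∧ x ∈ S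
    rw [strict_eq]
    refine ih _ fun v hv => ?_
    rcases List.mem_append.1 hv with hv | hv
    · exact h v hv
    · obtain ⟨p, hp, hpS⟩ := hget acc h s.1
      obtain ⟨q, hq, hqS⟩ := hget acc h s.2
      exact ⟨opP p q, by rw [opP_val, hp, hq, List.mem_singleton.1 hv], hcl p hpS q hqS⟩

/-- such a set holds eight points in the shape of the diagram -/
theorem exists_diag {S : Set Pt} (F : Fit S) : ∃ f : ℕ → Pt, Diag f ∧ ∀ i < 8, f i ∈ S := by
  classical
  obtain ⟨p, hp⟩ := F.nonempty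
  obtain ⟨f, -, hf, hfS⟩ := F.sec p hp
  obtain ⟨g, L, hL, hg⟩ := pat_leaf hf
  set T := rho g '' S
  have FT : Fit T := F.smul g
  suffices ∃ f : ℕ → Pt, Diag f ∧ ∀ i < 8, f i ∈ T by
    obtain ⟨e, he, heT⟩ := this
    refine ⟨fun i => rho g⁻¹ (e i), he.smul g⁻¹, fun i hi => ?_⟩
    obtain ⟨x, hx, hxe⟩ := heT i hi
    show rho g⁻¹ (e i) ∈ S
    rw [← hxe, ← Equiv.Perm.mul_apply, ← map_mul, inv_mul_cancel, map_one]
    exact hx
  have hok := List.all_eq_true.mp leaves_ok L hL
  simp only [leafOK, Bool.and_eq_true, List.all_eq_true, Nat.blt_eq] at hok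
  obtain ⟨⟨⟨⟨⟨hlt, hQ0⟩, hlen⟩, hcov⟩, horb⟩, hexc⟩ := hok
  have hlen8 : L.1.length = 8 := Nat.eq_of_beq_eq_true hlen
  have hQmem : ∀ v ∈ L.1, ∃ x : Pt, (x : ℕ) = v ∧ x ∈ T := fun v hv => by
    obtain ⟨i, hi, rfl⟩ := List.getElem_of_mem hv
    exact ⟨_, by rw [hg i (by omega), List.getD_eq_getElem _ _ hi], Set.mem_image_of_mem _ (hfS i (by omega))⟩
  set z := rho g (f 0) with hzdef
  have hz : z ∈ T := Set.mem_image_of_mem _ (hfS 0 (by norm_num))
  have hz0 : (z : ℕ) = 0 := by
    rw [hzdef, hg 0 (by norm_num)]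
    have h1 := Nat.eq_of_beq_eq_true hQ0
    rw [List.getD_eq_getElem _ _ (by omega : 0 < L.1.length)] at h1 ⊢
    exact h1
  obtain ⟨hne', hcom⟩ := (hf.smul g) 0 (by norm_num) 1 (by norm_num) (by norm_num)
  obtain ⟨u, v, w, hu, hv, hw, huv, huw, hvw, cu, cv, cw⟩ := FT.three z hz (rho g (f 1))
    (Set.mem_image_of_mem _ (hfS 1 (by norm_num))) (fun e => hne' e.symm) (hcom.trans (by rfl))
  have hmask : maskData.any (fun e => Nat.beq e.1 0) = true := by decide +kernel
  -- each of the three lies in a listed orbit, whose root lies in the set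
  have hfind : ∀ y ∈ T, comB z y = false → ∃ o ∈ L.2, ∃ r : Pt, (r : ℕ) = rootOf o.ent ∧ r ∈ T ∧
      ∃ e ∈ o.ent.flatten, ptE e = y := by
    intro y hy hzy
    have hbit : (allMask ^^^ maskOf 0).testBit y = true := by
      rw [Nat.testBit_xor, allMask_bit, maskOf_spec hmask y, ← hz0, hzy]; rfl
    rw [← Nat.eq_of_beq_eq_true hcov, Nat.testBit_and, Bool.and_eq_true] at hbit
    obtain ⟨b, hb, e, he, hby⟩ := listed_spec hbit.2
    obtain ⟨o, ho, rfl⟩ := List.mem_map.1 hb
    have horb' := horb o ho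
    simp only [leafOrbOK, Bool.and_eq_true] at horb'
    obtain ⟨r, hr, hrT⟩ := orbit_spec (R := fun x => x ∈ T → ∃ r : Pt, (r : ℕ) = rootOf o.ent ∧ r ∈ T)
      horb'.1 (fun x hx hxT => ⟨x, hx, hxT⟩) (fun m x hm ih hxT => by
        obtain ⟨q, hq, hqT⟩ := hQmem m (List.contains_iff_mem.1 hm)
        obtain rfl : q = m := Fin.ext hq
        refine ih ?_
        have := FT.closed q hqT _ hxT
        rwa [← opP, opP_opP] at this)
      e he y hby.symm hy
    exact ⟨o, ho, r, hr, hrT, e, he, hby⟩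
  obtain ⟨o, ho, hk, r, hr, hrT⟩ : ∃ o ∈ L.2, Nat.blt o.kind 2 = true ∧ ∃ r : Pt, (r : ℕ) = rootOf o.ent ∧ r ∈ T := by
    by_contra! hall
    set E := L.2.filter fun o => !(Nat.blt o.kind 2)
    have hin : ∀ y ∈ ({u, v, w} : Finset Pt), (y : ℕ) ∈ E.map fun o => rootOf o.ent := by
      intro y hy
      have hy' : y ∈ T ∧ comB z y = false := by
        simp only [Finset.mem_insert, Finset.mem_singleton] at hy
        rcases hy with rfl | rfl | rfl
        exacts [⟨hu, cu⟩, ⟨hv, cv⟩, ⟨hw, cw⟩]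
      obtain ⟨o, ho, r, hr, hrT, e, he, hby⟩ := hfind y hy'.1 hy'.2
      have hb : Nat.blt o.kind 2 = false := Bool.eq_false_iff.2 fun h => hall o ho h r hr hrT
      have hE : o ∈ E := List.mem_filter.2 ⟨ho, by rw [hb]; rfl⟩
      refine List.mem_map.2 ⟨o, hE, ?_⟩
      have horb' := horb o ho
      simp only [leafOrbOK, Bool.and_eq_true] at horb'
      have hk2 : ∀ k, Nat.blt k 2 = false → Nat.beq k 0 = false ∧ Nat.beq k 1 = false := by
        intro k hk
        rw [Bool.eq_false_iff, ne_eq, Nat.blt_eq] at hk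
        exact ⟨Bool.eq_false_iff.2 fun h => hk (by have := Nat.eq_of_beq_eq_true h; omega),
          Bool.eq_false_iff.2 fun h => hk (by have := Nat.eq_of_beq_eq_true h; omega)⟩
      rw [(hk2 _ hb).1, (hk2 _ hb).2, cond_false, cond_false] at horb'
      obtain ⟨a, ha⟩ := List.length_eq_one_iff.1 (Nat.eq_of_beq_eq_true horb'.2)
      rw [ha, List.mem_singleton] at he
      rw [rootOf, ha, ← hby, he]; rfl
    have hcard : ({u, v, w} : Finset Pt).card = 3 := by
      rw [Finset.card_insert_of_notMem (by simp [huv, huw]), Finset.card_insert_of_notMem (by simp [hvw]),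
        Finset.card_singleton]
    have h2 : E.length ≤ 2 := Nat.le_of_ble_eq_true hexc
    have h1 : ({u, v, w} : Finset Pt).image Fin.val ⊆ (E.map fun o => rootOf o.ent).toFinset := fun x hx => by
      obtain ⟨y, hy, rfl⟩ := Finset.mem_image.1 hx
      exact List.mem_toFinset.2 (hin y hy)
    have := (Finset.card_le_card h1).trans (List.toFinset_card_le _)
    rw [Finset.card_image_of_injective _ Fin.val_injective, hcard, List.length_map] at this
    omega
  have horb' := horb o ho
  simp only [leafOrbOK, Bool.and_eq_true] at horb'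
  have hreach : ∀ i < o.goal.length, ∃ x : Pt, (x : ℕ) = (reached L.1 o).getD i 0 ∧ x ∈ T := fun i hi => by
    obtain ⟨x, hx, hxT⟩ := slp_mem FT.closed hz hz0 o.steps (L.1 ++ [rootOf o.ent]) (fun v hv => by
      rcases List.mem_append.1 hv with hv | hv
      · exact hQmem v hv
      · exact ⟨r, hr.trans (List.mem_singleton.1 hv).symm, hrT⟩) (o.goal[i])
    exact ⟨x, by rw [hx, reached, List.getD_eq_getElem _ _ (by simpa using hi), List.getElem_map], hxT⟩
  have hk' : o.kind = 0 ∨ o.kind = 1 := by rw [Nat.blt_eq] at hk; omega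
  rcases hk' with h0 | h1
  · rw [h0, show Nat.beq 0 0 = true from rfl, cond_true] at horb'
    have hd := horb'.2
    simp only [diagOK, List.all_eq_true, List.mem_range, Bool.or_eq_true, Bool.and_eq_true,
      Bool.not_eq_true', beq_iff_eq] at hd
    have hget : ∀ i < 8, ∃ x : Pt, (x : ℕ) = (reached L.1 o).getD i 0 ∧ x ∈ T := fun i hi => by
      rcases Nat.lt_or_ge i o.goal.length with h | h
      · exact hreach i h
      · exact ⟨z, by rw [hz0, List.getD_eq_default _ _ (by simpa [reached] using h)], hz⟩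
    haveI : Nonempty Pt := ⟨z⟩
    choose! x hx hxT using hget
    refine ⟨x, fun i hi j hj hij => ?_, hxT⟩
    rcases hd i hi j hj with h | ⟨hne, hc⟩
    · exact absurd (Nat.eq_of_beq_eq_true h) hij
    · rw [← hx i hi, ← hx j hj] at hne hc
      exact ⟨fun e => by rw [e, Nat.beq_refl] at hne; exact Bool.noConfusion hne, hc⟩
  · rw [h1, show Nat.beq 1 0 = false from rfl, show Nat.beq 1 1 = true from rfl, cond_false, cond_true,
      beq_iff_eq] at horb'
    obtain ⟨y, hy⟩ := FT.proper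
    refine absurd (letters_all FT.nonempty FT.closed (fun k hk => ?_) y) hy
    have hlen9 : o.goal.length = 9 := by
      have := congrArg List.length horb'.2
      simpa [reached, letterPts] using this
    obtain ⟨x, hx, hxT⟩ := hreach k (by omega)
    rw [horb'.2, ← nth_eq] at hx
    rwa [← show x = mkPt (nth letterPts k 0) from Fin.ext (by rw [mkPt_val (hx ▸ x.2)]; exact hx)]

end CfsgLib.FischerClass.MQ
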