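import Cfsg.Agent.Lib.M23.OrbitDefs
import Cfsg.Agent.Lib.Fi22Three.PairChecks
import Cfsg.Agent.Lib.FischerClass.MathieuTwentyThreeData

/-!
Checks on seven transpositions of Fi22 commuting with an eighth, in the shape of a path of six with one more point.
-/

set_option autoImplicit false

namespace CfsgLib.FischerClass.MQ

open CfsgLib.CosetEnum CfsgLib.Fi22Pres
open CfsgLib.M23 (Pt comB actPt allMask ptE parE movE rootOf listed adjP)

/-- joined positions: the first commutes with all, then a path of six, and one point at the first and third of it -/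
def adjQ (i j : ℕ) : Bool :=
  [(1, 2), (2, 3), (3, 4), (4, 5), (5, 6), (1, 7), (3, 7)].contains (min i j, max i j)

/-- eight points in the shape of the pattern -/
def Pat (f : ℕ → Pt) : Prop :=
  ∀ i < 8, ∀ j < 8, i ≠ j → f i ≠ f j ∧ comB (f i) (f j) = !adjQ i j

/-- the mask of a point -/
def maskOf (x : ℕ) : ℕ := (maskData.lookup x).getD 0

/-- candidates for the next position -/
def candMask (P : List ℕ) : ℕ :=
  (List.range P.length).foldl (fun acc i => acc &&&
    bif adjQ i P.length then allMask ^^^ maskOf (P.getD i 0) else maskOf (P.getD i 0) ^^^ 2 ^ P.getD i 0) allMask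

/-- entries each of which is moved from an earlier point by a mover satisfying `ok` -/
noncomputable def scanB (ok : ℕ → Bool) (l : List ℕ) : ℕ → Bool :=
  List.rec (motive := fun _ => ℕ → Bool) (fun _ => true)
    (fun e _ ih seen => strict e fun e =>
      seen.testBit (parE e) && Nat.blt (ptE e) 3510 && Nat.blt (movE e) 3510 &&
        ok (movE e) && Nat.beq (actPt (movE e) (parE e)) (ptE e) &&
        strict (2 ^ ptE e ||| seen) ih) l

/-- one orbit list -/
noncomputable def orbitOK (ok : ℕ → Bool) (b : List (List ℕ)) : Bool :=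
  !b.flatten.isEmpty && Nat.blt (rootOf b) 3510 && scanB ok b.flatten.tail (2 ^ rootOf b)

/-- one node -/
noncomputable def nodeOK (n : List ℕ × List (List (List ℕ))) : Bool :=
  n.1.all (fun p => Nat.blt p 3510 && maskData.any fun e => Nat.beq e.1 p) &&
    Nat.beq (candMask n.1 &&& listed n.2) (candMask n.1) &&
    n.2.all (orbitOK fun m => n.1.all fun p => (maskOf p).testBit m)

/-- the children of the nodes are nodes or leaves -/
def childOK (n : List ℕ × List (List (List ℕ))) : Bool :=
  n.2.all fun b => (bif Nat.blt (n.1.length + 1) 8 then nodeData.any (fun m => m.1 == n.1 ++ [rootOf b])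
      else leafData.any (fun m => m.1 == n.1 ++ [rootOf b]))

/-- one mask -/
noncomputable def maskTest (e : ℕ × ℕ) : Bool :=
  allUp (fun y => !(Nat.blt y 3510) || (e.2.testBit y == comB e.1 y)) 12 0 && Nat.blt e.1 3510

/-- the points reached by conjugations -/
noncomputable def slp (steps : List (ℕ × ℕ)) : List ℕ → List ℕ :=
  List.rec (motive := fun _ => List ℕ → List ℕ) (fun acc => acc)
    (fun s _ ih acc => strict (actPt (nth acc s.1 0) (nth acc s.2 0)) fun v => ih (acc ++ [v])) steps

/-- the points at the positions of the goal -/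
noncomputable def reached (Q : List ℕ) (o : Orb) : List ℕ :=
  o.goal.map fun j => nth (slp o.steps (Q ++ [rootOf o.ent])) j 0

/-- eight numbers in the shape of the diagram of Fi23 without two ends -/
noncomputable def diagOK (l : List ℕ) : Bool :=
  (List.range 8).all fun i => (List.range 8).all fun j =>
    Nat.beq i j || (!Nat.beq (l.getD i 0) (l.getD j 0) && (comB (l.getD i 0) (l.getD j 0) == !adjP i j))

/-- one orbit of a leaf -/
noncomputable def leafOrbOK (Q : List ℕ) (o : Orb) : Bool :=
  orbitOK (fun m => Q.contains m) o.ent &&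
    (bif Nat.beq o.kind 0 then diagOK (reached Q o)
      else bif Nat.beq o.kind 1 then reached Q o == Fi22Three.letterPts
      else Nat.beq o.ent.flatten.length 1)

/-- one leaf -/
noncomputable def leafOK (L : List ℕ × List Orb) : Bool :=
  L.1.all (fun p => Nat.blt p 3510) && Nat.beq (L.1.getD 0 1) 0 && Nat.beq L.1.length 8 &&
    Nat.beq ((allMask ^^^ maskOf 0) &&& listed (L.2.map Orb.ent)) (allMask ^^^ maskOf 0) &&
    L.2.all (leafOrbOK L.1) &&
    Nat.ble (L.2.filter fun o => !(Nat.blt o.kind 2)).length 2

/-- the pattern lies among the common neighbours of 0 and 1 -/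
noncomputable def patternOK : Bool :=
  Nat.beq pattern.length 7 &&
  pattern.all (fun r => Nat.blt r 3510 && !Nat.beq r 0 && comB 0 r && comB 1 r) &&
  (List.range 7).all fun i => (List.range 7).all fun j => Nat.beq i j ||
    (!Nat.beq (pattern.getD i 0) (pattern.getD j 0) &&
      (comB (pattern.getD i 0) (pattern.getD j 0) == !adjQ (i + 1) (j + 1)))

/-- three points next to a common neighbour of 0 and 1 -/
noncomputable def witOK (e : ℕ × ℕ × ℕ × ℕ) : Bool :=
  !Nat.beq e.2.1 e.2.2.1 && !Nat.beq e.2.1 e.2.2.2 && !Nat.beq e.2.2.1 e.2.2.2 &&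
    [e.2.1, e.2.2.1, e.2.2.2].all fun w =>
      Nat.blt w 3510 && !Nat.beq w 0 && comB 0 w && comB 1 w && !comB e.1 w

/-- every common neighbour of 0 and 1 has witnesses -/
noncomputable def witCover : Bool :=
  allUp (fun y => !(Nat.blt y 3510) || Nat.beq y 0 || !subMask0.testBit y || !comB 1 y ||
    witData.any fun e => Nat.beq e.1 y) 12 0

end CfsgLib.FischerClass.MQ
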