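import Cfsg.Agent.Lib.FischerClass.MathieuTwentyThreeCore
import Cfsg.Agent.Lib.FischerClass.Coords
import Cfsg.Agent.Lib.M23.Side

/-!
Nine transpositions over the generators of Fi22, eight of them commuting with an outer transposition, when only
the perp quotient is known to be Fi22.
-/

set_option autoImplicit false
set_option linter.unusedSectionVars false
set_option linter.style.longLine false

namespace CfsgLib.FischerClass.MQ

open Cfsg Cfsg.Spor CfsgLib.ThreeTransp CfsgLib.ThreeTransp.Relations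
open CfsgLib.CosetEnum (allUp_spec)
open CfsgLib.Fi22Pres (rho setupA subMask0 subMask1 subMask1_orbit commMask gen)
open CfsgLib.M23 (Pt tr comB comB_iff exists_tr tr_mem tr_inj tr_smul to_base tr_base base_comm posLetter swapPos diag_std)

variable {G : Type*} [Group G] [Finite G] {D : Set G}

theorem pt_base : (setupA.base : ℕ) = 0 := rfl

/-- two non-commuting points may be moved to 0 and 1 -/
theorem pair_norm {A B : Pt} (h : comB A B = false) :
    ∃ g : Fi22, (rho g A : ℕ) = 0 ∧ (rho g B : ℕ) = 1 := by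
  obtain ⟨g, hg⟩ := to_base A
  set y := rho g B with hy0
  have hy : comB setupA.base y = false := by rw [← hg, hy0, comB_smul]; exact h
  have hbit : subMask1.testBit y = true := by
    have h1 := allUp_spec pair_cover y (Nat.zero_le _) (lt_of_lt_of_le y.2 (by simpa using Fi22Pres.hN))
    rw [show Nat.blt y 3510 = true by rw [Nat.blt_eq]; exact y.2, Bool.not_true, Bool.false_or, Bool.or_eq_true] at h1
    refine h1.resolve_left fun hc => ?_
    have h2 : Commute (tr setupA.base) (tr y) := by rw [tr_base]; exact (Fi22Pres.graph.mask y).mp hc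
    rw [(comB_iff _ _).2 h2] at hy
    exact Bool.noConfusion hy
  obtain ⟨u, hu, huy⟩ := (setupA.orbit_mem_iff subMask1_orbit y).2 hbit
  have hub : rho u⁻¹ setupA.base = setupA.base := (setupA.mem_iff u⁻¹).1 (inv_mem hu)
  refine ⟨u⁻¹ * g, ?_, ?_⟩
  · rw [map_mul, Equiv.Perm.mul_apply, hg, hub]; rfl
  · rw [map_mul, Equiv.Perm.mul_apply, ← hy0, ← huy, ← Equiv.Perm.mul_apply, ← map_mul, inv_mul_cancel,
      map_one]; rfl

variable (X : Ctx D)
include X

/-- coordinates on the neighbours over the points of Fi22 -/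
theorem exists_coords {d : G} (hd : d ∈ D) (e : PerpQuot D d ≃* Fi22)
    (he : e '' perpImage D d = conjugatesOf (gen 0)) :
    ∃ t : Pt → ↥(perpGroup D d), (∀ p, (t p : G) ∈ nbr D d) ∧ (∀ p, e (proj D d (t p)) = tr p) ∧
      Co D d opP fun p => (t p : G) := by
  have h : ∀ p : Pt, ∃ y : ↥(perpGroup D d), (y : G) ∈ nbr D d ∧ e (proj D d y) = tr p := fun p => by
    obtain ⟨_, ⟨y, hy, rfl⟩, e'⟩ := (Set.ext_iff.1 he (tr p)).2 (tr_mem p)
    exact ⟨y, hy, e'⟩
  choose t ht hte using h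
  refine ⟨t, ht, hte, ⟨fun p q h => tr_inj (by rw [← hte, ← hte, Subtype.ext h]), ?_, fun p q => ?_⟩⟩
  · ext y
    refine ⟨?_, fun hy => ?_⟩
    · rintro ⟨p, rfl⟩; exact ht p
    · obtain ⟨p, hp⟩ := exists_tr ((Set.ext_iff.1 he _).1
        ⟨_, ⟨⟨y, Subgroup.subset_closure hy⟩, hy, rfl⟩, rfl⟩)
      exact ⟨p, congrArg Subtype.val (proj_injective X.cls X.hsep hd (ht p)
        (z := ⟨y, Subgroup.subset_closure hy⟩) hy (e.injective ((hte p).trans hp)))⟩
  · show _ = ((t p * t q * t p : ↥(perpGroup D d)) : G)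
    refine congrArg Subtype.val (proj_injective X.cls X.hsep hd (ht _) ?_ (e.injective ?_))
    · have h := conj_mem_nbr X.hc (g := (t p : G)) (ht p).2.2.symm (ht q)
      rw [inv_eq_self X.hS (ht p).1] at h
      exact h
    · rw [hte, tr_opP, map_mul, map_mul, map_mul, map_mul, hte, hte, inv_eq_of_mul_eq_one_right (tr_sq p)]

/-- non-commuting members do not have all neighbours in common -/
theorem nbr_not_subset {d c : G} (hd : d ∈ D) (hc : c ∈ D) (hdc : ¬ Commute d c) :
    ¬ ∀ y ∈ nbr D d, Commute c y := by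
  intro hall
  have hsub : ∀ {a b : G}, a ∈ D → b ∈ D → ¬ Commute a b → (∀ y ∈ nbr D a, Commute b y) →
      nbr D a ⊆ nbr D b := fun {a b} _ _ hab h y hy => ⟨hy.1, fun e => hab (e ▸ hy.2.2), h y hy⟩
  have h1 := hsub hd hc hdc hall
  obtain ⟨g, hgd, hgc⟩ := X.pair_conj hd hc hc hd hdc fun h => hdc h.symm
  have h2 : nbr D c ⊆ nbr D d := by
    have := Set.image_mono (f := fun x => g * x * g⁻¹) h1
    rwa [image_nbr X.hc, image_nbr X.hc, hgd, hgc] at this
  have heq : nbr D d = nbr D c := Set.Subset.antisymm h1 h2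
  set H : Subgroup G := Subgroup.normalizer (nbr D d)
  have hstab : ∀ {x a : G}, Commute x a → ∀ n, n ∈ nbr D a ↔ x * n * x⁻¹ ∈ nbr D a := by
    intro x a hxa n
    refine ⟨fun h => ?_, fun h => ?_⟩
    · have := (Set.ext_iff.1 (image_nbr X.hc a x) (x * n * x⁻¹)).1 ⟨n, h, rfl⟩
      rwa [hxa.eq, mul_inv_cancel_right] at this
    · have e : x * a * x⁻¹ = a := by rw [hxa.eq, mul_inv_cancel_right]
      rw [← e, ← image_nbr X.hc a x] at h
      obtain ⟨m, hm, hme⟩ := h
      rwa [← mul_left_cancel (mul_right_cancel hme)]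
  have hle : Subgroup.closure {y : G | y ∈ D ∧ Commute d y} ≤ H :=
    (Subgroup.closure_le _).2 fun y hy => hstab hy.2.symm
  have hcH : c ∈ H := fun n => by
    have := hstab (Commute.refl c) n
    rwa [← heq] at this
  have htop : H = ⊤ := perp_maximal X.hD X.hprim X.hw hd hle hc hcH hdc
  obtain ⟨y, hy⟩ := X.nbr_nonempty hd
  obtain ⟨g', hg'⟩ := X.exists_conj hy.1 hd
  have hmem := ((htop ▸ Subgroup.mem_top g' : g' ∈ H) y).1 hy
  rw [hg'] at hmem
  exact hmem.2.1 rfl

variable {d c : G} {t : Pt → G} (C : Co D d opP t)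
include C

theorem co_comB (p q : Pt) : Commute (t p) (t q) ↔ comB p q = true := by
  rw [C.com_iff X.hS, comB_iff_opP]

theorem fit_sc (hd : d ∈ D) (hc : c ∈ D) (hdc : ¬ Commute d c) : Fit (Sc t c) where
  nonempty := X.sc_nonempty C hd hc hdc
  proper := by
    by_contra! hall
    refine nbr_not_subset X hd hc hdc fun y hy => ?_
    obtain ⟨p, rfl⟩ := C.exists_pt hy
    exact hall p
  closed p hp q hq := (X.sc_closed C hp).2 hq
  sec p hp := by
    obtain ⟨V⟩ := exists_view X.base C hd hc hdc hp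
    have hAB : comB V.A V.B = false := Bool.eq_false_iff.2 fun h => V.noncomm ((comB_iff_opP _ _).1 h)
    obtain ⟨h, hA, hB⟩ := pair_norm hAB
    have hok := pattern_ok
    simp only [patternOK, Bool.and_eq_true, List.all_eq_true, List.mem_range, Bool.or_eq_true,
      Bool.not_eq_true', Nat.blt_eq, beq_iff_eq] at hok
    obtain ⟨⟨hlen, hin⟩, hpair⟩ := hok
    have hlen7 : pattern.length = 7 := Nat.eq_of_beq_eq_true hlen
    have hlt : ∀ i < 7, pattern.getD i 0 < 3510 := fun i hi => by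
      rw [List.getD_eq_getElem _ _ (by omega)]; exact (hin _ (List.getElem_mem _)).1.1.1
    let r : ℕ → Pt := fun i => rho h⁻¹ (Fi22Three.mkPt (pattern.getD i 0))
    have hr : ∀ i < 7, (rho h (r i) : ℕ) = pattern.getD i 0 := fun i hi => by
      simp only [r, ← Equiv.Perm.mul_apply, ← map_mul, mul_inv_cancel, map_one, Equiv.Perm.one_apply]
      exact Fi22Three.mkPt_val (hlt i hi)
    have hrA : ∀ i < 7, r i ∈ Nb opP V.A ∧ opP V.B (r i) = r i := fun i hi => by
      have hm : pattern.getD i 0 ∈ pattern := by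
        rw [List.getD_eq_getElem _ _ (by omega)]; exact List.getElem_mem _
      obtain ⟨⟨⟨-, hne⟩, h0⟩, h1⟩ := hin _ hm
      refine ⟨⟨fun e => ?_, (comB_iff_opP _ _).1 ?_⟩, (comB_iff_opP _ _).1 ?_⟩
      · have := hr i hi
        rw [e, hA] at this
        rw [← this] at hne; exact Bool.noConfusion hne
      · rw [← comB_smul h, hA, hr i hi]; exact h0
      · rw [← comB_smul h, hB, hr i hi]; exact h1
    have hτ : ∀ i < 7, V.τ (r i) ∈ Nb opP p ∧ V.τ (r i) ∈ Sc t c := fun i hi =>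
      ⟨V.bij.mapsTo (hrA i hi).1, (V.mem_iff X.hS (hrA i hi).1).2 (hrA i hi).2⟩
    have hrr : ∀ i < 7, ∀ j < 7, i ≠ j → r i ≠ r j ∧ comB (r i) (r j) = !adjQ (i + 1) (j + 1) := by
      intro i hi j hj hij
      rcases hpair i hi j hj with he | ⟨hne, hcm⟩
      · exact absurd (Nat.eq_of_beq_eq_true he) hij
      refine ⟨fun e => ?_, ?_⟩
      · rw [← hr i hi, e, hr j hj, Nat.beq_refl] at hne; exact Bool.noConfusion hne
      · rw [← comB_smul h, hr i hi, hr j hj]; exact hcm
    refine ⟨fun k => if k = 0 then p else V.τ (r (k - 1)), rfl, fun i hi j hj hij => ?_, fun i hi => ?_⟩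
    · have hQ : ∀ k < 8, adjQ 0 k = false ∧ adjQ k 0 = false := by decide +kernel
      by_cases hi0 : i = 0
      · subst hi0
        simp only [if_true, if_neg (Ne.symm hij)]
        have := (hτ (j - 1) (by omega)).1
        exact ⟨this.1.symm, by rw [(comB_iff_opP _ _).2 this.2, (hQ j hj).1]; rfl⟩
      by_cases hj0 : j = 0
      · subst hj0
        simp only [if_true, if_neg hij]
        have := (hτ (i - 1) (by omega)).1
        exact ⟨this.1, by rw [comB_symm, (comB_iff_opP _ _).2 this.2, (hQ i hi).2]; rfl⟩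
      simp only [if_neg hi0, if_neg hj0]
      have hri := (hrA (i - 1) (by omega)).1
      have hrj := (hrA (j - 1) (by omega)).1
      obtain ⟨h1, h2⟩ := hrr (i - 1) (by omega) (j - 1) (by omega) (by omega)
      refine ⟨fun e => h1 (V.bij.injOn hri hrj e), ?_⟩
      rw [show i = i - 1 + 1 by omega, show j = j - 1 + 1 by omega, ← h2]
      simp only [Nat.add_sub_cancel]
      rw [Bool.eq_iff_iff, ← co_comB X C, ← V.fe_eq _ hri, ← V.fe_eq _ hrj, V.co.com_iff X.hS,
        comB_iff_opP]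
    · by_cases hi0 : i = 0
      · simp only [if_pos hi0]; exact hp
      · simp only [if_neg hi0]; exact (hτ (i - 1) (by omega)).2
  three p hp q hq hqp hpq := by
    obtain ⟨V⟩ := exists_view X.base C hd hc hdc hq
    have hAB : comB V.A V.B = false := Bool.eq_false_iff.2 fun h => V.noncomm ((comB_iff_opP _ _).1 h)
    obtain ⟨h, hA, hB⟩ := pair_norm hAB
    have hpn : p ∈ Nb opP q := ⟨hqp.symm, (comB_iff_opP _ _).1 (by rw [comB_symm]; exact hpq)⟩
    obtain ⟨r, hr, hrp⟩ := V.bij.surjOn hpn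
    have hBr : opP V.B r = r := (V.mem_iff X.hS hr).1 (hrp ▸ hp)
    set u := rho h r with hu0
    have hu : ((u : ℕ) ≠ 0) ∧ comB 0 u = true ∧ comB 1 u = true := by
      refine ⟨fun e => hr.1 ((rho h).injective (Fin.ext (e.trans hA.symm))), ?_, ?_⟩
      · rw [← hA, hu0, comB_smul, comB_iff_opP]; exact hr.2
      · rw [← hB, hu0, comB_smul, comB_iff_opP]; exact hBr
    obtain ⟨w, hw, hwu⟩ : ∃ w ∈ witData, w.1 = (u : ℕ) := by
      have h1 := allUp_spec wit_cover u (Nat.zero_le _) (lt_of_lt_of_le u.2 (by simpa using Fi22Pres.hN))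
      have h2 : subMask0.testBit u = true := base_comm (fun e => hu.1 (by rw [e]; rfl)) (by
        rw [← tr_base]; exact (comB_iff setupA.base u).1 hu.2.1)
      rw [show Nat.blt u 3510 = true by rw [Nat.blt_eq]; exact u.2,
        Bool.eq_false_iff.2 (fun e => hu.1 (Nat.eq_of_beq_eq_true e)), h2, hu.2.2] at h1
      simp only [Bool.not_true, Bool.false_or, List.any_eq_true] at h1
      obtain ⟨w, hw, e⟩ := h1
      exact ⟨w, hw, Nat.eq_of_beq_eq_true e⟩
    have hok := List.all_eq_true.1 wit_ok w hw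
    simp only [witOK, Bool.and_eq_true, Bool.not_eq_true', List.all_eq_true, Nat.blt_eq] at hok
    obtain ⟨⟨⟨h12, h13⟩, h23⟩, hall⟩ := hok
    have pull : ∀ n ∈ [w.2.1, w.2.2.1, w.2.2.2], ∃ s : Pt, (rho h s : ℕ) = n ∧ s ∈ Nb opP V.A ∧
        V.τ s ∈ Sc t c ∧ comB p (V.τ s) = false := by
      intro n hn
      obtain ⟨⟨⟨⟨hlt, hne⟩, h0⟩, h1⟩, hun⟩ := hall n hn
      obtain ⟨s, hs⟩ : ∃ s : Pt, (rho h s : ℕ) = n :=
        ⟨rho h⁻¹ ⟨n, hlt⟩, by rw [← Equiv.Perm.mul_apply, ← map_mul, mul_inv_cancel, map_one]; rfl⟩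
      have hsA : s ∈ Nb opP V.A := ⟨fun e => by rw [← hs, e, hA] at hne; exact Bool.noConfusion hne,
        (comB_iff_opP _ _).1 (by rw [← comB_smul h, hA, hs]; exact h0)⟩
      refine ⟨s, hs, hsA, (V.mem_iff X.hS hsA).2 ((comB_iff_opP _ _).1 (by rw [← comB_smul h, hB, hs]; exact h1)), ?_⟩
      rw [← hrp, ← hun, hwu, ← hs, hu0, comB_smul, Bool.eq_iff_iff, ← co_comB X C, ← V.fe_eq _ hr,
        ← V.fe_eq _ hsA, V.co.com_iff X.hS, comB_iff_opP]
    obtain ⟨s1, e1, a1, b1, c1⟩ := pull w.2.1 (by simp)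
    obtain ⟨s2, e2, a2, b2, c2⟩ := pull w.2.2.1 (by simp)
    obtain ⟨s3, e3, a3, b3, c3⟩ := pull w.2.2.2 (by simp)
    have hne : ∀ {s s' : Pt} {n n' : ℕ}, s ∈ Nb opP V.A → s' ∈ Nb opP V.A → (rho h s : ℕ) = n →
        (rho h s' : ℕ) = n' → Nat.beq n n' = false → V.τ s ≠ V.τ s' := fun ha ha' e e' hn h' => by
      rw [← e, ← e', V.bij.injOn ha ha' h', Nat.beq_refl] at hn; exact Bool.noConfusion hn
    exact ⟨_, _, _, b1, b2, b3, hne a1 a2 e1 e2 h12, hne a1 a3 e1 e3 h13, hne a2 a3 e2 e3 h23, c1, c2, c3⟩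

omit C in
/-- transpositions over the generators, all but one of them commuting with the outer one -/
theorem exists_lifts (hd : d ∈ D) (hc : c ∈ D) (hdc : ¬ Commute d c) (e : PerpQuot D d ≃* Fi22)
    (he : e '' perpImage D d = conjugatesOf (gen 0)) :
    ∃ (e' : PerpQuot D d ≃* Fi22) (t : ℕ → ↥(perpGroup D d)),
      e' '' perpImage D d = conjugatesOf (gen 0) ∧
      (∀ k < 9, (t k : G) ∈ nbr D d ∧ e' (QuotientGroup.mk (t k)) = gen k) ∧
      (∀ k < 9, k ≠ 6 → Commute c (t k : G)) ∧ ¬ Commute c (t 6 : G) := by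
  obtain ⟨y, hy, hye, C⟩ := exists_coords X hd e he
  have F := fit_sc X C hd hc hdc
  obtain ⟨f, hf, hfS⟩ := exists_diag F
  obtain ⟨φ, sw, himg, hφ⟩ := diag_std hf
  have hx : ∀ k < 9, ∃ x : Pt, tr x = φ (gen k) ∧ (k ≠ 6 → x ∈ Sc (fun p => (y p : G)) c) := by
    intro k hk
    by_cases h6 : k = 6
    · obtain ⟨x, hx⟩ := exists_tr (show φ (gen k) ∈ conjugatesOf (gen 0) from
        himg ▸ Set.mem_image_of_mem φ (M23.gen22_conj k hk))
      exact ⟨x, hx, fun h => absurd h6 h⟩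
    obtain ⟨i, hi, rfl⟩ : ∃ i < 8, posLetter i = k :=
      (by decide +kernel : ∀ k < 9, k ≠ 6 → ∃ i < 8, posLetter i = k) k hk h6
    exact ⟨_, (hφ i hi).symm, fun _ => hfS _
      ((by decide +kernel : ∀ b, ∀ i < 8, swapPos b i < 8) sw i hi)⟩
  haveI : Nonempty Pt := ⟨setupA.base⟩
  choose! x hx hxS using hx
  refine ⟨e.trans φ.symm, fun k => y (x k), ?_, fun k hk => ⟨hy _, ?_⟩, fun k hk h6 => hxS k hk h6, fun h => ?_⟩
  · rw [show (e.trans φ.symm : _ → Fi22) = φ.symm ∘ e from rfl, Set.image_comp, he]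
    conv_lhs => rw [← himg, ← Set.image_comp]
    simp
  · show φ.symm (e (proj D d (y (x k)))) = _
    rw [hye, hx k hk, φ.symm_apply_apply]
  · obtain ⟨z, hz⟩ := F.proper
    refine hz (mem_of_gen F.nonempty F.closed (A := φ '' {a | ∃ k < Fi22Pres.certA.K, gen k = a}) ?_ ?_ z)
    · rw [show (φ : Fi22 → Fi22) = φ.toMonoidHom from rfl, ← MonoidHom.map_closure, setupA.gen_top]
      exact Subgroup.map_top_of_surjective _ φ.surjective
    · rintro _ ⟨_, ⟨k, hk, rfl⟩, rfl⟩
      have hk' : k < 9 := hk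
      refine ⟨x k, ?_, hx k hk'⟩
      by_cases h6 : k = 6
      · rw [h6]; exact h
      · exact hxS k hk' h6

end CfsgLib.FischerClass.MQ
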