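import Cfsg.Agent.Lib.FischerClass.MathieuTwentyTwoClasses
import Cfsg.Agent.Lib.TypeM22.Config

/-!
Configurations of nine transpositions in the weak setting.
-/

set_option autoImplicit false
set_option linter.unusedSectionVars false
set_option maxHeartbeats 1000000
set_option maxRecDepth 100000

namespace CfsgLib.TypeM22.Weak

open Cfsg
open CfsgLib.ThreeTransp CfsgLib.ThreeTransp.Relations
open CfsgLib.CosetEnum (prodW prodW_nil prodW_cons prodW_append powWord prodW_powWord)

variable {G : Type*} [Group G] [Finite G] {D : Set G}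

variable {a : G} {φ : ℕ → G}

variable (X : Ctx D)
include X

/-- a configuration has a conjugate in normal form -/
theorem normalise {x : ℕ → G} (C : Config D x) :
    ∃ (g : G) (ψ : ℕ → G) (c : List ℕ × List ℕ), Normal D (fun i => g * x i * g⁻¹) ψ c := by
  obtain ⟨φ, P⟩ := X.pts (C.mem (i := 0) (by norm_num))
  have ha : x 0 ∈ D := C.mem (by norm_num)
  have hac : ¬ Commute (x 0) (x 1) := fun h =>
    absurd ((C.comm (by norm_num) (by norm_num)).1 h) (by decide)
  have hnbr : ∀ k, 2 ≤ k → k < 9 → x k ∈ nbr D (x 0) := fun k hk hk' =>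
    ⟨C.mem hk', C.ne hk' (by norm_num) (by omega),
      (C.comm (by norm_num) hk').2 (edge_one k hk' hk).1⟩
  have hpt : ∀ m < 6, ∃ j < 693, φ j = x (sixIdx.getD m 0) := fun m hm =>
    P.surj (hnbr _ (by interval_cases m <;> decide) (by interval_cases m <;> decide))
  choose! f hf hfe using hpt
  obtain ⟨hfit, hlen, hnd, href⟩ := sixRef_ok
  let F : ℕ → ℕ := fun u => f (sixRef.idxOf u)
  have href' : ∀ u ∈ sixRef, ∀ v ∈ sixRef, perpB (F u) (F v) = perpB u v ∧ (F u = F v → u = v) ∧
      Sc φ (x 1) (F u) := by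
    intro u hu v hv
    have hm := List.idxOf_lt_length_of_mem hu
    have hn := List.idxOf_lt_length_of_mem hv
    have hu' : sixRef.getD (sixRef.idxOf u) 0 = u := by
      rw [List.getD_eq_getElem _ _ hm, List.getElem_idxOf]
    have hv' : sixRef.getD (sixRef.idxOf v) 0 = v := by
      rw [List.getD_eq_getElem _ _ hn, List.getElem_idxOf]
    rw [hlen] at hm hn
    have h := List.all_eq_true.1 (List.all_eq_true.1 href _ (List.mem_range.2 hm)) _ (List.mem_range.2 hn)
    simp only [Bool.and_eq_true, beq_iff_eq, hu', hv'] at h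
    have hI : ∀ m < 6, sixIdx.getD m 0 < 9 ∧ 3 ≤ sixIdx.getD m 0 := by decide
    refine ⟨?_, fun e => ?_, ⟨hf _ hm, ?_⟩⟩
    · rw [h.2, Bool.eq_iff_iff, ← P.comm (hf _ hm) (hf _ hn), hfe _ hm, hfe _ hn,
        C.comm (hI _ hm).1 (hI _ hn).1, Bool.not_eq_true']
    · have e' : sixIdx.getD (sixRef.idxOf u) 0 = sixIdx.getD (sixRef.idxOf v) 0 := by
        by_contra hne
        exact C.ne (hI _ hm).1 (hI _ hn).1 hne (by rw [← hfe _ hm, ← hfe _ hn, show f _ = f _ from e])
      have hinj : ∀ m < 6, ∀ n < 6, sixIdx.getD m 0 = sixIdx.getD n 0 → m = n := by decide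
      rw [← hu', ← hv', hinj _ hm _ hn e']
    · rw [hfe _ hm]
      refine Commute.symm ((C.comm (by norm_num) (hI _ hm).1).2 ?_)
      rw [(edge_one _ (hI _ hm).1 (by have := (hI _ hm).2; omega)).2]
      exact Bool.eq_false_iff.2 fun e => by
        have := Nat.eq_of_beq_eq_true e; have := (hI _ hm).2; omega
  have hp : fits pathBits [] (sixRef.map F) = true :=
    fits_congr (pre := []) (fun u hu v hv => ⟨(href' u (by simpa using hu) v (by simpa using hv)).1,
      (href' u (by simpa using hu) v (by simpa using hv)).2.1⟩) hfit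
  obtain ⟨g, hga, ns, hns, n, hn, hlow, hseed, hsc⟩ := sc_normal X P ha (C.mem (by norm_num)) hac
    (p := sixRef.map F) (fun w hw => by
      obtain ⟨u, hu, rfl⟩ := List.mem_map.1 hw
      exact (href' u hu u hu).2.2) hp
  have C' := C.conj X.hD.2.1 g
  have e0 : g * x 0 * g⁻¹ = x 0 := by rw [hga.eq, mul_inv_cancel_right]
  let c : List ℕ × List ℕ := ((nodeAt ns 0).seed, n.L)
  have hc : c ∈ finals := List.mem_flatMap.2 ⟨ns, hns, List.mem_map.2 ⟨n,
    List.mem_filter.2 ⟨hn, by simp [hlow]⟩, rfl⟩⟩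
  obtain ⟨span, hspan⟩ := case_data hc
  have K := case_of hspan
  refine ⟨g, φ, c, C', e0.symm ▸ P, hc, ?_, hsc⟩
  have hsix : ∀ m < 6, g * x (sixIdx.getD m 0) * g⁻¹ = φ (cpt c (sixIdx.getD m 0)) := by
    intro m hm
    have e := hseed
    rw [List.map_map] at e
    have h1 := congrArg (fun l => l.getD m 1) e
    have hm' : m < sixRef.length := hlen.symm ▸ hm
    have hm'' : m < c.1.length := K.len.symm ▸ hm
    simp only [List.getD_eq_getElem?_getD, List.getElem?_map, List.getElem?_eq_getElem hm',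
      List.getElem?_eq_getElem (show m < (nodeAt ns 0).seed.length from hm''), Option.map_some,
      Option.getD_some, Function.comp] at h1
    have hidx : sixRef.idxOf sixRef[m] = m := hnd.idxOf_getElem m hm'
    simp only [F, hidx, hfe m hm] at h1
    rw [h1]
    congr 1
    have h2 := congrArg (fun l => l.getD m 0) (idx_six K.len)
    simp only [List.getD_eq_getElem?_getD, List.getElem?_map] at h2 ⊢
    rw [List.getElem?_eq_getElem hm''] at h2
    have hm3 : m < sixIdx.length := hm
    rw [List.getElem?_eq_getElem hm3] at h2 ⊢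
    simpa [c] using h2
  intro k hk hk'
  by_cases h2 : k = 2
  · subst h2
    obtain ⟨j, hj, hje⟩ := P.surj (y := g * x 2 * g⁻¹) (by
      rw [← e0]
      exact ⟨C'.mem (by norm_num), C'.ne (i := 2) (j := 0) (by norm_num) (by norm_num) (by norm_num),
        (C'.comm (i := 0) (j := 2) (by norm_num) (by norm_num)).2 (by decide)⟩)
    have hmem : j ∈ cCands c.1 := by
      rw [cCands, List.mem_filter, List.mem_range]
      refine ⟨hj, fitB_iff.2 fun p hp => ?_⟩
      rw [idx_six K.len, List.zip_map_left, List.mem_map] at hp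
      obtain ⟨⟨i, b⟩, hib, rfl⟩ := hp
      have hI : ∀ q ∈ List.zip sixIdx [false, false, false, true, false, false],
          3 ≤ q.1 ∧ q.1 < 9 ∧ edge 2 q.1 = q.2 ∧ ∃ m < 6, sixIdx.getD m 0 = q.1 := by decide
      obtain ⟨hi3, hi9, hie, m, hm, hmi⟩ := hI _ hib
      have hxi := hsix m hm
      rw [hmi] at hxi
      refine ⟨fun e => C'.ne (i := 2) (j := i) (by norm_num) hi9 (by omega) ?_, ?_⟩
      · show g * x 2 * g⁻¹ = g * x i * g⁻¹
        rw [← hje, hxi, e]; rfl
      · show perpB j (cpt c i) = !b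
        rw [Bool.eq_iff_iff, ← P.comm hj (K.lt (by omega) (by omega)), hje, ← hxi,
          C'.comm (i := 2) (j := i) (by norm_num) hi9, hie, Bool.not_eq_true']
    rw [K.cands, List.mem_singleton] at hmem
    rw [← hmem, hje]
  · have hk3 : ∀ k < 9, 3 ≤ k → ∃ m < 6, sixIdx.getD m 0 = k := by decide
    obtain ⟨m, hm, rfl⟩ := hk3 k hk' (by omega)
    exact hsix m hm

/-- configurations exist -/
theorem exists_config {a : G} (ha : a ∈ D) : ∃ x, Config D x ∧ x 0 = a := by
  obtain ⟨φ, P⟩ := X.pts ha
  obtain ⟨c₀, hc₀, hac⟩ := exists_not_commute (class_of_primitive X.hD X.hprim).1 X.hprim.2.1 ha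
  obtain ⟨p, hp, hfit⟩ := sc_path X P ha hc₀ hac
  obtain ⟨g, hga, ns, hns, n, hn, hlow, -, hsc⟩ := sc_normal X P ha hc₀ hac hp hfit
  let c : List ℕ × List ℕ := ((nodeAt ns 0).seed, n.L)
  have hc : c ∈ finals := List.mem_flatMap.2 ⟨ns, hns, List.mem_map.2 ⟨n,
    List.mem_filter.2 ⟨hn, by simp [hlow]⟩, rfl⟩⟩
  obtain ⟨span, hspan⟩ := case_data hc
  have K := case_of hspan
  have hb : g * c₀ * g⁻¹ ∈ D := X.hD.2.1 g c₀ hc₀
  have hab : ¬ Commute a (g * c₀ * g⁻¹) := by
    intro h
    refine hac ((Pts.commute_iff_conj g a c₀).1 ?_)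
    rwa [hga.eq, mul_inv_cancel_right]
  have hsix : ∀ k, 3 ≤ k → k < 9 → Commute (φ (cpt c k)) (g * c₀ * g⁻¹) := fun k hk hk' => by
    have : cpt c k ∈ c.1 := by
      rw [idx_six K.len]
      refine List.mem_map.2 ⟨k, ?_, rfl⟩
      simp only [sixIdx, List.mem_cons, List.not_mem_nil, or_false]; omega
    exact ((hsc _).2 (K.six _ this)).2
  have hc2 : ¬ Commute (φ (cpt c 2)) (g * c₀ * g⁻¹) := fun h =>
    K.notMem ((hsc _).1 ⟨K.lt le_rfl (by norm_num), h⟩)
  refine ⟨fun k => bif Nat.beq k 0 then a else bif Nat.beq k 1 then g * c₀ * g⁻¹ else φ (cpt c k), ?_, rfl⟩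
  have hcases : ∀ k < 9, k = 0 ∨ k = 1 ∨ (2 ≤ k ∧ Nat.beq k 0 = false ∧ Nat.beq k 1 = false) := by
    decide +kernel
  have hmem : ∀ {k}, 2 ≤ k → k < 9 → φ (cpt c k) ∈ nbr D a := fun hk hk' => P.mem (K.lt hk (by omega))
  have hb2 : ∀ {k}, 2 ≤ k → k < 9 → (Commute (g * c₀ * g⁻¹) (φ (cpt c k)) ↔ edge 1 k = false) := by
    intro k hk hk'
    rw [(edge_one k hk' hk).2]
    by_cases h2 : k = 2
    · subst h2; exact iff_of_false (fun h => hc2 h.symm) (by decide)
    · exact iff_of_true (hsix k (by omega) hk').symm (Bool.eq_false_iff.2 fun e => h2 (Nat.eq_of_beq_eq_true e))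
  refine ⟨fun {k} hk => ?_, fun {k l} hk hl hne => ?_, fun {k l} hk hl => ?_⟩
  · rcases hcases k hk with rfl | rfl | ⟨h, e0, e1⟩
    · exact ha
    · exact hb
    · simp only [e0, e1, cond_false]; exact (hmem h hk).1
  · rcases hcases k hk with rfl | rfl | ⟨h, e0, e1⟩ <;> rcases hcases l hl with rfl | rfl | ⟨h', e0', e1'⟩
    · exact absurd rfl hne
    · exact fun e => hab (by simp only [show Nat.beq 0 0 = true from rfl, show Nat.beq 1 0 = false from rfl,
        show Nat.beq 1 1 = true from rfl, cond_true, cond_false] at e; rw [← e])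
    · simp only [show Nat.beq 0 0 = true from rfl, e0', e1', cond_true, cond_false]
      exact ((hmem h' hl).2.1).symm
    · exact fun e => hab (by simp only [show Nat.beq 0 0 = true from rfl, show Nat.beq 1 0 = false from rfl,
        show Nat.beq 1 1 = true from rfl, cond_true, cond_false] at e; rw [e])
    · exact absurd rfl hne
    · simp only [show Nat.beq 1 0 = false from rfl, show Nat.beq 1 1 = true from rfl, e0', e1', cond_true,
        cond_false]
      exact fun e => hab (e ▸ (hmem h' hl).2.2)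
    · simp only [show Nat.beq 0 0 = true from rfl, e0, e1, cond_true, cond_false]
      exact (hmem h hk).2.1
    · simp only [show Nat.beq 1 0 = false from rfl, show Nat.beq 1 1 = true from rfl, e0, e1, cond_true,
        cond_false]
      exact fun e => hab (e ▸ (hmem h hk).2.2)
    · simp only [e0, e1, e0', e1', cond_false]
      exact fun e => (K.dist h hk h' hl hne).1 (P.inj (K.lt h (by omega)) (K.lt h' (by omega)) e)
  · rcases hcases k hk with rfl | rfl | ⟨h, e0, e1⟩ <;> rcases hcases l hl with rfl | rfl | ⟨h', e0', e1'⟩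
    · exact iff_of_true (Commute.refl _) (by decide)
    · exact iff_of_false hab (by decide)
    · simp only [show Nat.beq 0 0 = true from rfl, e0', e1', cond_true, cond_false]
      exact iff_of_true (hmem h' hl).2.2 (edge_one l hl h').1
    · exact iff_of_false (fun e => hab e.symm) (by decide)
    · exact iff_of_true (Commute.refl _) (by decide)
    · simp only [show Nat.beq 1 0 = false from rfl, show Nat.beq 1 1 = true from rfl, e0', e1', cond_true,
        cond_false]
      exact hb2 h' hl
    · simp only [show Nat.beq 0 0 = true from rfl, e0, e1, cond_true, cond_false]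
      rw [edge_symm k hk 0 hl]
      exact iff_of_true (hmem h hk).2.2.symm (edge_one k hk h).1
    · simp only [show Nat.beq 1 0 = false from rfl, show Nat.beq 1 1 = true from rfl, e0, e1, cond_true,
        cond_false]
      rw [edge_symm k hk 1 hl]
      exact commute_symm_false (hb2 h hk)
    · simp only [e0, e1, e0', e1', cond_false]
      by_cases hkl : k = l
      · subst hkl
        exact iff_of_true (Commute.refl _) (edge_self k hk)
      · rw [P.comm (K.lt h (by omega)) (K.lt h' (by omega)), (K.dist h hk h' hl hkl).2, Bool.not_eq_true']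

end CfsgLib.TypeM22.Weak
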