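import Cfsg.Agent.Lib.FischerClass.Basic
import Cfsg.Agent.Lib.ThreeTransp.StringHom

/-!
A group generated by a set of 3-transpositions parametrised by a coordinate space: the stabiliser of
a point is generated by the points commuting with it and elements of 3-power order, when the
non-commuting graph of the space is connected enough.
-/

set_option autoImplicit false
set_option linter.unusedSectionVars false

namespace CfsgLib.FischerClass

open Cfsg
open CfsgLib.ThreeTransp

variable {K : Type*} [Group K] {P : Type*} {op : P → P → P} {x : P → K}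

/-- Involutions indexed by a coordinate space, conjugating as the operation says. -/
structure Lifts (op : P → P → P) (x : P → K) : Prop where
  inj : Function.Injective x
  sq : ∀ p, x p * x p = 1
  conj : ∀ p q, x (op p q) = x p * x q * x p
  braid : ∀ p q, op p q ≠ q → x p * x q * x p = x q * x p * x q

/-- Two points not commuting. -/
def Adj (op : P → P → P) (p q : P) : Prop := op p q ≠ q

/-- Connectivity of the non-commuting graph needed for the stabilisers. -/
structure Dense (op : P → P → P) : Prop where
  exists_common : ∀ e q, q ∈ Nb op e → ∃ z, Adj op z e ∧ Adj op z q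
  common_conn : ∀ e q, q ∈ Nb op e → ∀ z z', Adj op z e → Adj op z q → Adj op z' e → Adj op z' q →
    Relation.ReflTransGen (fun u v => Adj op u v ∧ Adj op v e ∧ Adj op v q) z z'
  triple : ∀ e p q, p ∈ Nb op e → q ∈ Nb op e → Adj op p q →
    ∃ z, Adj op z e ∧ Adj op z p ∧ Adj op z q

namespace Lifts

variable (L : Lifts op x)
include L

theorem inv (p : P) : (x p)⁻¹ = x p := inv_eq_of_mul_eq_one_left (L.sq p)

theorem op_op (p q : P) : op p (op p q) = q :=
  L.inj (by rw [L.conj, L.conj, show x p * (x p * x q * x p) * x p =
    (x p * x p) * x q * (x p * x p) by group, L.sq, one_mul, mul_one])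

theorem commute_iff (p q : P) : Commute (x p) (x q) ↔ op p q = q := by
  refine ⟨fun h => L.inj ?_, fun h => ?_⟩
  · rw [L.conj, h.eq, mul_assoc, L.sq, mul_one]
  · have := L.conj p q
    rw [h] at this
    show x p * x q = x q * x p
    calc x p * x q = x p * (x p * x q * x p) := by rw [← this]
      _ = (x p * x p) * x q * x p := by group
      _ = x q * x p := by rw [L.sq, one_mul]

theorem op_self (p : P) : op p p = p := (L.commute_iff p p).1 (Commute.refl _)

theorem adj_symm {p q : P} (h : Adj op p q) : Adj op q p := fun e =>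
  h ((L.commute_iff p q).1 ((L.commute_iff q p).2 e).symm)

theorem adj_ne {p q : P} (h : Adj op p q) : p ≠ q := fun e => h (e ▸ L.op_self p)

theorem nb_symm {p q : P} (h : q ∈ Nb op p) : p ∈ Nb op q :=
  ⟨h.1.symm, (L.commute_iff q p).1 ((L.commute_iff p q).2 h.2).symm⟩

theorem op_eq_symm {p q : P} (h : Adj op p q) : op p q = op q p :=
  L.inj (by rw [L.conj, L.conj, L.braid p q h])

end Lifts

variable (x) in
/-- The move of one point to an adjacent one. -/
def edge (p q : P) : K := x p * x q

variable (x op) in
/-- The subgroup generated by the neighbours of a point and the elements of 3-power order fixing it. -/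
def stabGen (extra : Set K) (e : P) : Subgroup K :=
  Subgroup.closure (x '' Nb op e ∪ {x e} ∪ extra ∪
    {k | k ∈ Subgroup.closure (Set.range x) ∧ k * x e * k⁻¹ = x e ∧ ∃ j : ℕ, k ^ 3 ^ j = 1})

variable {extra : Set K}

theorem mem_stabGen_self (e : P) : x e ∈ stabGen op x extra e :=
  Subgroup.subset_closure (Or.inl (Or.inl (Or.inr rfl)))

theorem mem_stabGen_nb {e q : P} (h : q ∈ Nb op e) : x q ∈ stabGen op x extra e :=
  Subgroup.subset_closure (Or.inl (Or.inl (Or.inl ⟨q, h, rfl⟩)))

namespace Lifts

variable (L : Lifts op x)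
include L

theorem edge_inv (p q : P) : (edge x p q)⁻¹ = edge x q p := by
  rw [edge, edge, mul_inv_rev, L.inv, L.inv]

theorem edge_conj {p q : P} (h : Adj op p q) : edge x p q * x p * (edge x p q)⁻¹ = x q := by
  rw [L.edge_inv, edge, edge, show x p * x q * x p * (x q * x p) =
    x p * (x q * x p * x q) * x p by group, ← L.braid p q h]
  calc x p * (x p * x q * x p) * x p = (x p * x p) * x q * (x p * x p) := by group
    _ = x q := by rw [L.sq, one_mul, mul_one]

theorem edge_mem_closure (p q : P) : edge x p q ∈ Subgroup.closure (Set.range x) :=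
  mul_mem (Subgroup.subset_closure ⟨p, rfl⟩) (Subgroup.subset_closure ⟨q, rfl⟩)

/-- The stabiliser generators move along. -/
theorem stabGen_conj (hextra : ∀ y ∈ extra, ∀ p, Commute y (x p)) {k : K}
    (hk : k ∈ Subgroup.closure (Set.range x)) (hperm : ∀ p, ∃ q, k * x p * k⁻¹ = x q) {e e' : P}
    (he : k * x e * k⁻¹ = x e') {u : K} (hu : u ∈ stabGen op x extra e) :
    k * u * k⁻¹ ∈ stabGen op x extra e' := by
  induction hu using Subgroup.closure_induction with
  | mem u hu =>
    rcases hu with ((⟨q, hq, rfl⟩ | hu) | hu) | ⟨hcl, hfix, j, hj⟩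
    · obtain ⟨q', hq'⟩ := hperm q
      rw [hq']
      refine mem_stabGen_nb ⟨fun h => hq.1 (L.inj ?_), (L.commute_iff _ _).1 ?_⟩
      · rw [h, ← he] at hq'
        exact mul_left_cancel (mul_right_cancel hq')
      · rw [← he, ← hq']
        exact (Commute.conj_iff k).2 ((L.commute_iff e q).2 hq.2)
    · rw [Set.mem_singleton_iff.1 hu, he]; exact mem_stabGen_self e'
    · have hc : Commute u k := by
        refine Subgroup.mem_centralizer_singleton_iff.1 ?_ |> fun h => (show Commute k u from h).symm
        refine (Subgroup.closure_le _).2 ?_ hk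
        rintro _ ⟨p, rfl⟩
        exact Subgroup.mem_centralizer_singleton_iff.2 (hextra u hu p).symm.eq
      rw [← hc.eq, mul_inv_cancel_right]
      exact Subgroup.subset_closure (Or.inl (Or.inr hu))
    · refine Subgroup.subset_closure (Or.inr ⟨mul_mem (mul_mem hk hcl) (inv_mem hk), ?_, j, ?_⟩)
      · rw [← he]
        calc k * u * k⁻¹ * (k * x e * k⁻¹) * (k * u * k⁻¹)⁻¹ = k * (u * x e * u⁻¹) * k⁻¹ := by group
          _ = _ := by rw [hfix]
      · rw [conj_pow, hj, mul_one, mul_inv_cancel]
  | one => simp
  | mul u v _ _ hu hv => rw [← conj_mul]; exact mul_mem hu hv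
  | inv u _ hu => rw [← conj_inv]; exact inv_mem hu

theorem perm_of_closure [Finite P] {k : K} (hk : k ∈ Subgroup.closure (Set.range x)) :
    ∀ p, ∃ q, k * x p * k⁻¹ = x q := by
  induction hk using Subgroup.closure_induction with
  | mem k hk =>
    obtain ⟨r, rfl⟩ := hk
    exact fun p => ⟨op r p, by rw [L.inv, L.conj]⟩
  | one => exact fun p => ⟨p, by simp⟩
  | mul u v _ _ hu hv =>
    intro p
    obtain ⟨q, hq⟩ := hv p
    obtain ⟨r, hr⟩ := hu q
    exact ⟨r, by rw [← hr, ← hq]; group⟩
  | inv u _ hu =>
    intro p
    choose g hg using hu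
    have ginj : Function.Injective g := fun a b h => L.inj (by
      have := (hg a).trans ((congrArg x h).trans (hg b).symm)
      exact mul_left_cancel (mul_right_cancel this))
    obtain ⟨q, hq⟩ := Finite.surjective_of_injective ginj p
    exact ⟨q, by rw [← hq, ← hg q]; group⟩

/-- Going round a triangle lands in the stabiliser generators. -/
theorem triangle (p q r : P) (hpq : Adj op p q) (hqr : Adj op q r) (hrp : Adj op r p) :
    edge x r p * edge x q r * edge x p q ∈ stabGen op x extra p := by
  have bpq := L.braid p q hpq
  by_cases hru : r = op p q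
  · have : edge x r p * edge x q r * edge x p q = 1 := by
      rw [edge, edge, edge, hru, L.conj]
      calc x p * x q * x p * x p * (x q * (x p * x q * x p)) * (x p * x q)
          = x p * x q * (x p * x p) * (x q * x p * x q) * (x p * x p) * x q := by group
        _ = x p * x q * (x p * x q * x p) * x q := by rw [L.sq, ← bpq, mul_one, mul_one]
        _ = (x p * x q * x p) * (x q * x p * x q) := by group
        _ = 1 := by
            rw [← bpq]
            calc x p * x q * x p * (x p * x q * x p)
                = x p * (x q * (x p * x p) * x q) * x p := by group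
              _ = 1 := by rw [L.sq, mul_one, L.sq, mul_one, L.sq]
    rw [this]; exact one_mem _
  set u := op p q with hu
  have hup : Adj op u p := L.adj_symm fun e => hpq (by rwa [hu, L.op_op, eq_comm] at e)
  have hxy : x q = x p * x u * x p := by rw [← L.conj, hu, L.op_op]
  by_cases hur : op u r = r
  · -- the dual affine plane
    have hac : x u * x r = x r * x u := ((L.commute_iff u r).2 hur).eq
    obtain ⟨φ, h0, h1, h2⟩ := exists_hom_perm_four (L.sq u) (L.sq p) (L.sq r)
      (L.braid u p hup) (L.braid p r (L.adj_symm hrp)) hac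
    have key : ∀ (A B C : Equiv.Perm (Fin 4)), A = Equiv.swap 0 1 → B = Equiv.swap 1 2 →
        C = Equiv.swap 2 3 →
        C * B * (B * A * B * C) * (B * (B * A * B)) = 1 ∨
        C * B * (B * A * B * C) * (B * (B * A * B)) = B ∨
        C * B * (B * A * B * C) * (B * (B * A * B)) = A * (B * C * B) * A ∨
        C * B * (B * A * B * C) * (B * (B * A * B)) = B * (A * (B * C * B) * A) := by
      rintro A B C rfl rfl rfl; decide
    have hval : edge x r p * edge x q r * edge x p q = φ (Equiv.swap 2 3 * Equiv.swap 1 2 *
        (Equiv.swap 1 2 * Equiv.swap 0 1 * Equiv.swap 1 2 * Equiv.swap 2 3) *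
        (Equiv.swap 1 2 * (Equiv.swap 1 2 * Equiv.swap 0 1 * Equiv.swap 1 2))) := by
      simp only [map_mul, h0, h1, h2, edge, hxy]
    have hp' : φ (Equiv.swap 0 1 * (Equiv.swap 1 2 * Equiv.swap 2 3 * Equiv.swap 1 2) *
        Equiv.swap 0 1) = x (op u (op p r)) := by
      simp only [map_mul, h0, h1, h2, L.conj]
    have hp'mem : x (op u (op p r)) ∈ stabGen op x extra p := by
      rcases eq_or_ne (op u (op p r)) p with e | e
      · rw [e]; exact mem_stabGen_self p
      · refine mem_stabGen_nb ⟨e, (L.commute_iff _ _).1 ?_⟩
        rw [← hp', ← h1]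
        exact (show Commute (Equiv.swap (1 : Fin 4) 2) _ from by show _ = _; decide).map φ
    rw [hval]
    rcases key _ _ _ rfl rfl rfl with e | e | e | e <;> rw [e]
    · rw [map_one]; exact one_mem _
    · rw [h1]; exact mem_stabGen_self p
    · rw [hp']; exact hp'mem
    · rw [map_mul, h1, hp']; exact mul_mem (mem_stabGen_self p) hp'mem
  · -- the affine plane
    set a := x p * x q with ha
    set b := x p * x r with hb
    have order3 : ∀ {s t : P}, Adj op s t → (x s * x t) ^ 3 = 1 := fun {s t} h => by
      rw [pow_three]
      calc x s * x t * (x s * x t * (x s * x t))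
          = (x s * x t * x s) * (x t * x s * x t) := by group
        _ = 1 := by
            rw [← L.braid s t h]
            calc x s * x t * x s * (x s * x t * x s)
                = x s * (x t * (x s * x s) * x t) * x s := by group
              _ = 1 := by rw [L.sq, mul_one, L.sq, mul_one, L.sq]
    have a3 : a ^ 3 = 1 := order3 hpq
    have b3 : b ^ 3 = 1 := order3 (L.adj_symm hrp)
    have c3 : (a⁻¹ * b) ^ 3 = 1 := by
      have : a⁻¹ * b = x q * x r := by
        rw [ha, hb, mul_inv_rev, L.inv, L.inv, mul_assoc, ← mul_assoc (x p) (x p), L.sq, one_mul]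
      rw [this]; exact order3 hqr
    have d3 : (a * b) ^ 3 = 1 := by
      have : a * b = x u * x r := by rw [ha, hb, hu, L.conj]; group
      rw [this]; exact order3 hur
    have hmu : edge x r p * edge x q r * edge x p q = b⁻¹ * (a⁻¹ * b * a) := by
      rw [ha, hb]
      simp only [edge, mul_inv_rev, L.inv]
      calc x r * x p * (x q * x r) * (x p * x q)
          = x r * x p * (x q * (x p * x p) * x r * (x p * x q)) := by rw [L.sq]; group
        _ = _ := by group
    set s := a⁻¹ * a⁻¹ * b * a * a
    set t := a⁻¹ * b * a
    have e1 : s * t * b = 1 := by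
      calc s * t * b = a⁻¹ ^ 3 * (a * b * (a * b) * (a * b)) := by simp only [s, t]; group
        _ = 1 := by rw [← pow_three', d3, inv_pow, a3, inv_one, one_mul]
    have e2 : t * s * b = 1 := by
      have h3 : a⁻¹ ^ 3 = 1 := by rw [inv_pow, a3, inv_one]
      calc t * s * b = a⁻¹ * b * a⁻¹ * b * (a * a) * b := by simp only [s, t]; group
        _ = a⁻¹ * b * (a⁻¹ * b) * (a⁻¹ * b) := by
            rw [show a * a = a⁻¹ from (eq_inv_of_mul_eq_one_left (by rw [← pow_three']; exact a3))]
            group
        _ = 1 := by rw [← pow_three', c3]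
    have hst : Commute s t := mul_right_cancel (e1.trans e2.symm)
    have hbt : Commute b⁻¹ t := by
      rw [← eq_inv_of_mul_eq_one_left e1]
      exact hst.mul_left (Commute.refl t)
    refine Subgroup.subset_closure (Or.inr ⟨?_, ?_, 1, ?_⟩)
    · exact mul_mem (mul_mem (L.edge_mem_closure r p) (L.edge_mem_closure q r)) (L.edge_mem_closure p q)
    · have e1 := L.edge_conj hpq
      have e2 := L.edge_conj hqr
      have e3 := L.edge_conj hrp
      calc edge x r p * edge x q r * edge x p q * x p *
            (edge x r p * edge x q r * edge x p q)⁻¹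
          = edge x r p * (edge x q r * (edge x p q * x p * (edge x p q)⁻¹) * (edge x q r)⁻¹) *
              (edge x r p)⁻¹ := by group
        _ = x p := by rw [e1, e2, e3]
    · rw [pow_one, hmu, hbt.mul_pow, inv_pow, b3, inv_one, one_mul,
        show t = a⁻¹ * b * a⁻¹⁻¹ by simp [t], conj_pow, b3, mul_one, mul_inv_cancel]

end Lifts

end CfsgLib.FischerClass
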