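import Cfsg.Agent.Lib.FischerClass.Coords
import Cfsg.Agent.Lib.Classical.OrthSub
import Cfsg.Agent.Lib.Fischer.OrthThreeClass

/-!
The coordinate space of reflections of norm one over the field with three elements: norms in subspaces,
points separating singular lines, and the orbit of a singular vector.
-/

set_option autoImplicit false
set_option linter.unusedSectionVars false

namespace CfsgLib.FischerClass

open Cfsg CfsgLib.Orth

/-- The points of norm one. -/
abbrev RP {ι : Type} [Fintype ι] [DecidableEq ι] (Q : QuadraticForm (ZMod 3) (ι → ZMod 3)) : Type :=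
  {x : Projectivization (ZMod 3) (ι → ZMod 3) // Q x.rep = 1}

variable {ι : Type} [Fintype ι] [DecidableEq ι] {Q : QuadraticForm (ZMod 3) (ι → ZMod 3)}

local notation "B" => QuadraticMap.polar (DFunLike.coe Q)

theorem f3_sq {c : ZMod 3} (h : c ≠ 0) : c * c = 1 := by revert c; decide

theorem f3_cases {c : ZMod 3} (h : c ≠ 0) : c = 1 ∨ c = 2 := by revert c; decide

theorem f3_two : (2 : ZMod 3) ≠ 0 := by decide

theorem ne_of_norm {v : ι → ZMod 3} (h : Q v = 1) : v ≠ 0 := fun e => by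
  rw [e, QuadraticMap.map_zero] at h
  exact zero_ne_one h

/-- The point of a vector of norm one. -/
noncomputable def mkR (v : ι → ZMod 3) (h : Q v = 1) : RP Q :=
  ⟨Projectivization.mk (ZMod 3) v (ne_of_norm h), by
    obtain ⟨a, ha⟩ := Projectivization.exists_smul_eq_mk_rep (ZMod 3) v (ne_of_norm h)
    rw [← ha, Units.smul_def, q_smul, f3_sq a.ne_zero, one_mul, h]⟩

theorem mkR_rep (v : ι → ZMod 3) (h : Q v = 1) : ∃ c : ZMod 3, c ≠ 0 ∧ (mkR v h).1.rep = c • v := by
  obtain ⟨a, ha⟩ := Projectivization.exists_smul_eq_mk_rep (ZMod 3) v (ne_of_norm h)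
  exact ⟨a, a.ne_zero, ha.symm⟩

theorem mkR_self (p : RP Q) : mkR p.1.rep p.2 = p := Subtype.ext p.1.mk_rep

theorem rp_eq {p q : RP Q} {c : ZMod 3} (h : p.1.rep = c • q.1.rep) : p = q := by
  refine Subtype.ext ?_
  rw [← p.1.mk_rep, ← q.1.mk_rep, Projectivization.mk_eq_mk_iff']
  exact ⟨c, h.symm⟩

theorem mkR_eq_iff {v w : ι → ZMod 3} {hv : Q v = 1} {hw : Q w = 1} :
    mkR v hv = mkR w hw ↔ ∃ c : ZMod 3, c • w = v := by
  rw [Subtype.ext_iff]
  exact Projectivization.mk_eq_mk_iff' (ZMod 3) v w _ _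

theorem refl_norm {u v : ι → ZMod 3} (hu : Q u = 1) (hv : Q v = 1) : Q (v - B u v • u) = 1 := by
  rw [q_sub, q_smul, b_smul_right, hu, hv, b_comm v u]
  ring

/-- The reflection at the first point applied to the second. -/
noncomputable def rop (p q : RP Q) : RP Q :=
  mkR (q.1.rep - B p.1.rep q.1.rep • p.1.rep) (refl_norm p.2 q.2)

theorem rop_mk {u v : ι → ZMod 3} {hu : Q u = 1} {hv : Q v = 1} :
    rop (mkR u hu) (mkR v hv) = mkR (v - B u v • u) (refl_norm hu hv) := by
  obtain ⟨a, ha, ea⟩ := mkR_rep u hu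
  obtain ⟨b, hb, eb⟩ := mkR_rep v hv
  refine mkR_eq_iff.2 ⟨b, ?_⟩
  rw [ea, eb, b_smul_left, b_smul_right, smul_sub, smul_smul, smul_smul]
  congr 2
  linear_combination -b * B u v * f3_sq ha

theorem rop_eq_iff (p q : RP Q) : rop p q = q ↔ q = p ∨ B p.1.rep q.1.rep = 0 := by
  constructor
  · intro h
    conv_rhs at h => rw [← mkR_self q]
    obtain ⟨c, hc⟩ := mkR_eq_iff.1 h
    refine or_iff_not_imp_right.2 fun hb => ?_
    have hne : (1 - c) ≠ 0 := fun e => by
      rw [← sub_eq_zero.1 e, one_smul, eq_comm, sub_eq_self, smul_eq_zero] at hc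
      exact hc.elim hb p.1.rep_nonzero
    refine rp_eq (c := (1 - c)⁻¹ * B p.1.rep q.1.rep) ?_
    rw [mul_smul, eq_inv_smul_iff₀ hne, sub_smul, one_smul, hc, sub_sub_cancel]
  · rintro (rfl | h)
    · conv_rhs => rw [← mkR_self q]
      refine mkR_eq_iff.2 ⟨2, ?_⟩
      rw [b_self, q.2, mul_one, eq_sub_iff_add_eq, ← add_smul]
      exact (one_smul (ZMod 3) _)
    · conv_rhs => rw [← mkR_self q]
      exact mkR_eq_iff.2 ⟨1, by rw [h, zero_smul, sub_zero, one_smul]⟩

theorem nbR_iff' (p q : RP Q) : q ∈ Nb rop p ↔ B p.1.rep q.1.rep = 0 := by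
  show q ≠ p ∧ _ ↔ _
  rw [rop_eq_iff]
  constructor
  · exact fun h => h.2.resolve_left h.1
  · intro h
    refine ⟨?_, Or.inr h⟩
    rintro rfl
    rw [b_self, q.2, mul_one] at h
    exact f3_two h

theorem mkR_nb {A : RP Q} {v : ι → ZMod 3} (hv : Q v = 1) (h : B A.1.rep v = 0) :
    mkR v hv ∈ Nb rop A := by
  obtain ⟨c, -, hc⟩ := mkR_rep v hv
  rw [nbR_iff', hc, b_smul_right, h, mul_zero]

theorem adjR_iff (p q : RP Q) : Adj rop p q ↔ q ≠ p ∧ B p.1.rep q.1.rep ≠ 0 := by
  rw [Adj, Ne, rop_eq_iff, not_or]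

theorem adj_mk {A : RP Q} {v : ι → ZMod 3} (hv : Q v = 1) :
    Adj rop (mkR v hv) A ↔ mkR v hv ≠ A ∧ B v A.1.rep ≠ 0 := by
  obtain ⟨c, hc, e⟩ := mkR_rep v hv
  rw [adjR_iff, e, b_smul_left, mul_ne_zero_iff, and_iff_right hc, ne_comm]

/-- A vector tells two points apart. -/
theorem adj_of {A : RP Q} {v : ι → ZMod 3} (hv : Q v = 1) (w : ι → ZMod 3) (h1 : B v w ≠ 0)
    (h2 : B A.1.rep w = 0) (h : B v A.1.rep ≠ 0) : Adj rop (mkR v hv) A := by
  refine (adj_mk hv).2 ⟨?_, h⟩
  rintro rfl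
  obtain ⟨c, hc, e⟩ := mkR_rep v hv
  rw [e, b_smul_left, mul_eq_zero, or_iff_right hc] at h2
  exact h1 h2

/-- The vectors orthogonal to finitely many. -/
def perpS (Q : QuadraticForm (ZMod 3) (ι → ZMod 3)) (s : Set (ι → ZMod 3)) :
    Submodule (ZMod 3) (ι → ZMod 3) :=
  orth Q (Submodule.span (ZMod 3) s)

theorem mem_perpS {s : Set (ι → ZMod 3)} {x : ι → ZMod 3} : x ∈ perpS Q s ↔ ∀ v ∈ s, B v x = 0 :=
  mem_orth_span

/-- The vectors of a subspace orthogonal to a vector of non-zero norm form a non-degenerate subspace. -/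
theorem cut_nondeg {W : Submodule (ZMod 3) (ι → ZMod 3)} (hW : NondegOn Q W) {p : ι → ZMod 3} (hp : p ∈ W)
    (hp0 : Q p ≠ 0) : NondegOn Q (W ⊓ perpS Q {p}) := by
  intro x hx h
  refine hW x hx.1 fun y hy => ?_
  have hBp : B p x = 0 := mem_perpS.1 hx.2 p rfl
  have hy' : y - (B p y * (2 * Q p)⁻¹) • p ∈ W ⊓ perpS Q {p} := by
    refine ⟨W.sub_mem hy (W.smul_mem _ hp), mem_perpS.2 fun v hv => ?_⟩
    rw [Set.mem_singleton_iff.1 hv, b_sub_right, b_smul_right, b_self,
      inv_mul_cancel_right₀ (mul_ne_zero f3_two hp0), sub_self]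
  have := h _ hy'
  rwa [b_sub_right, b_smul_right, b_comm x p, hBp, mul_zero, sub_zero] at this

theorem cut_finrank (hB : Nondeg Q) {W : Submodule (ZMod 3) (ι → ZMod 3)} (v : ι → ZMod 3) :
    Module.finrank (ZMod 3) W ≤ Module.finrank (ZMod 3) ↥(W ⊓ perpS Q {v}) + 1 := by
  refine (finrank_relOrth hB W (Submodule.span (ZMod 3) {v})).trans (Nat.add_le_add_left ?_ _)
  have := finrank_span_finset_le_card (R := ZMod 3) ({v} : Finset (ι → ZMod 3))
  rwa [Set.finrank, Finset.coe_singleton, Finset.card_singleton] at this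

theorem cut_finrank_lt {W : Submodule (ZMod 3) (ι → ZMod 3)} {v : ι → ZMod 3} (hv : v ∈ W) (h : Q v ≠ 0) :
    Module.finrank (ZMod 3) ↥(W ⊓ perpS Q {v}) < Module.finrank (ZMod 3) W := by
  refine Submodule.finrank_lt_finrank_of_lt (lt_of_le_of_ne inf_le_left fun e => ?_)
  have := mem_perpS.1 ((inf_eq_left.1 e) hv) v rfl
  rw [b_self, mul_eq_zero] at this
  exact h (this.resolve_left f3_two)

theorem exists_ne_zero {W : Submodule (ZMod 3) (ι → ZMod 3)} (h : 1 ≤ Module.finrank (ZMod 3) W) :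
    ∃ v ∈ W, v ≠ 0 := by
  refine W.exists_mem_ne_zero_of_ne_bot fun e => ?_
  rw [e, finrank_bot] at h
  omega

theorem exists_aniso_in {W : Submodule (ZMod 3) (ι → ZMod 3)} (hW : NondegOn Q W)
    (h : 1 ≤ Module.finrank (ZMod 3) W) : ∃ v ∈ W, Q v ≠ 0 := by
  by_contra! hc
  obtain ⟨v, hv, hv0⟩ := exists_ne_zero h
  refine hv0 (hW v hv fun y hy => ?_)
  have := hc (v + y) (W.add_mem hv hy)
  rwa [q_add, hc v hv, hc y hy, add_zero, zero_add] at this

/-- A non-degenerate subspace of dimension at least two has vectors of every norm. -/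
theorem exists_norm (hB : Nondeg Q) {W : Submodule (ZMod 3) (ι → ZMod 3)} (hW : NondegOn Q W)
    (h2 : 2 ≤ Module.finrank (ZMod 3) W) {c : ZMod 3} (hc : c ≠ 0) : ∃ v ∈ W, Q v = c := by
  obtain ⟨v, hv, hv0⟩ := exists_aniso_in hW (by omega)
  by_cases h : Q v = c
  · exact ⟨v, hv, h⟩
  obtain ⟨w, hw, hw0⟩ := exists_aniso_in (cut_nondeg hW hv hv0) (by have := cut_finrank (W := W) hB v; omega)
  by_cases h' : Q w = c
  · exact ⟨w, hw.1, h'⟩
  refine ⟨v + w, W.add_mem hv hw.1, ?_⟩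
  rw [q_add, mem_perpS.1 hw.2 v rfl, add_zero]
  revert hv0 hw0 h h'
  generalize Q v = a
  generalize Q w = b
  revert a b c
  decide +kernel

/-- A functional on a non-degenerate subspace is a product. -/
theorem exists_pair_vec {W : Submodule (ZMod 3) (ι → ZMod 3)} (hW : NondegOn Q W) {x y : ι → ZMod 3}
    (hy : y ∈ W) (hx : x ∈ W) (hxy : x ≠ 0) (h : y ∉ Submodule.span (ZMod 3) {x}) (hB : Nondeg Q) (a : ZMod 3) :
    ∃ z ∈ W, B x z = a ∧ B y z = 1 := by
  have hnot : y ∉ orth Q W ⊔ Submodule.span (ZMod 3) {x} := fun hm => by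
    obtain ⟨w, hw, p, hp, e⟩ := Submodule.mem_sup.1 hm
    have hpW : p ∈ W := by
      obtain ⟨k, rfl⟩ := Submodule.mem_span_singleton.1 hp
      exact W.smul_mem _ hx
    have hw0 : w = 0 := nondeg_inf hW (by rw [show w = y - p by rw [← e]; abel]; exact W.sub_mem hy hpW) hw
    rw [hw0, zero_add] at e
    exact h (e ▸ hp)
  obtain ⟨z, hz, hyz⟩ := exists_orth_one hB hnot
  have hzW : z ∈ W := by
    rw [← orth_orth hB W]
    exact orth_le le_sup_left hz
  have hxz : B x z = 0 := hz x (Submodule.mem_sup_right (Submodule.mem_span_singleton_self x))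
  by_cases ha : a = 0
  · exact ⟨z, hzW, hxz.trans ha.symm, hyz⟩
  have hnot' : x ∉ orth Q W ⊔ Submodule.span (ZMod 3) {y} := fun hm => by
    obtain ⟨w, hw, p, hp, e⟩ := Submodule.mem_sup.1 hm
    obtain ⟨k, rfl⟩ := Submodule.mem_span_singleton.1 hp
    have hw0 : w = 0 := nondeg_inf hW
      (by rw [show w = x - k • y by rw [← e]; abel]; exact W.sub_mem hx (W.smul_mem _ hy)) hw
    rw [hw0, zero_add] at e
    have hk : k ≠ 0 := fun hk => hxy (by rw [← e, hk, zero_smul])
    exact h (Submodule.mem_span_singleton.2 ⟨k⁻¹, by rw [← e, smul_smul, inv_mul_cancel₀ hk, one_smul]⟩)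
  obtain ⟨z', hz', hxz'⟩ := exists_orth_one hB hnot'
  have hz'W : z' ∈ W := by
    rw [← orth_orth hB W]
    exact orth_le le_sup_left hz'
  have hyz' : B y z' = 0 := hz' y (Submodule.mem_sup_right (Submodule.mem_span_singleton_self y))
  refine ⟨z + a • z', W.add_mem hzW (W.smul_mem _ hz'W), ?_, ?_⟩
  · rw [b_add_right, b_smul_right, hxz, hxz', mul_one, zero_add]
  · rw [b_add_right, b_smul_right, hyz, hyz', mul_zero, add_zero]

/-- The points orthogonal to a singular vector determine its line. -/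
theorem perp_points (hB : Nondeg Q) {W : Submodule (ZMod 3) (ι → ZMod 3)} (hW : NondegOn Q W)
    {x y : ι → ZMod 3} (hx : x ∈ W) (hy : y ∈ W) (hx0 : x ≠ 0) (hxq : Q x = 0) (hyq : Q y = 0)
    (hplane : B x y ≠ 0 → ∃ u ∈ W, Q u = 1 ∧ B x u = 0 ∧ B y u = 0)
    (h : ∀ u ∈ W, Q u = 1 → B x u = 0 → B y u = 0) : y ∈ Submodule.span (ZMod 3) {x} := by
  by_contra hno
  by_cases hxy : B x y = 0
  · obtain ⟨z, hz, hxz, hyz⟩ := exists_pair_vec hW hy hx hx0 hno hB 0
    have hq : Q (z + (1 - Q z) • y) = 1 := by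
      rw [q_add, q_smul, hyq, b_smul_right, b_comm z y, hyz]; ring
    have := h _ (W.add_mem hz (W.smul_mem _ hy)) hq (by rw [b_add_right, b_smul_right, hxz, hxy]; ring)
    rw [b_add_right, b_smul_right, hyz, b_self_zero hyq, mul_zero, add_zero] at this
    exact one_ne_zero this
  · obtain ⟨u, hu, hu1, hxu, hyu⟩ := hplane hxy
    have hq : Q (u + x) = 1 := by rw [q_add, hu1, hxq, b_comm u x, hxu]; ring
    have := h _ (W.add_mem hu hx) hq (by rw [b_add_right, hxu, b_self_zero hxq, add_zero])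
    rw [b_add_right, hyu, zero_add, b_comm] at this
    exact hxy this

/-- In dimension four the plane of two singular vectors has a point orthogonal to it. -/
theorem plane_point (hB : Nondeg Q) {W : Submodule (ZMod 3) (ι → ZMod 3)} (hW : NondegOn Q W)
    (h4 : 4 ≤ Module.finrank (ZMod 3) W) {x y : ι → ZMod 3} (hx : x ∈ W) (hy : y ∈ W) (hxq : Q x = 0)
    (hyq : Q y = 0) (hxy : B x y ≠ 0) : ∃ u ∈ W, Q u = 1 ∧ B x u = 0 ∧ B y u = 0 := by
  have h1 : Q (x + B x y • y) ≠ 0 := by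
    rw [q_add, q_smul, hxq, hyq, b_smul_right, f3_sq hxy]; simp
  have h2 : Q (x - B x y • y) ≠ 0 := by
    rw [q_sub, q_smul, hxq, hyq, b_smul_right, f3_sq hxy]; decide +kernel
  have hd : B (x + B x y • y) (x - B x y • y) = 0 := by
    simp only [b_add_left, b_sub_right, b_smul_left, b_smul_right, b_self_zero hxq, b_self_zero hyq,
      b_comm y x]
    ring
  have hW1 := cut_nondeg hW (W.add_mem hx (W.smul_mem _ hy)) h1
  have hm : x - B x y • y ∈ W ⊓ perpS Q {x + B x y • y} :=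
    ⟨W.sub_mem hx (W.smul_mem _ hy), mem_perpS.2 fun v hv => by rw [Set.mem_singleton_iff.1 hv, hd]⟩
  have f1 := cut_finrank (W := W) hB (x + B x y • y)
  have f2 := cut_finrank (W := W ⊓ perpS Q {x + B x y • y}) hB (x - B x y • y)
  obtain ⟨u, hu, hu1⟩ := exists_norm hB (cut_nondeg hW1 hm h2) (by omega) one_ne_zero
  have a1 := mem_perpS.1 hu.1.2 _ rfl
  have a2 := mem_perpS.1 hu.2 _ rfl
  rw [b_add_left, b_smul_left] at a1
  rw [b_sub_left, b_smul_left] at a2
  have ex : B x u = 0 := by linear_combination 2 * a1 + 2 * a2 - B x u * Fischer.three_eq_zero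
  refine ⟨u, hu.1.1, hu1, ex, (mul_eq_zero.1 ?_).resolve_left hxy⟩
  linear_combination a1 - ex

/-- A property of singular vectors invariant under sign and reflections is constant. -/
theorem sing_orbit (hB : Nondeg Q) {W : Submodule (ZMod 3) (ι → ZMod 3)} (hW : NondegOn Q W)
    (p : (ι → ZMod 3) → Prop) (hneg : ∀ x ∈ W, Q x = 0 → x ≠ 0 → p x → p (-x))
    (hrefl : ∀ x ∈ W, Q x = 0 → x ≠ 0 → ∀ u ∈ W, Q u = 1 → p x → p (x - B u x • u))
    {x y : ι → ZMod 3} (hx : x ∈ W) (hy : y ∈ W) (hxq : Q x = 0) (hyq : Q y = 0) (hx0 : x ≠ 0)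
    (hy0 : y ≠ 0) (h : p x) : p y := by
  have key : ∀ x y, x ∈ W → y ∈ W → Q x = 0 → Q y = 0 → x ≠ 0 → y ≠ 0 → B x y ≠ 0 → p x → p y := by
    intro x y hx hy hxq hyq hx0 hy0 hxy h
    have step : ∀ y, y ∈ W → Q y = 0 → B x y = 2 → p y := by
      intro y hy hyq hxy
      have hu : Q (x - y) = 1 := by rw [q_sub, hxq, hyq, hxy]; decide +kernel
      have := hrefl x hx hxq hx0 (x - y) (W.sub_mem hx hy) hu h
      rwa [b_sub_left, b_self_zero hxq, b_comm y x, hxy, show (0 : ZMod 3) - 2 = 1 by decide +kernel,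
        one_smul, sub_sub_cancel] at this
    rcases f3_cases hxy with e | e
    · have h1 := step (-y) (W.neg_mem hy) (by rw [QuadraticMap.map_neg, hyq]) (by
        rw [show -y = (2 : ZMod 3) • y by funext i; simp; generalize y i = c; revert c; decide +kernel,
          b_smul_right, e, mul_one])
      simpa using hneg (-y) (W.neg_mem hy) (by rw [QuadraticMap.map_neg, hyq]) (neg_ne_zero.2 hy0) h1
    · exact step y hy hyq e
  by_cases hxy : B x y = 0
  swap
  · exact key x y hx hy hxq hyq hx0 hy0 hxy h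
  by_cases hspan : y ∈ Submodule.span (ZMod 3) {x}
  · obtain ⟨k, rfl⟩ := Submodule.mem_span_singleton.1 hspan
    have hk : k ≠ 0 := fun e => hy0 (by rw [e, zero_smul])
    rcases f3_cases hk with rfl | rfl
    · rwa [one_smul]
    · rw [show (2 : ZMod 3) • x = -x by funext i; simp; generalize x i = c; revert c; decide +kernel]
      exact hneg x hx hxq hx0 h
  obtain ⟨z, hz, hxz, hyz⟩ := exists_pair_vec hW hy hx hx0 hspan hB 1
  set w := z + (-Q z) • x
  have hw : w ∈ W := W.add_mem hz (W.smul_mem _ hx)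
  have hwq : Q w = 0 := by rw [q_add, q_smul, hxq, b_smul_right, b_comm z x, hxz]; ring
  have hxw : B x w = 1 := by rw [b_add_right, b_smul_right, hxz, b_self_zero hxq]; ring
  have hyw : B w y = 1 := by rw [b_comm, b_add_right, b_smul_right, hyz, b_comm y x, hxy]; ring
  have hw0 : w ≠ 0 := ne_zero_of_b (y := y) (by rw [hyw]; exact one_ne_zero)
  exact key w y hw hy hwq hyq hw0 hy0 (by rw [hyw]; exact one_ne_zero)
    (key x w hx hw hxq hwq hx0 hw0 (by rw [hxw]; exact one_ne_zero) h)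

theorem perp_nondeg (hB : Nondeg Q) {v : ι → ZMod 3} (hv : Q v ≠ 0) : NondegOn Q (perpS Q {v}) := by
  have := cut_nondeg (W := ⊤) (fun x _ h => hB x fun y => h y trivial) (p := v) trivial hv
  rwa [top_inf_eq] at this

theorem perp_finrank (hB : Nondeg Q) {v : ι → ZMod 3} (hv : Q v ≠ 0) :
    Module.finrank (ZMod 3) (perpS Q {v}) + 1 = Fintype.card ι := by
  have h1 := cut_finrank (W := ⊤) hB v
  have h2 := cut_finrank_lt (W := ⊤) (v := v) trivial hv
  rw [top_inf_eq] at h1 h2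
  rw [finrank_top, Module.finrank_fintype_fun_eq_card] at h1 h2
  omega

theorem neg_eq_two (x : ι → ZMod 3) : -x = (2 : ZMod 3) • x := by
  funext i; simp only [Pi.neg_apply, Pi.smul_apply, smul_eq_mul]; generalize x i = c; revert c; decide +kernel

theorem rop_dense (hB : Nondeg Q) (hn : 5 ≤ Fintype.card ι) : Dense (rop (Q := Q)) := by
  have getT : ∀ e p : RP Q, B e.1.rep p.1.rep = 0 →
      ∃ t, B e.1.rep t = 0 ∧ B p.1.rep t = 0 ∧ Q t = 2 := by
    intro e p h
    have he : Q e.1.rep ≠ 0 := by rw [e.2]; exact one_ne_zero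
    have hp : Q p.1.rep ≠ 0 := by rw [p.2]; exact one_ne_zero
    have hm : p.1.rep ∈ perpS Q {e.1.rep} := mem_perpS.2 fun v hv => by rw [Set.mem_singleton_iff.1 hv, h]
    have f1 := perp_finrank hB he
    have f2 := cut_finrank (W := perpS Q {e.1.rep}) hB p.1.rep
    obtain ⟨t, ht, ht2⟩ := exists_norm hB (cut_nondeg (perp_nondeg hB he) hm hp) (by omega) f3_two
    exact ⟨t, mem_perpS.1 ht.1 _ rfl, mem_perpS.1 ht.2 _ rfl, ht2⟩
  have hsum : ∀ e q : RP Q, B e.1.rep q.1.rep = 0 → ∀ (b : ZMod 3), b ≠ 0 → ∀ t, B e.1.rep t = 0 →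
      B q.1.rep t = 0 → Q t = 2 → Q (e.1.rep + b • q.1.rep + t) = 1 := by
    intro e q h b hb t h1 h2 h3
    rw [q_add, q_add, q_smul, b_smul_right, b_add_left, b_smul_left, e.2, q.2, h, h1, h2, h3, f3_sq hb]
    simp
    decide +kernel
  refine ⟨fun e q hq => ?_, fun e q hq z z' hze hzq hz'e hz'q => ?_, fun e p q hp hq hpq => ?_⟩
  · rw [nbR_iff'] at hq
    obtain ⟨t, h1, h2, h3⟩ := getT e q hq
    have he : B (e.1.rep + (1 : ZMod 3) • q.1.rep + t) e.1.rep ≠ 0 := by
      rw [b_add_left, b_add_left, b_smul_left, b_self, e.2, b_comm q.1.rep, hq, b_comm t, h1]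
      simpa using f3_two
    have hq' : B (e.1.rep + (1 : ZMod 3) • q.1.rep + t) q.1.rep ≠ 0 := by
      rw [b_add_left, b_add_left, b_smul_left, b_self, q.2, hq, b_comm t, h2]
      simpa using f3_two
    have hv := hsum e q hq 1 one_ne_zero t h1 h2 h3
    exact ⟨mkR _ hv, adj_of hv _ hq' hq he, adj_of hv _ he (by rw [b_comm, hq]) hq'⟩
  · rw [nbR_iff'] at hq
    have hform : ∀ z : RP Q, Adj rop z e → Adj rop z q → ∃ (b : ZMod 3) (t : ι → ZMod 3), b ≠ 0 ∧ B e.1.rep t = 0 ∧ B q.1.rep t = 0 ∧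
        Q t = 2 ∧ ∃ h, z = mkR (e.1.rep + b • q.1.rep + t) h := by
      intro z hze hzq
      rw [adjR_iff] at hze hzq
      replace hze := hze.2
      replace hzq := hzq.2
      set a := B z.1.rep e.1.rep
      set c := B z.1.rep q.1.rep
      have h2 : (2 : ZMod 3)⁻¹ = 2 := by decide +kernel
      set t := (2 * a) • z.1.rep - e.1.rep - (a * c) • q.1.rep
      have h1 : B e.1.rep t = 0 := by
        simp only [t, b_sub_right, b_smul_right, b_self, e.2, hq, b_comm e.1.rep z.1.rep]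
        linear_combination 2 * (f3_sq hze)
      have h3 : B q.1.rep t = 0 := by
        simp only [t, b_sub_right, b_smul_right, b_self, q.2, b_comm q.1.rep z.1.rep, b_comm q.1.rep e.1.rep, hq]
        ring
      have hz : (2 * a) • z.1.rep = e.1.rep + (a * c) • q.1.rep + t := by simp only [t]; abel
      have h4 : Q t = 2 := by
        have h := q_smul (Q := Q) (2 * a) z.1.rep
        rw [hz, q_add, q_add, q_smul, b_smul_right, b_add_left, b_smul_left, e.2, q.2, hq, h1, h3, z.2] at h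
        linear_combination h + (4 : ZMod 3) * f3_sq hze - f3_sq (mul_ne_zero hze hzq)
      refine ⟨a * c, t, mul_ne_zero hze hzq, h1, h3, h4, hsum e q hq _ (mul_ne_zero hze hzq) t h1 h3 h4, ?_⟩
      rw [← mkR_self z, mkR_eq_iff]
      refine ⟨(2 * a)⁻¹, ?_⟩
      rw [← hz, smul_smul, inv_mul_cancel₀ (mul_ne_zero f3_two hze), one_smul]
    obtain ⟨b, t, hb, h1, h2, h3, hv, rfl⟩ := hform z hze hzq
    obtain ⟨b', t', hb', h1', h2', h3', hv', rfl⟩ := hform z' hz'e hz'q
    have hadj : ∀ (x y : ZMod 3) (s s' : ι → ZMod 3), B e.1.rep s = 0 → B q.1.rep s = 0 →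
        B e.1.rep s' = 0 → B q.1.rep s' = 0 → ∀ (hs : Q (e.1.rep + x • q.1.rep + s) = 1)
        (hs' : Q (e.1.rep + y • q.1.rep + s') = 1),
        mkR _ hs ≠ mkR _ hs' → 2 + 2 * (x * y) + B s s' ≠ 0 →
          Adj rop (mkR _ hs) (mkR _ hs') := by
      intro x y s s' a1 a2 a3 a4 hs hs' hne h
      obtain ⟨k, hk, ek⟩ := mkR_rep _ hs'
      rw [adj_mk, and_iff_right hne, ek, b_smul_right]
      refine mul_ne_zero hk ?_
      convert h using 1
      simp only [b_add_left, b_add_right, b_smul_left, b_smul_right, b_self, e.2, q.2, hq,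
        b_comm q.1.rep e.1.rep, b_comm s e.1.rep, b_comm s q.1.rep, a1, a2, a3, a4]
      ring
    -- the middle point
    obtain ⟨c, hc, hmid⟩ : ∃ c : ZMod 3, c ≠ 0 ∧ 2 + 2 * (c * b') + B t t' ≠ 0 := by
      generalize B t t' = s
      clear hadj hz'e hz'q hv'
      revert s hb'
      revert b'
      decide +kernel
    have hvm := hsum e q hq c hc t h1 h2 h3
    have hme : B (e.1.rep + c • q.1.rep + t) e.1.rep ≠ 0 := by
      rw [b_add_left, b_add_left, b_smul_left, b_self, e.2, b_comm q.1.rep, hq, b_comm t, h1]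
      simpa using f3_two
    have hmq : B (e.1.rep + c • q.1.rep + t) q.1.rep ≠ 0 := by
      rw [b_add_left, b_add_left, b_smul_left, b_self, q.2, hq, b_comm t, h2]
      simpa using And.intro hc f3_two
    refine Relation.ReflTransGen.trans (b := mkR _ hvm) ?_ ?_
    · by_cases hcb : c = b
      · subst hcb; exact Relation.ReflTransGen.refl
      refine Relation.ReflTransGen.single ⟨hadj b c t t h1 h2 h1 h2 hv hvm ?_ ?_,
        adj_of hvm _ hmq hq hme, adj_of hvm _ hme (by rw [b_comm, hq]) hmq⟩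
      · intro h
        obtain ⟨k, hk⟩ := mkR_eq_iff.1 h
        have a1 := congrArg (fun x => B x e.1.rep) hk
        have a2 := congrArg (fun x => B x q.1.rep) hk
        simp only [b_smul_left, b_add_left, b_self, e.2, q.2, hq, b_comm q.1.rep e.1.rep,
          b_comm t e.1.rep, b_comm t q.1.rep, h1, h2] at a1 a2
        revert hcb a1 a2
        clear hadj hmid hk h hvm hme hmq hv hze hzq hform hsum
        revert b c k
        decide +kernel
      · rw [b_self, h3]
        revert hb hc hcb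
        clear hadj hmid hvm hme hmq hv hze hzq hform hsum
        revert b c
        decide +kernel
    · by_cases h : mkR _ hvm = mkR _ hv'
      · rw [h]
      exact Relation.ReflTransGen.single ⟨hadj c b' t t' h1 h2 h1' h2' hvm hv' h hmid, hz'e, hz'q⟩
  · rw [nbR_iff'] at hp hq
    rw [adjR_iff] at hpq
    replace hpq := hpq.2
    obtain ⟨t, h1, h2, h3⟩ := getT e p hp
    obtain ⟨s, hs, hne⟩ : ∃ s : ZMod 3, s ≠ 0 ∧ B p.1.rep q.1.rep + s * B t q.1.rep ≠ 0 := by
      revert hpq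
      generalize B p.1.rep q.1.rep = a
      generalize B t q.1.rep = b
      revert a b
      decide +kernel
    have hv := hsum e p hp 1 one_ne_zero (s • t) (by rw [b_smul_right, h1, mul_zero])
      (by rw [b_smul_right, h2, mul_zero]) (by rw [q_smul, h3, f3_sq hs, one_mul])
    have he : B (e.1.rep + (1 : ZMod 3) • p.1.rep + s • t) e.1.rep ≠ 0 := by
      rw [b_add_left, b_add_left, b_smul_left, b_smul_left, b_self, e.2, b_comm p.1.rep, hp, b_comm t, h1]
      simpa using f3_two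
    have hp' : B (e.1.rep + (1 : ZMod 3) • p.1.rep + s • t) p.1.rep ≠ 0 := by
      rw [b_add_left, b_add_left, b_smul_left, b_smul_left, b_self, p.2, hp, b_comm t, h2]
      simpa using f3_two
    refine ⟨mkR _ hv, adj_of hv _ hp' hp he, adj_of hv _ he (by rw [b_comm, hp]) hp',
      adj_of hv _ he (by rw [b_comm, hq]) ?_⟩
    rw [b_add_left, b_add_left, b_smul_left, b_smul_left, one_mul, hq, zero_add]
    exact hne

end CfsgLib.FischerClass
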