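import Cfsg.Agent.Lib.FischerClass.OrthThreeSpace
import Cfsg.Agent.Lib.FischerClass.Degree

/-!
Counting points in a frame, and the exclusion of the small configurations by their parameters.
-/

set_option autoImplicit false
set_option linter.unusedSectionVars false

namespace CfsgLib.FischerClass

open Cfsg CfsgLib.Orth

/-- The first non-zero coordinate is one. -/
def Lead {m : ℕ} (c : Fin m → ZMod 3) : Prop := ∃ i, c i = 1 ∧ ∀ j < i, c j = 0

instance {m : ℕ} : DecidablePred (@Lead m) := fun c => by unfold Lead; infer_instance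

theorem lead_or {m : ℕ} {c : Fin m → ZMod 3} (h : c ≠ 0) : Lead c ∨ Lead (-c) := by
  have hne : (Finset.univ.filter fun i => c i ≠ 0).Nonempty := by
    obtain ⟨i, hi⟩ := Function.ne_iff.1 h
    exact ⟨i, Finset.mem_filter.2 ⟨Finset.mem_univ _, hi⟩⟩
  set i := (Finset.univ.filter fun i => c i ≠ 0).min' hne
  have hi : c i ≠ 0 := (Finset.mem_filter.1 (Finset.min'_mem _ hne)).2
  have hlt : ∀ j < i, c j = 0 := fun j hj => by
    by_contra hc
    exact absurd (Finset.min'_le _ j (Finset.mem_filter.2 ⟨Finset.mem_univ _, hc⟩)) (not_le.2 hj)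
  rcases f3_cases hi with e | e
  · exact Or.inl ⟨i, e, hlt⟩
  · exact Or.inr ⟨i, by rw [Pi.neg_apply, e]; decide, fun j hj => by rw [Pi.neg_apply, hlt j hj, neg_zero]⟩

theorem lead_smul {m : ℕ} {c : Fin m → ZMod 3} {k : ZMod 3} (h : Lead c) (h' : Lead (k • c)) : k = 1 := by
  obtain ⟨i, hi, hlt⟩ := h
  obtain ⟨j, hj, hlt'⟩ := h'
  rw [Pi.smul_apply, smul_eq_mul] at hj
  rcases lt_trichotomy i j with hij | hij | hij
  · have := hlt' i hij
    rw [Pi.smul_apply, smul_eq_mul, hi, mul_one] at this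
    rw [this, zero_mul] at hj
    exact absurd hj zero_ne_one
  · subst hij
    rwa [hi, mul_one] at hj
  · rw [hlt j hij, mul_zero] at hj
    exact absurd hj zero_ne_one

theorem no_sq {N s : ℕ} (h1 : s * s < N) (h2 : N < (s + 1) * (s + 1)) (q : ℚ) : q ^ 2 ≠ (N : ℚ) := by
  intro h
  obtain ⟨x, hx⟩ := Rat.isSquare_natCast_iff.1 ⟨q, by rw [← sq, h]⟩
  rw [hx] at h1 h2
  have hlo : s < x := Nat.mul_self_lt_mul_self_iff.1 h1
  have hhi : x < s + 1 := Nat.mul_self_lt_mul_self_iff.1 h2
  omega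

variable {ι : Type} [Fintype ι] [DecidableEq ι] {Q : QuadraticForm (ZMod 3) (ι → ZMod 3)}

local notation "B" => QuadraticMap.polar (DFunLike.coe Q)

theorem b_mk_left {v : ι → ZMod 3} {hv : Q v = 1} {x : ι → ZMod 3} :
    B (mkR v hv).1.rep x = 0 ↔ B v x = 0 := by
  obtain ⟨c, hc, e⟩ := mkR_rep v hv
  rw [e, b_smul_left, mul_eq_zero, or_iff_right hc]

theorem b_mk_right {v : ι → ZMod 3} {hv : Q v = 1} {x : ι → ZMod 3} :
    B x (mkR v hv).1.rep = 0 ↔ B x v = 0 := by
  rw [b_comm, b_mk_left, b_comm]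

/-- Points counted by coordinates. -/
theorem count_pts {m : ℕ} {N : Fin m → ZMod 3} {v : Fin m → ι → ZMod 3} (hv : IsFrame Q N v)
    (hN : ∀ i, N i ≠ 0) (hm : Fintype.card ι = m) (T : Set (RP Q)) (pc : (Fin m → ZMod 3) → Prop)
    [DecidablePred pc] (h : ∀ c hq, mkR (comb v c) hq ∈ T ↔ pc c) :
    T.ncard = (Finset.univ.filter fun c => qd N c = 1 ∧ Lead c ∧ pc c).card := by
  classical
  rw [← Set.ncard_coe_finset]
  refine Eq.symm (Set.ncard_congr (fun c hc => mkR (comb v c)
    ((hv.q_comb c).trans (Finset.mem_filter.1 (Finset.mem_coe.1 hc)).2.1)) ?_ ?_ ?_)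
  · intro c hc
    exact (h c _).2 (Finset.mem_filter.1 (Finset.mem_coe.1 hc)).2.2.2
  · intro c d hc hd e
    obtain ⟨k, hk⟩ := mkR_eq_iff.1 e
    rw [← map_smul] at hk
    have e' := hv.comb_inj hN hk
    have hl := (Finset.mem_filter.1 (Finset.mem_coe.1 hd)).2.2.1
    have hl' := (Finset.mem_filter.1 (Finset.mem_coe.1 hc)).2.2.1
    rw [← e'] at hl'
    rw [← e', lead_smul hl hl', one_smul]
  · intro p hp
    obtain ⟨c, hc⟩ := hv.surj hN hm p.1.rep
    have hq : Q (comb v c) = 1 := by rw [hc]; exact p.2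
    have hc0 : c ≠ 0 := fun e => zero_ne_one (by rw [← hq, e, map_zero, QuadraticMap.map_zero])
    have main : ∀ d, Lead d → ∀ hd : Q (comb v d) = 1, mkR (comb v d) hd = p →
        ∃ a, ∃ ha : a ∈ ((Finset.univ.filter fun c => qd N c = 1 ∧ Lead c ∧ pc c : Finset _) : Set _),
          mkR (comb v a) ((hv.q_comb a).trans (Finset.mem_filter.1 (Finset.mem_coe.1 ha)).2.1) = p :=
      fun d hl hd e => ⟨d, Finset.mem_coe.2 (Finset.mem_filter.2
        ⟨Finset.mem_univ _, (hv.q_comb d).symm.trans hd, hl, (h d hd).1 (e ▸ hp)⟩), e⟩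
    rcases lead_or hc0 with hl | hl
    · exact main c hl hq ((mkR_eq_iff.2 ⟨1, by rw [one_smul, hc]⟩).trans (mkR_self p))
    · exact main (-c) hl (by rw [map_neg, QuadraticMap.map_neg, hq])
        ((mkR_eq_iff.2 ⟨-1, by rw [map_neg, neg_one_smul, hc]⟩).trans (mkR_self p))

variable {G : Type*} [Group G] [Finite G] {D : Set G} {f : RP Q → G} {d a : G}

/-- All points have equally many neighbours. -/
theorem nb_card_eq (hB : Nondeg Q) (hn : 5 ≤ Fintype.card ι) (X : Ctx D) (C : Co D d rop f) (p q : RP Q) :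
    (Nb rop p).ncard = (Nb rop q).ncard := by
  have hadj : ∀ u v : RP Q, Adj rop u v → (Nb rop u).ncard = (Nb rop v).ncard := by
    intro u v huv
    have hz : rop (rop u v) u = v := C.inj (by
      have b1 : f v * f u * f v = f u * f v * f u := ThreeTransp.braid X.hS (C.mem v).1 (C.mem u).1
        fun c => huv ((C.com_iff X.hS u v).1 c.symm)
      have hu := ThreeTransp.mul_self_eq_one X.hS (C.mem u).1
      rw [C.conj, C.conj]
      calc f u * f v * f u * f u * (f u * f v * f u)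
          = f u * f v * (f u * f u) * f u * f v * f u := by group
        _ = f u * (f v * f u * f v) * f u := by rw [hu]; group
        _ = (f u * f u) * f v * (f u * f u) := by rw [b1]; group
        _ = f v := by rw [hu, one_mul, mul_one])
    haveI : Finite (RP Q) := inferInstance
    have himg : Nb rop v = (rop (rop u v)) '' Nb rop u := by
      set z := rop u v
      ext x
      constructor
      · intro hx
        refine ⟨rop z x, ⟨fun e => hx.1 ?_, ?_⟩, C.op_op X.hS z x⟩
        · rw [← C.op_op X.hS z x, e, hz]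
        · rw [show u = rop z v by rw [← hz, C.op_op X.hS z u], ← C.op_dist X.hS, hx.2]
      · rintro ⟨y, hy, rfl⟩
        refine ⟨fun e => hy.1 ?_, ?_⟩
        · rw [← C.op_op X.hS z y, e, ← hz, C.op_op X.hS z u]
        · rw [← hz, ← C.op_dist X.hS, hy.2]
    rw [himg, Set.ncard_image_of_injective _ fun x y e => by
      rw [← C.op_op X.hS (rop u v) x, e, C.op_op X.hS]]
  by_cases hpq : q = p
  · rw [hpq]
  by_cases h : Adj rop p q
  · exact hadj p q h
  obtain ⟨z, hze, hzq⟩ := (rop_dense hB hn).exists_common p q ⟨hpq, of_not_not h⟩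
  rw [← hadj z p hze, hadj z q hzq]

/-- The small configurations have inconsistent parameters. -/
theorem except_false (hB : Nondeg Q) (hn : 5 ≤ Fintype.card ι) (X : Ctx D) (C : Co D d rop f) (hd : d ∈ D)
    (ha : a ∈ D) (hda : ¬ Commute d a) {m : ℕ} {N : Fin m → ZMod 3} {v : Fin m → ι → ZMod 3}
    (hv : IsFrame Q N v) (hN : ∀ i, N i ≠ 0) (hm : Fintype.card ι = m) (i₀ : Fin m) (h1 : Q (v i₀) = 1)
    (pS : (Fin m → ZMod 3) → Prop) [DecidablePred pS] (hS : ∀ c hq, mkR (comb v c) hq ∈ Sc f a ↔ pS c)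
    {k l n s : ℕ} (hk : (Finset.univ.filter fun c => qd N c = 1 ∧ Lead c ∧ True).card = k)
    (hl : (Finset.univ.filter fun c => qd N c = 1 ∧ Lead c ∧ c i₀ = 0).card = l)
    (hsn : (Finset.univ.filter fun c => qd N c = 1 ∧ Lead c ∧ pS c).card = n)
    (hln : n < l) (hkn : n ≤ k)
    (hlo : s * s < (l - n) ^ 2 + 4 * (k - n)) (hhi : (l - n) ^ 2 + 4 * (k - n) < (s + 1) * (s + 1)) : False := by
  classical
  have hcard : Nat.card (RP Q) = k := by
    rw [← Set.ncard_univ, count_pts hv hN hm Set.univ (fun _ => True) (fun c hq => by simp)]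
    exact hk
  have hdeg : ∀ p : RP Q, (Nb rop p).ncard = l := fun p => by
    rw [nb_card_eq hB hn X C p (mkR _ h1), count_pts hv hN hm _ (fun c => c i₀ = 0) fun c hq => ?_]
    · exact hl
    rw [nbR_iff', b_mk_left, b_mk_right, hv.coef, mul_eq_zero, mul_eq_zero, or_iff_right (by
      rintro (e | e); exacts [f3_two e, hN i₀ e])]
  have hSc : (Sc f a).ncard = n := (count_pts hv hN hm _ pS hS).trans hsn
  have h := X.no_irrational C hd ha hda hcard hdeg hSc fun q hq => no_sq hlo hhi q (by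
    rw [hq]; push_cast [Nat.cast_sub hln.le, Nat.cast_sub hkn]; ring)
  haveI : Nonempty D := ⟨⟨d, hd⟩⟩
  have hD : (1 : ℝ) ≤ Nat.card D := by exact_mod_cast Nat.card_pos (α := D)
  have hl' : (n : ℝ) < l := by exact_mod_cast hln
  have hk' : (n : ℝ) ≤ k := by exact_mod_cast hkn
  have hk0 : (0 : ℝ) < k := by
    have : 0 < k := by
      rw [← hcard]; haveI : Nonempty (RP Q) := ⟨mkR _ h1⟩; exact Nat.card_pos
    exact_mod_cast this
  nlinarith [mul_nonneg (sub_nonneg.2 hD) (sub_nonneg.2 hl'.le)]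

end CfsgLib.FischerClass
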