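import Cfsg.Agent.Lib.FischerClass.OrthThreeBasic

/-!
Orthogonal frames and hyperbolic pairs over the field with three elements.
-/

set_option autoImplicit false
set_option linter.unusedSectionVars false

namespace CfsgLib.FischerClass

open Cfsg CfsgLib.Orth

/-- The diagonal form. -/
def qd {m : ℕ} (N c : Fin m → ZMod 3) : ZMod 3 := ∑ i, N i * (c i * c i)

/-- Its polar form. -/
def bd {m : ℕ} (N c d : Fin m → ZMod 3) : ZMod 3 := 2 * ∑ i, N i * (c i * d i)

theorem bd_self {m : ℕ} (N c : Fin m → ZMod 3) : bd N c c = 2 * qd N c := rfl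

theorem f3_inv {a : ZMod 3} : a ≠ 0 → (2 * a) * (2 * a) = 1 := by revert a; decide +kernel

variable {ι : Type} [Fintype ι] [DecidableEq ι] {Q : QuadraticForm (ZMod 3) (ι → ZMod 3)}

local notation "B" => QuadraticMap.polar (DFunLike.coe Q)

/-- Pairwise orthogonal vectors with prescribed norms. -/
def IsFrame (Q : QuadraticForm (ZMod 3) (ι → ZMod 3)) {m : ℕ} (N : Fin m → ZMod 3)
    (v : Fin m → ι → ZMod 3) : Prop :=
  ∀ i j, QuadraticMap.polar (⇑Q) (v i) (v j) = if i = j then 2 * N i else 0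

/-- A combination of given vectors. -/
def comb {m : ℕ} (v : Fin m → ι → ZMod 3) : (Fin m → ZMod 3) →ₗ[ZMod 3] ι → ZMod 3 where
  toFun c := ∑ i, c i • v i
  map_add' c d := by simp only [Pi.add_apply, add_smul, Finset.sum_add_distrib]
  map_smul' a c := by simp only [Pi.smul_apply, smul_eq_mul, mul_smul, Finset.smul_sum, RingHom.id_apply]

theorem comb_apply {m : ℕ} (v : Fin m → ι → ZMod 3) (c : Fin m → ZMod 3) : comb v c = ∑ i, c i • v i := rfl

theorem comb_single {m : ℕ} (v : Fin m → ι → ZMod 3) (i : Fin m) : comb v (Pi.single i 1) = v i := by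
  rw [comb_apply, Finset.sum_eq_single i]
  · simp
  · intro j _ hj; simp [hj]
  · simp

theorem comb_mem {m : ℕ} {v : Fin m → ι → ZMod 3} {W : Submodule (ZMod 3) (ι → ZMod 3)} (h : ∀ i, v i ∈ W)
    (c : Fin m → ZMod 3) : comb v c ∈ W :=
  show ∑ i, c i • v i ∈ W from Submodule.sum_mem _ fun i _ => W.smul_mem _ (h i)

theorem b_comb_right {m : ℕ} (v : Fin m → ι → ZMod 3) (x : ι → ZMod 3) (c : Fin m → ZMod 3) :
    B x (comb v c) = ∑ i, c i * B x (v i) := by
  have h : ∀ s : Finset (Fin m), B x (∑ i ∈ s, c i • v i) = ∑ i ∈ s, c i * B x (v i) := by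
    intro s
    induction s using Finset.induction_on with
    | empty => simp
    | insert a s ha ih => rw [Finset.sum_insert ha, Finset.sum_insert ha, b_add_right, b_smul_right, ih]
  exact h Finset.univ

theorem comb_comb {m k : ℕ} (w : Fin k → ι → ZMod 3) (M : Fin m → Fin k → ZMod 3) (c : Fin m → ZMod 3) :
    comb (fun i => comb w (M i)) c = comb w (∑ i, c i • M i) := by
  rw [map_sum, comb_apply]
  simp only [map_smul]

namespace IsFrame

variable {m : ℕ} {N : Fin m → ZMod 3} {v : Fin m → ι → ZMod 3} (h : IsFrame Q N v)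
include h

theorem coef (i : Fin m) (c : Fin m → ZMod 3) : B (v i) (comb v c) = 2 * N i * c i := by
  rw [b_comb_right, Finset.sum_eq_single i]
  · rw [h i i, if_pos rfl, mul_comm]
  · intro j _ hj; rw [h i j, if_neg (Ne.symm hj), mul_zero]
  · simp

theorem b_comb (c d : Fin m → ZMod 3) : B (comb v c) (comb v d) = bd N c d := by
  rw [b_comm, b_comb_right, bd, Finset.mul_sum]
  refine Finset.sum_congr rfl fun i _ => ?_
  rw [b_comm, h.coef]
  ring

theorem q_comb (c : Fin m → ZMod 3) : Q (comb v c) = qd N c := by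
  have := h.b_comb c c
  rw [b_self, bd_self] at this
  exact mul_left_cancel₀ f3_two this

theorem norm (i : Fin m) : Q (v i) = N i := by
  have := h i i
  rw [if_pos rfl, b_self] at this
  exact mul_left_cancel₀ f3_two this

theorem comb_inj (hN : ∀ i, N i ≠ 0) : Function.Injective (comb v) := fun c d e => funext fun i => by
  have := congrArg (B (v i)) e
  rw [h.coef, h.coef] at this
  exact mul_left_cancel₀ (mul_ne_zero f3_two (hN i)) this

theorem range_eq (hN : ∀ i, N i ≠ 0) {W : Submodule (ZMod 3) (ι → ZMod 3)} (hW : ∀ i, v i ∈ W)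
    (hm : Module.finrank (ZMod 3) W = m) : ∀ x ∈ W, ∃ c, comb v c = x := by
  have hle : LinearMap.range (comb v) ≤ W := by
    rintro _ ⟨c, rfl⟩
    exact comb_mem hW c
  have he : LinearMap.range (comb v) = W := Submodule.eq_of_le_of_finrank_eq hle (by
    rw [LinearMap.finrank_range_of_inj (h.comb_inj hN), Module.finrank_fintype_fun_eq_card, Fintype.card_fin, hm])
  intro x hx
  rw [← he] at hx
  exact hx

theorem surj (hN : ∀ i, N i ≠ 0) (hm : Fintype.card ι = m) : ∀ x, ∃ c, comb v c = x := fun x =>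
  h.range_eq hN (W := ⊤) (fun _ => Submodule.mem_top)
    (by rw [finrank_top, Module.finrank_fintype_fun_eq_card, hm]) x Submodule.mem_top

end IsFrame

theorem cut_finrank_eq (hB : Nondeg Q) {W : Submodule (ZMod 3) (ι → ZMod 3)} {v : ι → ZMod 3} (hv : v ∈ W)
    (h : Q v ≠ 0) : Module.finrank (ZMod 3) ↥(W ⊓ perpS Q {v}) + 1 = Module.finrank (ZMod 3) W := by
  have h1 := cut_finrank (W := W) hB v
  have h2 := cut_finrank_lt hv h
  omega

theorem mem_cut {W : Submodule (ZMod 3) (ι → ZMod 3)} {v x : ι → ZMod 3} :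
    x ∈ W ⊓ perpS Q {v} ↔ x ∈ W ∧ B v x = 0 :=
  ⟨fun h => ⟨h.1, mem_perpS.1 h.2 v rfl⟩,
    fun h => ⟨h.1, mem_perpS.2 fun u hu => by rw [Set.mem_singleton_iff.1 hu]; exact h.2⟩⟩

theorem mem_perp {v x : ι → ZMod 3} : x ∈ perpS Q {v} ↔ B v x = 0 :=
  ⟨fun h => mem_perpS.1 h v rfl, fun h => mem_perpS.2 fun u hu => by rw [Set.mem_singleton_iff.1 hu]; exact h⟩

/-- A four-dimensional non-degenerate space has a frame, three of whose norms are one. -/
theorem exists_frame_four (hB : Nondeg Q) {W : Submodule (ZMod 3) (ι → ZMod 3)} (hW : NondegOn Q W)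
    (h4 : Module.finrank (ZMod 3) W = 4) :
    ∃ v : Fin 4 → ι → ZMod 3, (∀ i, v i ∈ W) ∧ (IsFrame Q ![1, 1, 1, 1] v ∨ IsFrame Q ![1, 1, 1, 2] v) := by
  obtain ⟨a, ha, qa⟩ := exists_norm hB hW (by omega) one_ne_zero
  have na : Q a ≠ 0 := by rw [qa]; exact one_ne_zero
  have f1 := cut_finrank_eq hB ha na
  have hW1 := cut_nondeg hW ha na
  obtain ⟨b, hb, qb⟩ := exists_norm hB hW1 (by omega) one_ne_zero
  have nb : Q b ≠ 0 := by rw [qb]; exact one_ne_zero
  have f2 := cut_finrank_eq hB hb nb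
  have hW2 := cut_nondeg hW1 hb nb
  obtain ⟨c, hc, qc⟩ := exists_norm hB hW2 (by omega) one_ne_zero
  have nc : Q c ≠ 0 := by rw [qc]; exact one_ne_zero
  have f3 := cut_finrank_eq hB hc nc
  obtain ⟨e, he, qe⟩ := exists_aniso_in (cut_nondeg hW2 hc nc) (by omega)
  obtain ⟨⟨⟨heW, hae⟩, hbe⟩, hce⟩ : ((e ∈ W ∧ B a e = 0) ∧ B b e = 0) ∧ B c e = 0 := by
    rw [mem_cut, mem_cut, mem_cut] at he; exact he
  obtain ⟨⟨hcW, hac⟩, hbc⟩ : (c ∈ W ∧ B a c = 0) ∧ B b c = 0 := by
    rw [mem_cut, mem_cut] at hc; exact hc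
  obtain ⟨hbW, hab⟩ := mem_cut.1 hb
  refine ⟨![a, b, c, e], fun i => by fin_cases i <;> assumption, ?_⟩
  have hf : ∀ N : ZMod 3, Q e = N → IsFrame Q ![1, 1, 1, N] ![a, b, c, e] := by
    intro N hN i j
    fin_cases i <;> fin_cases j <;>
      simp [b_self, qa, qb, qc, hN, hab, hac, hae, hbc, hbe, hce, b_comm b a, b_comm c a, b_comm e a,
        b_comm c b, b_comm e b, b_comm e c]
  rcases f3_cases qe with h | h
  · exact Or.inl (hf 1 h)
  · exact Or.inr (hf 2 h)

/-- A singular vector has a singular partner. -/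
theorem exists_partner_one (hB : Nondeg Q) {W : Submodule (ZMod 3) (ι → ZMod 3)} (hW : NondegOn Q W)
    {x : ι → ZMod 3} (hx : x ∈ W) (hx0 : x ≠ 0) (hxq : Q x = 0) :
    ∃ y ∈ W, Q y = 0 ∧ B x y = 1 := by
  obtain ⟨z, hz, hxz⟩ : ∃ z ∈ W, B x z ≠ 0 := by
    by_contra! h
    exact hx0 (hW x hx h)
  obtain ⟨w, hw, hxw⟩ : ∃ w ∈ W, B x w = 1 :=
    ⟨B x z • z, W.smul_mem _ hz, by rw [b_smul_right]; exact f3_sq hxz⟩
  refine ⟨w - Q w • x, W.sub_mem hw (W.smul_mem _ hx), ?_, ?_⟩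
  · rw [q_sub, q_smul, hxq, b_smul_right, b_comm w x, hxw]; ring
  · rw [b_sub_right, b_smul_right, hxw, b_self_zero hxq]; ring

/-- A hyperbolic pair splits off. -/
theorem hyp_split (hB : Nondeg Q) {W : Submodule (ZMod 3) (ι → ZMod 3)} (hW : NondegOn Q W)
    {x y : ι → ZMod 3} (hx : x ∈ W) (hy : y ∈ W) (hxq : Q x = 0) (hyq : Q y = 0) (hxy : B x y ≠ 0) :
    ∃ K : Submodule (ZMod 3) (ι → ZMod 3), NondegOn Q K ∧
      Module.finrank (ZMod 3) K + 2 = Module.finrank (ZMod 3) W ∧ K ≤ W ∧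
      (∀ z, z ∈ K ↔ z ∈ W ∧ B x z = 0 ∧ B y z = 0) := by
  have hbb := f3_sq hxy
  have h1 : Q (x + B x y • y) = 1 := by
    rw [q_add, q_smul, hxq, hyq, b_smul_right, hbb]; ring
  have h2 : Q (x - B x y • y) = 2 := by
    rw [q_sub, q_smul, hxq, hyq, b_smul_right, hbb]; decide +kernel
  have h12 : B (x + B x y • y) (x - B x y • y) = 0 := by
    simp only [b_add_left, b_sub_right, b_smul_left, b_smul_right, b_self_zero hxq, b_self_zero hyq,
      b_comm y x]
    ring
  have n1 : Q (x + B x y • y) ≠ 0 := by rw [h1]; exact one_ne_zero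
  have n2 : Q (x - B x y • y) ≠ 0 := by rw [h2]; exact f3_two
  have m1 : x + B x y • y ∈ W := W.add_mem hx (W.smul_mem _ hy)
  have m2 : x - B x y • y ∈ W ⊓ perpS Q {x + B x y • y} :=
    mem_cut.2 ⟨W.sub_mem hx (W.smul_mem _ hy), h12⟩
  have f1 := cut_finrank_eq hB m1 n1
  have f2 := cut_finrank_eq hB m2 n2
  refine ⟨_, cut_nondeg (cut_nondeg hW m1 n1) m2 n2, by omega, inf_le_left.trans inf_le_left, fun z => ?_⟩
  rw [mem_cut, mem_cut, b_add_left, b_sub_left, b_smul_left, and_assoc]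
  refine and_congr_right fun _ => ?_
  generalize B x z = u
  generalize B y z = w
  revert hxy
  generalize B x y = b
  revert b u w
  decide +kernel

end CfsgLib.FischerClass
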