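import Cfsg.Agent.Lib.FischerClass.OrthThreeFrame

/-!
Bijections between the points of norm one of two non-degenerate subspaces that respect the reflections
are linear.
-/

set_option autoImplicit false
set_option linter.unusedSectionVars false

namespace CfsgLib.FischerClass

open Cfsg CfsgLib.Orth

variable {ι : Type} [Fintype ι] [DecidableEq ι] {Q : QuadraticForm (ZMod 3) (ι → ZMod 3)}

local notation "B" => QuadraticMap.polar (DFunLike.coe Q)

/-- The points of a subspace. -/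
def ptsIn (Q : QuadraticForm (ZMod 3) (ι → ZMod 3)) (W : Submodule (ZMod 3) (ι → ZMod 3)) : Set (RP Q) :=
  {p | p.1.rep ∈ W}

theorem mkR_mem {W : Submodule (ZMod 3) (ι → ZMod 3)} {v : ι → ZMod 3} {h : Q v = 1} :
    mkR v h ∈ ptsIn Q W ↔ v ∈ W := by
  obtain ⟨c, hc, e⟩ := mkR_rep v h
  show (mkR v h).1.rep ∈ W ↔ _
  rw [e, Submodule.smul_mem_iff _ hc]

theorem nb_eq_pts (A : RP Q) : Nb rop A = ptsIn Q (perpS Q {A.1.rep}) :=
  Set.ext fun q => (nbR_iff' A q).trans mem_perp.symm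

theorem rop_mem {W : Submodule (ZMod 3) (ι → ZMod 3)} {p q : RP Q} (hp : p ∈ ptsIn Q W)
    (hq : q ∈ ptsIn Q W) : rop p q ∈ ptsIn Q W :=
  mkR_mem.2 (W.sub_mem hq (W.smul_mem _ hp))

theorem orth_iff (p q : RP Q) : B p.1.rep q.1.rep = 0 ↔ q ≠ p ∧ rop p q = q :=
  (nbR_iff' p q).symm

/-- A map of points that respects reflections. -/
structure PtMap (φ : RP Q → RP Q) (W W' : Submodule (ZMod 3) (ι → ZMod 3)) : Prop where
  bij : Set.BijOn φ (ptsIn Q W) (ptsIn Q W')
  op : ∀ p ∈ ptsIn Q W, ∀ q ∈ ptsIn Q W, φ (rop p q) = rop (φ p) (φ q)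

/-- It is induced by a linear isometry. -/
def Induced (φ : RP Q → RP Q) (W W' : Submodule (ZMod 3) (ι → ZMod 3)) : Prop :=
  ∃ h : (ι → ZMod 3) →ₗ[ZMod 3] ι → ZMod 3, (∀ x ∈ W, h x ∈ W' ∧ Q (h x) = Q x) ∧
    ∀ p ∈ ptsIn Q W, ∀ hq : Q (h p.1.rep) = 1, φ p = mkR (h p.1.rep) hq

theorem PtMap.orth {φ : RP Q → RP Q} {W W' : Submodule (ZMod 3) (ι → ZMod 3)} (M : PtMap φ W W')
    {p q : RP Q} (hp : p ∈ ptsIn Q W) (hq : q ∈ ptsIn Q W) :
    B (φ p).1.rep (φ q).1.rep = 0 ↔ B p.1.rep q.1.rep = 0 := by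
  rw [orth_iff, orth_iff, ← M.op p hp q hq]
  exact and_congr (not_congr (M.bij.injOn.eq_iff hq hp)) (M.bij.injOn.eq_iff (rop_mem hp hq) hq)

theorem isometry_b {W : Submodule (ZMod 3) (ι → ZMod 3)} {h : (ι → ZMod 3) →ₗ[ZMod 3] ι → ZMod 3}
    (hh : ∀ x ∈ W, Q (h x) = Q x) {x y : ι → ZMod 3} (hx : x ∈ W) (hy : y ∈ W) : B (h x) (h y) = B x y := by
  have := hh _ (W.add_mem hx hy)
  rw [map_add, q_add, hh x hx, hh y hy, q_add] at this
  exact add_left_cancel this

/-- Generators with a tree as non-orthogonality graph determine the map. -/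
theorem base_four {φ : RP Q → RP Q} {W W' : Submodule (ZMod 3) (ι → ZMod 3)} (hW' : Module.finrank (ZMod 3) W' = 4)
    (M : PtMap φ W W') {N : Fin 4 → ZMod 3} (hN : ∀ i, N i ≠ 0) {v : Fin 4 → ι → ZMod 3} (hv : IsFrame Q N v)
    (hvW : ∀ i, v i ∈ W) (hW : Module.finrank (ZMod 3) W = 4) {m k : ℕ} (g : Fin m → Fin 4 → ZMod 3)
    (tbl : Fin k → Fin 4 → ZMod 3) (M' : Fin 4 → Fin m → ZMod 3)
    (hg : ∀ j, qd N (g j) = 1) (hM : ∀ i, (∑ j, M' i j • g j) = Pi.single i 1)
    (hcl : ∀ j, qd N (tbl j) = 1 ∧ ((∃ i, tbl j = g i) ∨ ∃ a b, a < j ∧ b < j ∧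
      (tbl b - bd N (tbl a) (tbl b) • tbl a = tbl j ∨ tbl b - bd N (tbl a) (tbl b) • tbl a = -tbl j)))
    (hall : ∀ c, qd N c = 1 → ∃ j, c = tbl j ∨ c = -tbl j)
    (hsign : ∀ b : Fin m → Fin m → ZMod 3, (∀ i j, b i j = b j i) → (∀ i, b i i = 2) →
      (∀ i j, b i j = 0 ↔ bd N (g i) (g j) = 0) →
      ∃ s : Fin m → ZMod 3, (∀ i, s i ≠ 0) ∧ ∀ i j, s i * (s j * b i j) = bd N (g i) (g j)) :
    Induced φ W W' := by
  have hq : ∀ j, Q (comb v (g j)) = 1 := fun j => (hv.q_comb _).trans (hg j)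
  have hmem : ∀ j, mkR _ (hq j) ∈ ptsIn Q W := fun j => mkR_mem.2 (comb_mem hvW _)
  set R : Fin m → ι → ZMod 3 := fun j => (φ (mkR _ (hq j))).1.rep
  obtain ⟨s, hs, hsb⟩ := hsign (fun i j => B (R i) (R j)) (fun i j => b_comm _ _)
    (fun i => by rw [b_self, (φ (mkR _ (hq i))).2, mul_one]) fun i j => by
      rw [M.orth (hmem i) (hmem j)]
      obtain ⟨a, ha, ea⟩ := mkR_rep _ (hq i)
      obtain ⟨b, hb, eb⟩ := mkR_rep _ (hq j)
      rw [ea, eb, b_smul_left, b_smul_right, hv.b_comb, mul_eq_zero, or_iff_right ha, mul_eq_zero,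
        or_iff_right hb]
  set w : Fin m → ι → ZMod 3 := fun j => s j • R j
  have hw : ∀ i j, B (w i) (w j) = bd N (g i) (g j) := fun i j => by
    rw [b_smul_left, b_smul_right]; exact hsb i j
  have hwW : ∀ j, w j ∈ W' := fun j => W'.smul_mem _ (M.bij.mapsTo (hmem j))
  set z : Fin 4 → ι → ZMod 3 := fun i => comb w (M' i)
  have hzw : ∀ i l, B (z i) (w l) = bd N (Pi.single i 1) (g l) := by
    intro i l
    rw [b_comm, b_comb_right]
    simp only [hw, ← hv.b_comb]
    conv_rhs => rw [b_comm, ← hM i, ← comb_comb v g, b_comb_right]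
  have hz : IsFrame Q N z := by
    intro i j
    rw [show z j = comb w (M' j) from rfl, b_comb_right]
    simp only [hzw, ← hv.b_comb]
    rw [show (∑ l, M' j l * B (comb v (Pi.single i 1)) (comb v (g l))) =
      B (comb v (Pi.single i 1)) (comb (fun l => comb v (g l)) (M' j)) from (b_comb_right _ _ _).symm,
      comb_comb, hM, comb_single, comb_single]
    exact hv i j
  have hzW : ∀ i, z i ∈ W' := fun i => comb_mem hwW _
  have hwz : ∀ l, comb z (g l) = w l := by
    intro l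
    obtain ⟨c, hc⟩ := hz.range_eq hN hzW hW' _ (W'.sub_mem (comb_mem hzW (g l)) (hwW l))
    have h0 : c = 0 := funext fun i => by
      have h := hz.coef i c
      rw [hc, b_sub_right, hz.coef, hzw, ← hv.b_comb, comb_single, hv.coef, sub_self, eq_comm] at h
      exact (mul_eq_zero.1 h).resolve_left (mul_ne_zero f3_two (hN i))
    rw [h0, map_zero, eq_comm, sub_eq_zero] at hc
    exact hc
  let T : (Fin 4 → ZMod 3) → Prop := fun c =>
    ∀ h : Q (comb v c) = 1, ∀ h' : Q (comb z c) = 1, φ (mkR _ h) = mkR _ h'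
  have hneg : ∀ c, T c → T (-c) := by
    intro c hc h h'
    have e1 : Q (comb v c) = 1 := by rwa [map_neg, QuadraticMap.map_neg] at h
    have e2 : Q (comb z c) = 1 := by rwa [map_neg, QuadraticMap.map_neg] at h'
    rw [show mkR _ h = mkR _ e1 from mkR_eq_iff.2 ⟨-1, by rw [map_neg, neg_one_smul]⟩, hc e1 e2]
    exact mkR_eq_iff.2 ⟨-1, by rw [map_neg, neg_one_smul, neg_neg]⟩
  have hT : ∀ j, T (tbl j) := by
    intro j
    induction j using WellFoundedLT.induction with
    | ind j ih =>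
      obtain ⟨hj, ⟨i, hi⟩ | ⟨a, b, ha, hb, h⟩⟩ := hcl j
      · rw [hi]
        intro h h'
        rw [← mkR_self (φ (mkR _ h))]
        refine mkR_eq_iff.2 ⟨(s i)⁻¹, ?_⟩
        rw [hwz, smul_smul, inv_mul_cancel₀ (hs i), one_smul]
      · have key : T (tbl b - bd N (tbl a) (tbl b) • tbl a) := by
          intro h1 h2
          have qa : Q (comb v (tbl a)) = 1 := (hv.q_comb _).trans (hcl a).1
          have qb : Q (comb v (tbl b)) = 1 := (hv.q_comb _).trans (hcl b).1
          have qa' : Q (comb z (tbl a)) = 1 := (hz.q_comb _).trans (hcl a).1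
          have qb' : Q (comb z (tbl b)) = 1 := (hz.q_comb _).trans (hcl b).1
          have e1 : mkR _ h1 = rop (mkR _ qa) (mkR _ qb) := by
            rw [rop_mk, mkR_eq_iff]
            exact ⟨1, by rw [one_smul, hv.b_comb, map_sub, map_smul]⟩
          rw [e1, M.op _ (mkR_mem.2 (comb_mem hvW _)) _ (mkR_mem.2 (comb_mem hvW _)), ih a ha qa qa',
            ih b hb qb qb', rop_mk, mkR_eq_iff]
          exact ⟨1, by rw [one_smul, hz.b_comb, map_sub, map_smul]⟩
        rcases h with h | h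
        · rwa [h] at key
        · rw [h] at key
          have := hneg _ key
          rwa [neg_neg] at this
  let L : (ι → ZMod 3) →ₗ[ZMod 3] ι → ZMod 3 :=
    { toFun := fun x => comb z fun i => 2 * N i * B (v i) x
      map_add' := fun x y => by
        rw [← map_add]; congr 1; funext i; rw [Pi.add_apply, b_add_right, mul_add]
      map_smul' := fun c x => by
        rw [RingHom.id_apply, ← map_smul]; congr 1; funext i
        rw [Pi.smul_apply, smul_eq_mul, b_smul_right]; ring }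
  have hL : ∀ c, L (comb v c) = comb z c := fun c => by
    show comb z (fun i => 2 * N i * B (v i) (comb v c)) = _
    congr 1; funext i
    rw [hv.coef]
    linear_combination c i * f3_inv (hN i)
  refine ⟨L, fun x hx => ?_, fun p hp hq' => ?_⟩
  · obtain ⟨c, rfl⟩ := hv.range_eq hN hvW hW x hx
    exact ⟨hL c ▸ comb_mem hzW _, by rw [hL, hz.q_comb, hv.q_comb]⟩
  · obtain ⟨c, hc⟩ := hv.range_eq hN hvW hW _ hp
    have hq1 : Q (comb v c) = 1 := by rw [hc]; exact p.2
    obtain ⟨j, hj⟩ := hall c (by rw [← hv.q_comb]; exact hq1)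
    have hTc : T c := by
      rcases hj with rfl | rfl
      exacts [hT j, hneg _ (hT j)]
    have h' : Q (comb z c) = 1 := by rw [← hL, hc]; exact hq'
    have hp' : p = mkR _ hq1 := (mkR_self p).symm.trans (mkR_eq_iff.2 ⟨1, by rw [one_smul, hc]⟩)
    exact (congrArg φ hp').trans ((hTc hq1 h').trans (mkR_eq_iff.2 ⟨1, by rw [one_smul, ← hc, hL]⟩))

/-- The twelve points of the plus type. -/
def plusTbl : Fin 12 → Fin 4 → ZMod 3 :=
  ![![1, 1, 1, 1], ![1, 0, 0, 0], ![0, 1, 0, 0], ![0, 0, 1, 0], ![2, 1, 1, 1], ![1, 2, 1, 1], ![1, 1, 2, 1],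
    ![2, 2, 1, 1], ![2, 1, 2, 1], ![1, 2, 2, 1], ![2, 2, 2, 1], ![0, 0, 0, 2]]

/-- The fifteen points of the minus type. -/
def minusTbl : Fin 15 → Fin 4 → ZMod 3 :=
  ![![0, 0, 1, 0], ![0, 1, 1, 1], ![0, 1, 0, 0], ![1, 1, 0, 1], ![1, 0, 0, 0], ![0, 1, 2, 1], ![0, 2, 1, 1],
    ![1, 2, 0, 1], ![2, 1, 0, 1], ![0, 2, 2, 1], ![1, 0, 1, 2], ![2, 2, 0, 1], ![1, 0, 2, 2], ![2, 0, 1, 2],
    ![2, 0, 2, 2]]

theorem sign_star (x y z : ZMod 3) : x ≠ 0 → y ≠ 0 → z ≠ 0 →
    ∀ i j : Fin 4, (![1, 2 * x, 2 * y, 2 * z] i : ZMod 3) * (![1, 2 * x, 2 * y, 2 * z] j *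
      ![![2, x, y, z], ![x, 2, 0, 0], ![y, 0, 2, 0], ![z, 0, 0, 2]] i j) =
      bd ![1, 1, 1, 1] (plusTbl (Fin.castLE (by decide) i)) (plusTbl (Fin.castLE (by decide) j)) := by
  revert x y z
  decide +kernel

theorem sign_path (x y z t : ZMod 3) : x ≠ 0 → y ≠ 0 → z ≠ 0 → t ≠ 0 →
    ∀ i j : Fin 5, (![1, 2 * x, x * y, 2 * x * (y * z), x * y * (z * t)] i : ZMod 3) *
      (![1, 2 * x, x * y, 2 * x * (y * z), x * y * (z * t)] j *
        ![![2, x, 0, 0, 0], ![x, 2, y, 0, 0], ![0, y, 2, z, 0], ![0, 0, z, 2, t], ![0, 0, 0, t, 2]] i j) =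
      bd ![1, 1, 1, 2] (minusTbl (Fin.castLE (by decide) i)) (minusTbl (Fin.castLE (by decide) j)) := by
  revert x y z t
  decide +kernel

/-- The map is linear in dimension four. -/
theorem lin_four (hB : Nondeg Q) {φ : RP Q → RP Q} {W W' : Submodule (ZMod 3) (ι → ZMod 3)}
    (hW : NondegOn Q W) (h4 : Module.finrank (ZMod 3) W = 4) (h4' : Module.finrank (ZMod 3) W' = 4)
    (M : PtMap φ W W') : Induced φ W W' := by
  obtain ⟨v, hvW, hv | hv⟩ := exists_frame_four hB hW h4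
  · refine base_four h4' M (by decide) hv hvW h4 (m := 4) (fun i => plusTbl (Fin.castLE (by decide) i)) plusTbl
      ![![0, 1, 0, 0], ![0, 0, 1, 0], ![0, 0, 0, 1], ![1, 2, 2, 2]]
      (by decide +kernel) (by decide +kernel) (by decide +kernel) (by decide +kernel) fun b hs hd hz => ?_
    have zr : ∀ {i j}, bd (![1, 1, 1, 1] : Fin 4 → ZMod 3) (plusTbl (Fin.castLE (by decide) i))
        (plusTbl (Fin.castLE (by decide) j)) = 0 → b i j = 0 := fun h => (hz _ _).2 h
    have nz : ∀ {i j}, bd (![1, 1, 1, 1] : Fin 4 → ZMod 3) (plusTbl (Fin.castLE (by decide) i))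
        (plusTbl (Fin.castLE (by decide) j)) ≠ 0 → b i j ≠ 0 := fun h e => h ((hz _ _).1 e)
    have hb : b = ![![2, b 0 1, b 0 2, b 0 3], ![b 0 1, 2, 0, 0], ![b 0 2, 0, 2, 0], ![b 0 3, 0, 0, 2]] := by
      funext i j
      fin_cases i <;> fin_cases j <;> first | exact hd _ | exact rfl | exact hs _ _ | exact zr (by decide +kernel)
    have h1 : b 0 1 ≠ 0 := nz (by decide +kernel)
    have h2 : b 0 2 ≠ 0 := nz (by decide +kernel)
    have h3 : b 0 3 ≠ 0 := nz (by decide +kernel)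
    refine ⟨![1, 2 * b 0 1, 2 * b 0 2, 2 * b 0 3], fun i => ?_, fun i j => ?_⟩
    · fin_cases i <;> simp [h1, h2, h3, f3_two]
    · conv_lhs => rw [hb]
      exact sign_star _ _ _ h1 h2 h3 i j
  · refine base_four h4' M (by decide) hv hvW h4 (m := 5) (fun i => minusTbl (Fin.castLE (by decide) i)) minusTbl
      ![![0, 0, 0, 0, 1], ![0, 0, 1, 0, 0], ![1, 0, 0, 0, 0], ![2, 1, 2, 0, 0]]
      (by decide +kernel) (by decide +kernel) (by decide +kernel) (by decide +kernel) fun b hs hd hz => ?_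
    have zr : ∀ {i j}, bd (![1, 1, 1, 2] : Fin 4 → ZMod 3) (minusTbl (Fin.castLE (by decide) i))
        (minusTbl (Fin.castLE (by decide) j)) = 0 → b i j = 0 := fun h => (hz _ _).2 h
    have nz : ∀ {i j}, bd (![1, 1, 1, 2] : Fin 4 → ZMod 3) (minusTbl (Fin.castLE (by decide) i))
        (minusTbl (Fin.castLE (by decide) j)) ≠ 0 → b i j ≠ 0 := fun h e => h ((hz _ _).1 e)
    have hb : b = ![![2, b 0 1, 0, 0, 0], ![b 0 1, 2, b 1 2, 0, 0], ![0, b 1 2, 2, b 2 3, 0],
        ![0, 0, b 2 3, 2, b 3 4], ![0, 0, 0, b 3 4, 2]] := by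
      funext i j
      fin_cases i <;> fin_cases j <;> first | exact hd _ | exact rfl | exact hs _ _ | exact zr (by decide +kernel)
    have h1 : b 0 1 ≠ 0 := nz (by decide +kernel)
    have h2 : b 1 2 ≠ 0 := nz (by decide +kernel)
    have h3 : b 2 3 ≠ 0 := nz (by decide +kernel)
    have h4 : b 3 4 ≠ 0 := nz (by decide +kernel)
    refine ⟨![1, 2 * b 0 1, b 0 1 * b 1 2, 2 * b 0 1 * (b 1 2 * b 2 3), b 0 1 * b 1 2 * (b 2 3 * b 3 4)],
      fun i => ?_, fun i j => ?_⟩
    · fin_cases i <;> simp [h1, h2, h3, h4, f3_two]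
    · conv_lhs => rw [hb]
      exact sign_path _ _ _ _ h1 h2 h3 h4 i j

theorem proj_mem {W : Submodule (ZMod 3) (ι → ZMod 3)} {p x : ι → ZMod 3} (hp : p ∈ W) (hpq : Q p = 1)
    (hx : x ∈ W) : x - (2 * B p x) • p ∈ W ⊓ perpS Q {p} := by
  refine mem_cut.2 ⟨W.sub_mem hx (W.smul_mem _ hp), ?_⟩
  rw [b_sub_right, b_smul_right, b_self, hpq]
  linear_combination -B p x * Fischer.three_eq_zero

/-- Bijections respecting reflections are induced by isometries. -/
theorem lin_aut (hB : Nondeg Q) (n : ℕ) (hn : 4 ≤ n) : ∀ {φ : RP Q → RP Q}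
    {W W' : Submodule (ZMod 3) (ι → ZMod 3)}, NondegOn Q W → NondegOn Q W' →
    Module.finrank (ZMod 3) W = n → Module.finrank (ZMod 3) W' = n → PtMap φ W W' → Induced φ W W' := by
  induction n, hn using Nat.le_induction with
  | base => exact fun hW _ h h' M => lin_four hB hW h h' M
  | succ n hn IH =>
    intro φ W W' hW hW' h h' M
    obtain ⟨a, ha, qa⟩ := exists_norm hB hW (by omega) one_ne_zero
    have hp0 : mkR a qa ∈ ptsIn Q W := mkR_mem.2 ha
    set p0 := mkR a qa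
    have na : Q p0.1.rep ≠ 0 := by rw [p0.2]; exact one_ne_zero
    set a' := (φ p0).1.rep with ha'def
    have ha' : a' ∈ W' := M.bij.mapsTo hp0
    have na' : Q a' ≠ 0 := by rw [ha'def, (φ p0).2]; exact one_ne_zero
    have qa' : Q a' = 1 := (φ p0).2
    set b := p0.1.rep with hbdef
    have qb : Q b = 1 := p0.2
    set W0 := W ⊓ perpS Q {b}
    set W0' := W' ⊓ perpS Q {a'}
    have hsub : ∀ p, p ∈ ptsIn Q W0 ↔ p ∈ ptsIn Q W ∧ B b p.1.rep = 0 := fun p => mem_cut
    have hsub' : ∀ p, p ∈ ptsIn Q W0' ↔ p ∈ ptsIn Q W' ∧ B a' p.1.rep = 0 := fun p => mem_cut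
    have M0 : PtMap φ W0 W0' := by
      refine ⟨⟨fun p hp => ?_, M.bij.injOn.mono fun p hp => ((hsub p).1 hp).1, fun q hq => ?_⟩,
        fun p hp q hq => M.op p ((hsub p).1 hp).1 q ((hsub q).1 hq).1⟩
      · obtain ⟨hp1, hp2⟩ := (hsub p).1 hp
        exact (hsub' _).2 ⟨M.bij.mapsTo hp1, (M.orth hp0 hp1).2 hp2⟩
      · obtain ⟨hq1, hq2⟩ := (hsub' q).1 hq
        obtain ⟨p, hp, rfl⟩ := M.bij.surjOn hq1
        exact ⟨p, (hsub p).2 ⟨hp, (M.orth hp0 hp).1 hq2⟩, rfl⟩
    have f0 : Module.finrank (ZMod 3) W0 = n := by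
      have h1 : Module.finrank (ZMod 3) W0 + 1 = _ := cut_finrank_eq hB (v := b) hp0 na
      omega
    have f0' : Module.finrank (ZMod 3) W0' = n := by
      have h1 : Module.finrank (ZMod 3) W0' + 1 = _ := cut_finrank_eq hB ha' na'
      omega
    have hW0 := cut_nondeg hW (p := b) hp0 na
    have hW0' := cut_nondeg hW' ha' na'
    obtain ⟨h0, hh0, hφ0⟩ := IH hW0 hW0' f0 f0' M0
    have hb0 : ∀ {x y}, x ∈ W0 → y ∈ W0 → B (h0 x) (h0 y) = B x y := fun hx hy =>
      isometry_b (fun z hz => (hh0 z hz).2) hx hy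
    have hq : ∀ x ∈ W0, Q x = 0 → Q (b + x) = 1 := fun x hx hxq => by
      rw [q_add, qb, hxq, (mem_cut.1 hx).2]; ring
    have hq' : ∀ y ∈ W0', Q y = 0 → ∀ e : ZMod 3, Q (a' + e • y) = 1 := fun y hy hyq e => by
      rw [q_add, qa', q_smul, hyq, b_smul_right, (mem_cut.1 hy).2]; ring
    -- the sign of a singular vector
    have hε : ∀ x ∈ W0, ∀ hxq : Q x = 0, x ≠ 0 → ∃ e : ZMod 3, e ≠ 0 ∧
        ∀ h1 h2, φ (mkR (b + x) h1) = mkR (a' + e • h0 x) h2 := by
      intro x hx hxq hx0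
      have hbx : B b x = 0 := (mem_cut.1 hx).2
      have hpW : mkR _ (hq x hx hxq) ∈ ptsIn Q W := mkR_mem.2 (W.add_mem hp0 (mem_cut.1 hx).1)
      set p := mkR _ (hq x hx hxq) with hp
      obtain ⟨k, hk, ek⟩ := mkR_rep _ (hq x hx hxq)
      set v := (φ p).1.rep
      have hbp : B b p.1.rep ≠ 0 := by
        rw [ek, b_smul_right, b_add_right, b_self, qb, hbx, add_zero, mul_one]
        exact mul_ne_zero hk f3_two
      have hav : B a' v ≠ 0 := fun e => hbp ((M.orth hp0 hpW).1 e)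
      -- normal form of the image
      set c := B a' v
      set y := (2 * c) • v - a'
      have hy : y ∈ W0' := mem_cut.2 ⟨W'.sub_mem (W'.smul_mem _ (M.bij.mapsTo hpW)) ha', by
        rw [b_sub_right, b_smul_right, b_self, qa']; linear_combination 2 * f3_sq hav⟩
      have hyq : Q y = 0 := by
        rw [q_sub, q_smul, qa', b_smul_left, b_comm v a', (φ p).2]
        linear_combination 2 * f3_sq hav + Fischer.three_eq_zero
      have hperp : ∀ u ∈ W0', Q u = 1 → B (h0 x) u = 0 → B y u = 0 := by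
        intro u hu qu hxu
        obtain ⟨q, hq0, hqu⟩ := M0.bij.surjOn (mkR_mem (h := qu).2 hu)
        obtain ⟨l, hl, el⟩ := mkR_rep u qu
        have hqW := ((hsub q).1 hq0).1
        have hq1 : Q (h0 q.1.rep) = 1 := (hh0 _ hq0).2.trans q.2
        rw [hφ0 q hq0 hq1] at hqu
        obtain ⟨t, ht⟩ := mkR_eq_iff.1 hqu
        have h3 : B x q.1.rep = 0 := by rw [← hb0 hx hq0, ← ht, b_smul_right, hxu, mul_zero]
        have h4 : B v (φ q).1.rep = 0 := (M.orth hpW hqW).2 (by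
          rw [ek, b_smul_left, b_add_left, h3, ((hsub q).1 hq0).2]; ring)
        rw [hφ0 q hq0 hq1, hqu, el, b_smul_right, mul_eq_zero, or_iff_right hl] at h4
        rw [b_sub_left, b_smul_left, h4, (mem_cut.1 hu).2]; ring
      have hy0 : y ≠ 0 := fun e => by
        rw [sub_eq_zero] at e
        have h5 : φ p = φ p0 := rp_eq (c := 2 * c) (by
          show v = (2 * c) • a'
          rw [← e, smul_smul, f3_inv hav, one_smul])
        have h6 := congrArg (fun q : RP Q => q.1.rep) (M.bij.injOn hpW hp0 h5)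
        change p.1.rep = b at h6
        rw [ek, smul_add] at h6
        have h7 : k • x = (1 - k) • b := by rw [sub_smul, one_smul, eq_sub_iff_add_eq']; exact h6
        have h8 := congrArg (B b) h7
        rw [b_smul_right, hbx, mul_zero, b_smul_right, b_self, qb, mul_one] at h8
        rw [(mul_eq_zero.1 h8.symm).resolve_right f3_two, zero_smul, smul_eq_zero] at h7
        exact h7.elim hk hx0
      have hx' : h0 x ≠ 0 := fun e => hx0 (hW0 x hx fun z hz => by
        rw [← hb0 hx hz, e, b_zero_left])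
      obtain ⟨e, he⟩ := Submodule.mem_span_singleton.1 (perp_points hB hW0' (hh0 x hx).1 hy hx'
        ((hh0 x hx).2.trans hxq) hyq
        (fun hne => plane_point hB hW0' (hn.trans f0'.ge) (hh0 x hx).1 hy ((hh0 x hx).2.trans hxq) hyq hne) hperp)
      refine ⟨e, fun h => hy0 (by rw [← he, h, zero_smul]), fun h1 h2 => ?_⟩
      rw [← mkR_self (φ (mkR (b + x) h1))]
      refine mkR_eq_iff.2 ⟨2 * c, ?_⟩
      rw [he]
      show (2 * c) • (a' + ((2 * c) • v - a')) = v
      rw [add_sub_cancel, smul_smul, f3_inv hav, one_smul]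
    -- one sign serves all
    obtain ⟨e, he0, he⟩ : ∃ e : ZMod 3, e ≠ 0 ∧ ∀ x ∈ W0, Q x = 0 → x ≠ 0 →
        ∀ h1 h2, φ (mkR (b + x) h1) = mkR (a' + e • h0 x) h2 := by
      by_cases hx : ∃ x ∈ W0, Q x = 0 ∧ x ≠ 0
      swap
      · exact ⟨1, one_ne_zero, fun x hx' h1 h2 => absurd ⟨x, hx', h1, h2⟩ hx⟩
      obtain ⟨x, hx, hxq, hx0⟩ := hx
      obtain ⟨e, he0, he⟩ := hε x hx hxq hx0
      refine ⟨e, he0, fun y hy hyq hy0 => sing_orbit hB hW0
        (fun z => ∀ h1 h2, φ (mkR (b + z) h1) = mkR (a' + e • h0 z) h2) ?_ ?_ hx hy hxq hyq hx0 hy0 he⟩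
      · intro z hz hzq _ hp h1 h2
        have hbz : B b z = 0 := (mem_cut.1 hz).2
        have haz : B a' (e • h0 z) = 0 := by rw [b_smul_right, (mem_cut.1 (hh0 z hz).1).2, mul_zero]
        have h3 : mkR (b + -z) h1 = rop p0 (mkR (b + z) (hq z hz hzq)) := by
          rw [show rop p0 _ = rop (mkR b qb) _ by rw [mkR_self], rop_mk, mkR_eq_iff]
          refine ⟨-1, ?_⟩
          rw [b_add_right, b_self, qb, hbz, neg_one_smul, neg_sub, add_zero, mul_one, two_smul]
          abel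
        rw [h3, M.op _ hp0 _ (mkR_mem.2 (W.add_mem hp0 (mem_cut.1 hz).1)),
          hp (hq z hz hzq) (hq' _ (hh0 z hz).1 ((hh0 z hz).2.trans hzq) e),
          show rop (φ p0) _ = rop (mkR a' qa') _ by rw [mkR_self], rop_mk, mkR_eq_iff]
        refine ⟨-1, ?_⟩
        rw [b_add_right, b_self, qa', haz, map_neg, smul_neg, neg_one_smul, add_zero, mul_one, two_smul]
        abel
      · intro z hz hzq _ u hu qu hp h1 h2
        have huW : mkR u qu ∈ ptsIn Q W := mkR_mem.2 (mem_cut.1 hu).1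
        have h3 : mkR (b + (z - B u z • u)) h1 = rop (mkR u qu) (mkR (b + z) (hq z hz hzq)) := by
          rw [rop_mk, mkR_eq_iff]
          refine ⟨1, ?_⟩
          rw [one_smul, b_add_right, b_comm u b, (mem_cut.1 hu).2, zero_add]
          abel
        obtain ⟨t, ht, et⟩ := mkR_rep u qu
        have hq1 : Q (h0 (mkR u qu).1.rep) = 1 := (hh0 _ (mkR_mem.2 hu)).2.trans (mkR u qu).2
        rw [h3, M.op _ huW _ (mkR_mem.2 (W.add_mem hp0 (mem_cut.1 hz).1)),
          hp (hq z hz hzq) (hq' _ (hh0 z hz).1 ((hh0 z hz).2.trans hzq) e), hφ0 _ (mkR_mem.2 hu) hq1, rop_mk,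
          mkR_eq_iff]
        refine ⟨1, ?_⟩
        rw [one_smul, et, map_smul, b_smul_left, b_add_right, b_smul_right, b_comm (h0 u) a',
          (mem_cut.1 (hh0 u hu).1).2, hb0 hu hz, map_sub, map_smul, smul_sub, smul_smul, smul_smul, add_sub_assoc]
        congr 3
        linear_combination -e * B u z * f3_sq ht
    refine ⟨h0 ∘ₗ (LinearMap.id - ((2 : ZMod 3) • (QuadraticMap.polarBilin Q b)).smulRight b) +
      ((2 : ZMod 3) • (QuadraticMap.polarBilin Q b)).smulRight (e • a'), ?_, ?_⟩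
    · intro x hx
      simp only [LinearMap.add_apply, LinearMap.comp_apply, LinearMap.sub_apply, LinearMap.id_apply,
        LinearMap.smulRight_apply, LinearMap.smul_apply, QuadraticMap.polarBilin_apply_apply, smul_eq_mul]
      have hx0 := proj_mem (p := b) hp0 qb hx
      refine ⟨W'.add_mem (mem_cut.1 (hh0 _ hx0).1).1 (W'.smul_mem _ (W'.smul_mem _ ha')), ?_⟩
      rw [q_add, (hh0 _ hx0).2, q_smul, q_smul, b_smul_right, b_smul_right, b_comm _ a',
        (mem_cut.1 (hh0 _ hx0).1).2, q_sub, q_smul, b_smul_right, qa', qb, b_comm x b]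
      linear_combination (4 * B b x * B b x) * f3_sq he0 + 2 * (B b x * B b x) * Fischer.three_eq_zero
    · intro p hp
      simp only [LinearMap.add_apply, LinearMap.comp_apply, LinearMap.sub_apply, LinearMap.id_apply,
        LinearMap.smulRight_apply, LinearMap.smul_apply, QuadraticMap.polarBilin_apply_apply, smul_eq_mul]
      intro hq1
      by_cases hc : B b p.1.rep = 0
      · have hp0' : p ∈ ptsIn Q W0 := (hsub p).2 ⟨hp, hc⟩
        rw [hφ0 p hp0' ((hh0 _ hp0').2.trans p.2), mkR_eq_iff]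
        exact ⟨1, by rw [one_smul, hc, mul_zero, zero_smul, zero_smul, sub_zero, add_zero]⟩
      set c := B b p.1.rep with hcdef
      set x := (2 * c) • p.1.rep - b
      have hx : x ∈ W0 := mem_cut.2 ⟨W.sub_mem (W.smul_mem _ hp) hp0, by
        rw [b_sub_right, b_smul_right, b_self, qb]; linear_combination 2 * f3_sq hc⟩
      have hxq : Q x = 0 := by
        rw [q_sub, q_smul, qb, b_smul_left, b_comm _ b, p.2, ← hcdef]
        linear_combination 2 * f3_sq hc + Fischer.three_eq_zero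
      have hproj : h0 (p.1.rep - (2 * c) • b) = (2 * c) • h0 x := by
        rw [← map_smul, show (2 * c) • x = p.1.rep - (2 * c) • b by
          rw [smul_sub, smul_smul, f3_inv hc, one_smul]]
      have hpeq : p = mkR (b + x) (hq x hx hxq) := by
        refine (mkR_self p).symm.trans (mkR_eq_iff.2 ⟨2 * c, ?_⟩)
        rw [show b + x = (2 * c) • p.1.rep from add_sub_cancel .., smul_smul, f3_inv hc, one_smul]
      by_cases hx0 : x = 0
      · have h5 : p = p0 := hpeq.trans (((mkR_eq_iff (hw := p0.2)).2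
          ⟨1, by rw [one_smul, hx0, add_zero]⟩).trans (mkR_self p0))
        rw [show φ p = φ p0 from congrArg φ h5, ← mkR_self (φ p0), mkR_eq_iff]
        refine ⟨e * (2 * c), ?_⟩
        rw [hproj, hx0, map_zero, smul_zero, zero_add, smul_smul, smul_smul]
        show (e * (2 * c) * (2 * c) * e) • a' = a'
        rw [show e * (2 * c) * (2 * c) * e = 1 by linear_combination e * e * f3_inv hc + f3_sq he0, one_smul]
      rw [show φ p = _ from (congrArg φ hpeq).trans
        (he x hx hxq hx0 _ (hq' _ (hh0 x hx).1 ((hh0 x hx).2.trans hxq) e)), mkR_eq_iff]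
      refine ⟨e * (2 * c), ?_⟩
      rw [hproj, smul_add, smul_smul, smul_smul, smul_smul, add_comm]
      match_scalars
      · linear_combination e * e * f3_inv hc + f3_sq he0
      · linear_combination e * f3_inv hc

end CfsgLib.FischerClass
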