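import Cfsg.Agent.Lib.FischerClass.OrthThreeCount

/-!
The common neighbours of two non-commuting members in the coordinates of reflections over the field with
three elements: the points orthogonal to a singular vector.
-/

set_option autoImplicit false
set_option linter.unusedSectionVars false

namespace CfsgLib.FischerClass

open Cfsg CfsgLib.Orth

variable {ι : Type} [Fintype ι] [DecidableEq ι] {Q : QuadraticForm (ZMod 3) (ι → ZMod 3)}

local notation "B" => QuadraticMap.polar (DFunLike.coe Q)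

/-- A word in coordinates. -/
def wd {m : ℕ} (N : Fin m → ZMod 3) (cs : List (Fin m → ZMod 3)) (c : Fin m → ZMod 3) : Fin m → ZMod 3 :=
  cs.foldr (fun u x => x - bd N u x • u) c

theorem act_frame {m : ℕ} {N : Fin m → ZMod 3} {v : Fin m → ι → ZMod 3} (hv : IsFrame Q N v) :
    ∀ cs : List (Fin m → ZMod 3), (∀ u ∈ cs, qd N u = 1) → ∃ W : List (RP Q), ∀ c hq,
      ∃ hq', act rop W (mkR (comb v c) hq) = mkR (comb v (wd N cs c)) hq' := by
  intro cs hcs
  induction cs with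
  | nil => exact ⟨[], fun c hq => ⟨hq, rfl⟩⟩
  | cons u cs ih =>
    obtain ⟨W, hW⟩ := ih fun x hx => hcs x (List.mem_cons_of_mem _ hx)
    have hu : Q (comb v u) = 1 := (hv.q_comb u).trans (hcs u (List.mem_cons_self ..))
    refine ⟨mkR _ hu :: W, fun c hq => ?_⟩
    obtain ⟨h, e⟩ := hW c hq
    have h2 : comb v (wd N (u :: cs) c) =
        comb v (wd N cs c) - B (comb v u) (comb v (wd N cs c)) • comb v u := by
      rw [hv.b_comb, ← map_smul, ← map_sub]; rfl
    refine ⟨by rw [h2]; exact refl_norm hu h, ?_⟩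
    show rop (mkR _ hu) (act rop W (mkR (comb v c) hq)) = _
    rw [e, rop_mk, mkR_eq_iff]
    exact ⟨1, by rw [one_smul, h2]⟩

/-- A word fixing two axes and turning the other three. -/
def fiveWord : List (Fin 5 → ZMod 3) :=
  [![1, 1, 2, 0, 1], ![1, 1, 0, 1, 2], ![1, 0, 1, 1, 1], ![0, 1, 1, 1, 1]]

theorem five_facts : (∀ u ∈ fiveWord, qd (fun _ => 1) u = 1) ∧
    (wd (fun _ => 1) fiveWord (Pi.single 0 1) = -Pi.single 0 1) ∧
    (∀ c : Fin 5 → ZMod 3, bd (fun _ => 1) ![0, 0, 1, 1, 1] (wd (fun _ => 1) fiveWord c) =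
      bd (fun _ => 1) ![0, 0, 1, 1, 1] c ∧ (c 0 = 0 → wd (fun _ => 1) fiveWord c 0 = 0) ∧
      (c 1 = 0 → wd (fun _ => 1) fiveWord c 1 = 0)) ∧
    ∀ c' : Fin 5 → ZMod 3, c' 0 = 0 → c' 1 = 0 → qd (fun _ => 1) c' = 0 →
      (∃ k : ZMod 3, c' = k • ![0, 0, 1, 1, 1]) ∨ ∃ c, qd (fun _ => 1) c = 1 ∧ c 1 = 0 ∧
        bd (fun _ => 1) c' c = 0 ∧ bd (fun _ => 1) c' (wd (fun _ => 1) fiveWord c) ≠ 0 := by
  refine ⟨?_, ?_, ?_, ?_⟩ <;> decide +kernel

variable {G : Type*} [Group G] [Finite G] {D : Set G} {f : RP Q → G} {d a : G}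

/-- In dimension five the sections at two orthogonal common neighbours agree. -/
theorem sec_five (hB : Nondeg Q) (hn : Fintype.card ι = 5) (X : Ctx D) (C : Co D d rop f) (hd : d ∈ D)
    (ha : a ∈ D) (hda : ¬ Commute d a) {e : RP Q} (he : e ∈ Sc f a) {r r' : ι → ZMod 3}
    {v : Fin 5 → ι → ZMod 3} (hv : IsFrame Q (fun _ => 1) v) (hv0 : v 0 = e.1.rep)
    (hr : r = v 2 + v 3 + v 4) (hsec : ∀ q ∈ Nb rop e, (q ∈ Sc f a ↔ B r q.1.rep = 0))
    (hu : mkR (v 1) (hv.norm 1) ∈ Sc f a) (hr0 : B (v 1) r' = 0) (hre : B e.1.rep r' = 0) (hrq : Q r' = 0)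
    (hsec' : ∀ q ∈ Nb rop (mkR (v 1) (hv.norm 1)), (q ∈ Sc f a ↔ B r' q.1.rep = 0)) :
    r' ∈ Submodule.span (ZMod 3) {r} := by
  have hN : ∀ i : Fin 5, (fun _ => (1 : ZMod 3)) i ≠ 0 := fun _ => one_ne_zero
  obtain ⟨h1, h2, h3, h4⟩ := five_facts
  have hrc : r = comb v ![0, 0, 1, 1, 1] := by
    rw [hr, comb_apply, Fin.sum_univ_five]; simp
  obtain ⟨c', rfl⟩ := hv.surj hN hn r'
  have c0 : c' 0 = 0 := by
    rw [← hv0, hv.coef] at hre
    exact (mul_eq_zero.1 hre).resolve_left (mul_ne_zero f3_two one_ne_zero)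
  have c1 : c' 1 = 0 := by
    rw [hv.coef] at hr0
    exact (mul_eq_zero.1 hr0).resolve_left (mul_ne_zero f3_two one_ne_zero)
  rcases h4 c' c0 c1 (by rw [← hv.q_comb, hrq]) with ⟨k, hk⟩ | ⟨c, hc, hc1, hcc, hcw⟩
  · exact Submodule.mem_span_singleton.2 ⟨k, by rw [hk, map_smul, hrc]⟩
  exfalso
  obtain ⟨W, hW⟩ := act_frame hv fiveWord h1
  have hefix : act rop W e = e := by
    have h5 : Q (comb v (Pi.single 0 1)) = 1 := by rw [comb_single, hv.norm]
    have he' : e = mkR _ h5 := (mkR_self e).symm.trans (mkR_eq_iff.2 ⟨1, by rw [one_smul, comb_single, hv0]⟩)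
    obtain ⟨h6, h7⟩ := hW _ h5
    rw [he', h7, mkR_eq_iff]
    exact ⟨-1, by rw [h2, map_neg, neg_one_smul]⟩
  have hinv := X.sc_invariant (rop_fib hB hn.ge) C hd ha hda he hefix fun p hp hpS => by
    obtain ⟨b, hb⟩ := hv.surj hN hn p.1.rep
    have hq : Q (comb v b) = 1 := by rw [hb]; exact p.2
    have hp' : p = mkR _ hq := (mkR_self p).symm.trans (mkR_eq_iff.2 ⟨1, by rw [one_smul, hb]⟩)
    obtain ⟨hq', e'⟩ := hW b hq
    have hb0 : b 0 = 0 := by
      have h := (nbR_iff' e p).1 hp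
      rw [← hb, ← hv0, hv.coef] at h
      exact (mul_eq_zero.1 h).resolve_left (mul_ne_zero f3_two one_ne_zero)
    have hrb := (hsec p hp).1 hpS
    rw [← hb, hrc, hv.b_comb] at hrb
    rw [hp', e', hsec _ (mkR_nb hq' (by rw [← hv0, hv.coef, (h3 b).2.1 hb0, mul_zero])), b_mk_right, hrc,
      hv.b_comb, (h3 b).1, hrb]
  have hq : Q (comb v c) = 1 := (hv.q_comb c).trans hc
  obtain ⟨hq', e'⟩ := hW c hq
  have hnb : ∀ b (h : Q (comb v b) = 1), b 1 = 0 → mkR _ h ∈ Nb rop (mkR (v 1) (hv.norm 1)) := fun b h hb =>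
    (nbR_iff' _ _).2 (by rw [b_mk_left, b_mk_right, hv.coef, hb, mul_zero])
  have hS : mkR _ hq ∈ Sc f a := (hsec' _ (hnb c hq hc1)).2 (by rw [b_mk_right, hv.b_comb, hcc])
  have hS' := hinv _ hS
  rw [e', hsec' _ (hnb _ hq' ((h3 c).2.2 hc1)), b_mk_right, hv.b_comb] at hS'
  exact hcw hS'

/-- The common neighbours are orthogonal to the vector of any section. -/
theorem shape_sub (hB : Nondeg Q) (hn : 5 ≤ Fintype.card ι) (X : Ctx D) (C : Co D d rop f) (hd : d ∈ D)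
    (ha : a ∈ D) (hda : ¬ Commute d a) {e : RP Q} (he : e ∈ Sc f a) {r : ι → ZMod 3}
    (hrq : Q r = 0) (hre : B e.1.rep r = 0) (hsec : ∀ q ∈ Nb rop e, (q ∈ Sc f a ↔ B r q.1.rep = 0)) :
    ∀ q ∈ Sc f a, B r q.1.rep = 0 := by
  intro q hq
  by_cases hqe : q = e
  · rw [hqe, b_comm, hre]
  by_cases hqn : Adj rop e q
  swap
  · exact (hsec q ⟨hqe, of_not_not hqn⟩).1 hq
  obtain ⟨s, hs, hsq, -, qs, rfl⟩ := adj_form hqn
  set x := e.1.rep with hx
  have qx : Q x = 1 := e.2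
  rw [b_mk_right, b_add_right, b_comm r x, hre, zero_add]
  by_contra hb
  set b := B r s with hbdef
  have hxs : B x s = 0 := mem_perp.1 hs
  have nx : Q x ≠ 0 := by rw [qx]; exact one_ne_zero
  have f1 := perp_finrank hB nx
  obtain ⟨K, hK, fK, hKle, hKm⟩ := hyp_split hB (perp_nondeg hB nx) (mem_perp.2 hre) hs hrq hsq hb
  obtain ⟨k₁, hk1, q1⟩ := exists_norm hB hK (by omega) one_ne_zero
  have n1 : Q k₁ ≠ 0 := by rw [q1]; exact one_ne_zero
  have f2 := cut_finrank_eq hB hk1 n1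
  obtain ⟨hk1x, hk1r, hk1s⟩ : B x k₁ = 0 ∧ B r k₁ = 0 ∧ B s k₁ = 0 :=
    ⟨mem_perp.1 ((hKm _).1 hk1).1, ((hKm _).1 hk1).2⟩
  by_cases hex : ∃ k₂ ∈ K ⊓ perpS Q {k₁}, Q k₂ = 1
  · obtain ⟨k₂, hk2, q2⟩ := hex
    obtain ⟨hk2K, h12⟩ := mem_cut.1 hk2
    obtain ⟨hk2x, hk2r, hk2s⟩ : B x k₂ = 0 ∧ B r k₂ = 0 ∧ B s k₂ = 0 :=
      ⟨mem_perp.1 ((hKm _).1 hk2K).1, ((hKm _).1 hk2K).2⟩
    have hu : ∀ k, Q k = 1 → B x k = 0 → B r k = 0 → ∀ h : Q (k + r) = 1, mkR (k + r) h ∈ Sc f a :=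
      fun k _ h1 h2 h => (hsec _ (mkR_nb h (by rw [b_add_right, h1, hre, add_zero]))).2
        (by rw [b_mk_right, b_add_right, h2, b_self_zero hrq, add_zero])
    have q1r : Q (k₁ + r) = 1 := by rw [q_add, q1, hrq, b_comm k₁ r, hk1r]; ring
    have q2r : Q (k₂ + r) = 1 := by rw [q_add, q2, hrq, b_comm k₂ r, hk2r]; ring
    -- the point moved by two reflections and the one at the first
    set w := b • (k₁ + r) + b • (k₂ + r) - s
    have hwq : Q (x + w) = 1 := by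
      simp only [w, q_add, q_sub, q_smul, b_add_left, b_add_right, b_sub_right, b_smul_left, b_smul_right,
        qx, q1, q2, hrq, hsq, hk1x, hk2x, hre, hxs, h12, b_self_zero hrq, b_comm k₁ r, b_comm k₂ r,
        b_comm k₁ s, b_comm k₂ s, hk1r, hk2r, hk1s, hk2s, ← hbdef]
      have := f3_sq hb
      ring_nf
    have hmove : mkR (x + w) hwq ∈ Sc f a := by
      have hA : mkR (x + s) qs ∈ Sc f a := hq
      have h2 := (X.sc_closed C (hu k₂ q2 hk2x hk2r q2r)).2 hA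
      rw [rop_mk] at h2
      have h1 := (X.sc_closed C (hu k₁ q1 hk1x hk1r q1r)).2 h2
      rw [rop_mk] at h1
      have h0 := (X.sc_closed C he).2 h1
      convert h0 using 1
      rw [show ∀ p, rop e p = rop (mkR x qx) p from fun p => by rw [mkR_self], rop_mk, mkR_eq_iff]
      refine ⟨-1, ?_⟩
      simp only [w, b_add_left, b_add_right, b_sub_right, b_smul_right, b_comm k₁ x, b_comm k₂ x,
        b_comm k₁ r, b_comm k₂ r, h12, hk1r, hk2r, b_self_zero hrq, hk1x, hk2x, hre, hxs, b_comm r x, b_self x,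
        qx, hk1s, hk2s, b_comm k₁ s, b_comm k₂ s, ← hbdef]
      simp only [mul_zero, add_zero, zero_add, sub_zero, mul_one]
      module
    have hu' : rop (mkR (x + s) qs) (mkR (x + w) hwq) ∈ Sc f a := (X.sc_closed C hq).2 hmove
    have hbsw : B (x + s) (x + w) = 1 := by
      simp only [w, b_add_left, b_add_right, b_sub_right, b_smul_right, b_self x, qx, hk1x, hk2x, hre, hxs,
        b_comm s x, b_self_zero hsq, hk1s, hk2s, b_comm s r, ← hbdef]
      linear_combination 2 * f3_sq hb + Fischer.three_eq_zero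
    have hz : ∀ h, mkR (w - s) h ∈ Sc f a := by
      intro h
      convert hu' using 1
      rw [rop_mk, mkR_eq_iff]
      exact ⟨1, by rw [one_smul, hbsw, one_smul]; abel⟩
    have hzq : Q (w - s) = 1 := by
      rw [show w - s = x + w - B (x + s) (x + w) • (x + s) by rw [hbsw, one_smul]; abel]
      exact refl_norm qs hwq
    have hzx : B x (w - s) = 0 := by
      simp only [w, b_sub_right, b_add_right, b_smul_right, hk1x, hk2x, hre, hxs]; ring
    have := (hsec _ (mkR_nb hzq hzx)).1 (hz hzq)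
    rw [b_mk_right] at this
    simp only [w, b_sub_right, b_add_right, b_smul_right, hk1r, hk2r, b_self_zero hrq, ← hbdef] at this
    refine mul_ne_zero f3_two hb ?_
    linear_combination -this
  · push Not at hex
    have hle : Module.finrank (ZMod 3) ↥(K ⊓ perpS Q {k₁}) ≤ 1 := by
      by_contra h
      obtain ⟨v, hv, hv1⟩ := exists_norm hB (cut_nondeg hK hk1 n1) (by omega) one_ne_zero
      exact hex v hv hv1
    obtain ⟨k₂, hk2, n2⟩ := exists_aniso_in (cut_nondeg hK hk1 n1) (by omega)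
    have q2 : Q k₂ = 2 := (f3_cases n2).resolve_left (hex k₂ hk2)
    obtain ⟨hk2K, h12⟩ := mem_cut.1 hk2
    obtain ⟨hk2x, hk2r, hk2s⟩ : B x k₂ = 0 ∧ B r k₂ = 0 ∧ B s k₂ = 0 :=
      ⟨mem_perp.1 ((hKm _).1 hk2K).1, ((hKm _).1 hk2K).2⟩
    have hn5 : Fintype.card ι = 5 := by omega
    have hv : IsFrame Q (fun _ : Fin 5 => (1 : ZMod 3))
        ![x, k₁, -(r + b • s), r - b • s + k₂, r - b • s - k₂] := by
      intro i j
      have hbb := f3_sq hb
      fin_cases i <;> fin_cases j <;>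
        simp [← neg_one_smul (ZMod 3) (r + b • s), b_add_left, b_add_right, b_sub_left, b_sub_right,
          b_smul_left, b_smul_right, b_self x, b_self k₁, b_self k₂, b_self_zero hrq, b_self_zero hsq, qx, q1, q2,
          q_add, q_sub, q_smul, hrq, hsq, QuadraticMap.map_neg, hre, hxs, hk1x, hk2x, hk1r, hk2r, hk1s, hk2s, h12, b_comm s r, b_comm r x, b_comm s x,
          b_comm k₁ x, b_comm k₂ x, b_comm k₁ r, b_comm k₂ r, b_comm k₁ s, b_comm k₂ s, b_comm k₂ k₁,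
          ← hbdef] <;>
        (revert hb hbb; generalize b = c; revert c; decide +kernel)
    have hk1nb : mkR k₁ q1 ∈ Nb rop e := mkR_nb q1 hk1x
    have huS : mkR k₁ q1 ∈ Sc f a := (hsec _ hk1nb).2 (b_mk_right.2 hk1r)
    obtain ⟨r', hr'0, hr'q, hr'u, hsec'⟩ := orth_three_section hB hn X C hd ha hda huS
    rw [b_mk_left] at hr'u
    have henb : e ∈ Nb rop (mkR k₁ q1) := (nbR_iff' _ _).2 (by rw [b_mk_left, b_comm, hk1x])
    have hr'x : B x r' = 0 := by rw [b_comm]; exact (hsec' e henb).1 he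
    obtain ⟨c, hc⟩ := Submodule.mem_span_singleton.1 (sec_five hB hn5 X C hd ha hda he hv rfl
      (show r = -(r + b • s) + (r - b • s + k₂) + (r - b • s - k₂) by
        match_scalars <;> (generalize b = c; revert c; decide +kernel))
      hsec huS hr'u hr'x hr'q hsec')
    have hqu : mkR (x + s) qs ∈ Nb rop (mkR k₁ q1) :=
      (nbR_iff' _ _).2 (by rw [b_mk_left, b_mk_right, b_add_right, b_comm, hk1x, b_comm, hk1s, add_zero])
    have h := b_mk_right.1 ((hsec' _ hqu).1 hq)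
    rw [← hc, b_smul_left, b_add_right, b_comm r x, hre, zero_add, mul_eq_zero] at h
    rcases h with h | h
    · exact hr'0 (by rw [← hc, h, zero_smul])
    · exact hb h

/-- Points orthogonal to a common neighbour and to the vector are common neighbours. -/
theorem shape_grow (hB : Nondeg Q) (hn : 5 ≤ Fintype.card ι) (X : Ctx D) (C : Co D d rop f) (hd : d ∈ D)
    (ha : a ∈ D) (hda : ¬ Commute d a) {e : RP Q} (he : e ∈ Sc f a) {r : ι → ZMod 3} (hr0 : r ≠ 0)
    (hrq : Q r = 0) (hre : B e.1.rep r = 0) (hsec : ∀ q ∈ Nb rop e, (q ∈ Sc f a ↔ B r q.1.rep = 0)) :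
    ∀ g ∈ Sc f a, ∀ q, B g.1.rep q.1.rep = 0 → B r q.1.rep = 0 → q ∈ Sc f a := by
  intro g hg q hgq hrq'
  obtain ⟨r', -, hr'q, hr'g, hsec'⟩ := orth_three_section hB hn X C hd ha hda hg
  have hall := shape_sub hB hn X C hd ha hda hg hr'q hr'g hsec'
  obtain ⟨c, hc⟩ := Submodule.mem_span_singleton.1 (perp_line hB hn (A := e) (mem_perp.2 hre)
    (mem_perp.2 (by rw [b_comm]; exact hall e he)) hr0 hrq hr'q fun p hp hrp => hall p ((hsec p hp).2 hrp))
  exact (hsec' q ((nbR_iff' g q).2 hgq)).2 (by rw [← hc, b_smul_left, hrq', mul_zero])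

/-- The coordinates of the small configurations. -/
def smallR {m : ℕ} (i : Fin m) : ZMod 3 := if i.1 = 1 ∨ i.1 = 2 then 1 else 0

theorem small_five : (Finset.univ.filter fun c : Fin 5 → ZMod 3 => qd ![1, 1, 2, 1, 2] c = 1 ∧ Lead c ∧ True).card = 45 ∧
    (Finset.univ.filter fun c : Fin 5 → ZMod 3 => qd ![1, 1, 2, 1, 2] c = 1 ∧ Lead c ∧ c 0 = 0).card = 12 ∧
    (Finset.univ.filter fun c : Fin 5 → ZMod 3 => qd ![1, 1, 2, 1, 2] c = 1 ∧ Lead c ∧
      (bd ![1, 1, 2, 1, 2] smallR c = 0 ∧ (c 0 = 0 ∨ ∀ j : Fin 2, c j.succ.succ.succ = 0))).card = 6 := by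
  refine ⟨?_, ?_, ?_⟩ <;> decide +kernel

theorem small_six :
    (Finset.univ.filter fun c : Fin 6 → ZMod 3 => qd ![1, 1, 2, 1, 1, 1] c = 1 ∧ Lead c ∧ True).card = 117 ∧
    (Finset.univ.filter fun c : Fin 6 → ZMod 3 => qd ![1, 1, 2, 1, 1, 1] c = 1 ∧ Lead c ∧ c 0 = 0).card = 36 ∧
    (Finset.univ.filter fun c : Fin 6 → ZMod 3 => qd ![1, 1, 2, 1, 1, 1] c = 1 ∧ Lead c ∧
      (bd ![1, 1, 2, 1, 1, 1] smallR c = 0 ∧ (c 0 = 0 ∨ ∀ j : Fin 3, c j.succ.succ.succ = 0))).card = 12 := by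
  refine ⟨?_, ?_, ?_⟩ <;> decide +kernel

/-- The common neighbours are the points orthogonal to a singular vector. -/
theorem orth_three_shape (hB : Nondeg Q) (hn : 5 ≤ Fintype.card ι) (X : Ctx D) (C : Co D d rop f) (hd : d ∈ D)
    (ha : a ∈ D) (hda : ¬ Commute d a) :
    ∃ r, r ≠ 0 ∧ Q r = 0 ∧ ∀ q, q ∈ Sc f a ↔ B r q.1.rep = 0 := by
  obtain ⟨e, he⟩ := X.sc_nonempty C hd ha hda
  obtain ⟨r, hr0, hrq, hre, hsec⟩ := orth_three_section hB hn X C hd ha hda he
  have sub := shape_sub hB hn X C hd ha hda he hrq hre hsec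
  have grow := shape_grow hB hn X C hd ha hda he hr0 hrq hre hsec
  refine ⟨r, hr0, hrq, ?_⟩
  set x := e.1.rep
  have qx : Q x = 1 := e.2
  have nx : Q x ≠ 0 := by rw [qx]; exact one_ne_zero
  have f1 := perp_finrank hB nx
  obtain ⟨s, hs, hsq, hrs⟩ := exists_partner_one hB (perp_nondeg hB nx) (mem_perp.2 hre) hr0 hrq
  obtain ⟨K, hK, fK, hKle, hKm⟩ := hyp_split hB (perp_nondeg hB nx) (mem_perp.2 hre) hs hrq hsq
    (by rw [hrs]; exact one_ne_zero)
  have hKb : ∀ z ∈ K, B x z = 0 ∧ B r z = 0 ∧ B s z = 0 := fun z hz =>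
    ⟨mem_perp.1 ((hKm z).1 hz).1, ((hKm z).1 hz).2⟩
  have hgS : ∀ g ∈ K, ∀ hg : Q g = 1, mkR g hg ∈ Sc f a := fun g hg qg =>
    (hsec _ (mkR_nb qg (hKb g hg).1)).2 (b_mk_right.2 (hKb g hg).2.1)
  let P : (ι → ZMod 3) → Prop := fun k => ∀ (t : ZMod 3) h, mkR (x + (k + t • r)) h ∈ Sc f a
  have hperp : ∀ k ∈ K, ∀ t : ZMod 3, B r (x + (k + t • r)) = 0 := fun k hk t => by
    rw [b_add_right, b_add_right, b_smul_right, b_comm r x, hre, (hKb k hk).2.1, b_self_zero hrq]; ring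
  have free : ∀ k ∈ K, ∀ g ∈ K, Q g = 1 → B g k = 0 → P k := by
    intro k hk g hg qg hgk t h
    refine grow _ (hgS g hg qg) _ ?_ (b_mk_right.2 (hperp k hk t))
    rw [b_mk_left, b_mk_right, b_add_right, b_add_right, b_smul_right, b_comm g x, (hKb g hg).1, hgk,
      b_comm g r, (hKb g hg).2.1]
    ring
  have hneg : ∀ z ∈ K, Q z = 0 → z ≠ 0 → P z → P (-z) := by
    intro z hz hzq _ hp t h
    have h' : Q (x + (z + (-t) • r)) = 1 := q_line qx (by
      rw [b_add_right, b_smul_right, hre, (hKb z hz).1]; ring) (by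
      rw [q_add, q_smul, hzq, hrq, b_smul_right, b_comm z r, (hKb z hz).2.1]; ring)
    have h2 := (X.sc_closed C he).2 (hp (-t) h')
    convert h2 using 1
    rw [show ∀ p, rop e p = rop (mkR x qx) p from fun p => by rw [mkR_self], rop_mk, mkR_eq_iff]
    refine ⟨-1, ?_⟩
    rw [b_add_right, b_add_right, b_smul_right, b_self, qx, (hKb z hz).1, hre]
    simp only [mul_zero, add_zero, mul_one]
    module
  have hrefl : ∀ z ∈ K, Q z = 0 → z ≠ 0 → ∀ u ∈ K, Q u = 1 → P z → P (z - B u z • u) := by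
    intro z hz hzq _ u hu qu hp t h
    have h' : Q (x + (z + t • r)) = 1 := q_line qx (by
      rw [b_add_right, b_smul_right, hre, (hKb z hz).1]; ring) (by
      rw [q_add, q_smul, hzq, hrq, b_smul_right, b_comm z r, (hKb z hz).2.1]; ring)
    have h2 := (X.sc_closed C (hgS u hu qu)).2 (hp t h')
    convert h2 using 1
    rw [rop_mk, mkR_eq_iff]
    refine ⟨1, ?_⟩
    rw [one_smul, b_add_right, b_add_right, b_smul_right, b_comm u x, (hKb u hu).1, b_comm u r, (hKb u hu).2.1]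
    simp only [mul_zero, add_zero, zero_add]
    abel
  obtain ⟨g₀, hg₀, qg₀⟩ := exists_norm hB hK (by omega) one_ne_zero
  have P0 : P 0 := free 0 K.zero_mem g₀ hg₀ qg₀ (b_zero_right _)
  -- every point orthogonal to the vector and not to the neighbour
  have form : ∀ q : RP Q, B r q.1.rep = 0 → Adj rop e q →
      ∃ k ∈ K, Q k = 0 ∧ ∃ (t : ZMod 3) (h : Q (x + (k + t • r)) = 1), q = mkR _ h := by
    intro q hq hadj
    obtain ⟨v, hv, hvq, -, hqv, rfl⟩ := adj_form hadj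
    have hrv : B r v = 0 := by
      rw [b_mk_right, b_add_right, b_comm r x, hre, zero_add] at hq; exact hq
    refine ⟨v - B s v • r, (hKm _).2 ⟨(perpS Q {x}).sub_mem hv (Submodule.smul_mem _ _ (mem_perp.2 hre)), ?_, ?_⟩,
      ?_, B s v, by rw [sub_add_cancel]; exact hqv, mkR_eq_iff.2 ⟨1, by rw [one_smul, sub_add_cancel]⟩⟩
    · rw [b_sub_right, b_smul_right, hrv, b_self_zero hrq]; ring
    · rw [b_sub_right, b_smul_right, b_comm s r, hrs]; ring
    · rw [q_sub, q_smul, hvq, hrq, b_smul_right, b_comm v r, hrv]; ring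
  suffices hall : ∀ k ∈ K, Q k = 0 → P k by
    refine fun q => ⟨sub q, fun hq => ?_⟩
    by_cases hqe : q = e
    · exact hqe ▸ he
    by_cases hadj : Adj rop e q
    · obtain ⟨k, hk, hkq, t, h, rfl⟩ := form q hq hadj
      exact hall k hk hkq t h
    · exact (hsec q ⟨hqe, of_not_not hadj⟩).2 hq
  have spread : ∀ k₀ ∈ K, Q k₀ = 0 → k₀ ≠ 0 → P k₀ → ∀ k ∈ K, Q k = 0 → P k := by
    intro k₀ hk₀ hk₀q hk₀0 hp k hk hkq
    by_cases hk0 : k = 0
    · exact hk0 ▸ P0
    exact sing_orbit hB hK P hneg hrefl hk₀ hk hk₀q hkq hk₀0 hk0 hp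
  by_cases hfree : ∃ k₀ ∈ K, Q k₀ = 0 ∧ k₀ ≠ 0 ∧ ∃ g ∈ K, Q g = 1 ∧ B g k₀ = 0
  · obtain ⟨k₀, hk₀, hk₀q, hk₀0, g, hg, qg, hgk⟩ := hfree
    exact spread k₀ hk₀ hk₀q hk₀0 (free k₀ hk₀ g hg qg hgk)
  push Not at hfree
  intro k hk hkq
  by_cases hk0 : k = 0
  · exact hk0 ▸ P0
  by_cases hsome : ∃ k₁ ∈ K, Q k₁ = 0 ∧ k₁ ≠ 0 ∧
      ∃ (t : ZMod 3) (h : Q (x + (k₁ + t • r)) = 1), mkR _ h ∈ Sc f a
  · obtain ⟨k₁, hk₁, hk₁q, hk₁0, t₁, h₁, hS₁⟩ := hsome
    obtain ⟨w, hw, hwq, hkw⟩ := exists_partner_one hB hK hk₁ hk₁0 hk₁q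
    have hw0 : w ≠ 0 := fun e => one_ne_zero (by rw [← hkw, e, b_zero_right])
    refine spread w hw hwq hw0 (fun t h => grow _ hS₁ _ ?_ (b_mk_right.2 (hperp w hw t))) k hk hkq
    rw [b_mk_left, b_mk_right]
    simp only [b_add_left, b_add_right, b_smul_left, b_smul_right, b_self x, qx, (hKb w hw).1,
      (hKb k₁ hk₁).1, hre, b_comm k₁ x, b_comm r x, b_comm k₁ r, (hKb k₁ hk₁).2.1, (hKb w hw).2.1, hkw,
      b_self_zero hrq]
    linear_combination Fischer.three_eq_zero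
  -- what remains is a small configuration
  exfalso
  push Not at hsome
  obtain ⟨w, hw, hwq, hkw⟩ := exists_partner_one hB hK hk hk0 hkq
  obtain ⟨L, hL, fL, hLle, hLm⟩ := hyp_split hB hK hk hw hkq hwq (by rw [hkw]; exact one_ne_zero)
  have hLone : ∀ g ∈ L, Q g ≠ 1 := fun g hg qg => by
    obtain ⟨hgK, hkg, -⟩ := (hLm g).1 hg
    exact hfree k hk hkq hk0 g hgK qg (by rw [b_comm, hkg])
  have hL1 : Module.finrank (ZMod 3) L ≤ 1 := by
    by_contra h
    obtain ⟨g, hg, qg⟩ := exists_norm hB hL (by omega) one_ne_zero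
    exact hLone g hg qg
  have small : ∀ {m : ℕ} (N : Fin m → ZMod 3) (T : Fin m → ι → ZMod 3), IsFrame Q N T → (∀ i, N i ≠ 0) →
      (∀ i, T i ∈ K) → Module.finrank (ZMod 3) K = m →
      ∀ {k' l n s' : ℕ},
      (Finset.univ.filter fun c => qd (Fin.cons 1 (Fin.cons 1 (Fin.cons 2 N))) c = 1 ∧ Lead c ∧ True).card = k' →
      (Finset.univ.filter fun c => qd (Fin.cons 1 (Fin.cons 1 (Fin.cons 2 N))) c = 1 ∧ Lead c ∧ c 0 = 0).card = l →
      (Finset.univ.filter fun c => qd (Fin.cons 1 (Fin.cons 1 (Fin.cons 2 N))) c = 1 ∧ Lead c ∧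
        (bd (Fin.cons 1 (Fin.cons 1 (Fin.cons 2 N))) smallR c = 0 ∧
          (c 0 = 0 ∨ ∀ j : Fin m, c j.succ.succ.succ = 0))).card = n →
      n < l → n ≤ k' → s' * s' < (l - n) ^ 2 + 4 * (k' - n) →
      (l - n) ^ 2 + 4 * (k' - n) < (s' + 1) * (s' + 1) → False := by
    intro m N T hT hN hTK hm k' l n s' e1 e2 e3 i1 i2 i3 i4
    set N' : Fin (m + 3) → ZMod 3 := Fin.cons 1 (Fin.cons 1 (Fin.cons 2 N))
    set v : Fin (m + 3) → ι → ZMod 3 := Fin.cons x (Fin.cons (r + s) (Fin.cons (r - s) T)) with hvdef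
    have hxs : B x s = 0 := mem_perp.1 hs
    have hv : IsFrame Q N' v := by
      intro i j
      refine Fin.cases ?_ (Fin.cases ?_ (Fin.cases ?_ fun i' => ?_)) i <;>
        refine Fin.cases ?_ (Fin.cases ?_ (Fin.cases ?_ fun j' => ?_)) j
      all_goals simp only [v, N', Fin.cons_succ, Fin.cons_zero, Fin.succ_inj, Fin.succ_ne_zero,
        (Fin.succ_ne_zero _).symm, if_true, if_false, b_add_left, b_add_right, b_sub_left, b_sub_right, b_self x,
        b_self r, b_self s, qx, hrq, hsq, hre, hxs, hrs, b_comm r x, b_comm s x, b_comm s r,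
        b_comm (T _) x, b_comm (T _) r, b_comm (T _) s, (hKb _ (hTK _)).1, (hKb _ (hTK _)).2.1,
        (hKb _ (hTK _)).2.2, hT _ _]
      all_goals decide +kernel
    have hN' : ∀ i, N' i ≠ 0 := Fin.cases one_ne_zero (Fin.cases one_ne_zero (Fin.cases f3_two hN))
    have hm' : Fintype.card ι = m + 3 := by omega
    have hv0 : v 0 = x := rfl
    have h1 : Q (v 0) = 1 := by rw [hv0]; exact qx
    have hrc : (2 : ZMod 3) • comb v smallR = r := by
      rw [comb_apply, Fin.sum_univ_succ, Fin.sum_univ_succ, Fin.sum_univ_succ]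
      simp only [v, Fin.cons_succ, Fin.cons_zero, smallR, Fin.val_succ, Fin.val_zero]
      rw [Finset.sum_eq_zero fun i _ => by rw [if_neg (by omega), zero_smul]]
      norm_num
      match_scalars <;> decide +kernel
    refine except_false hB hn X C hd ha hda hv hN' hm' 0 h1 _ (fun c hq => ?_) e1 e2 e3 i1 i2 i3 i4
    have hc0 : B x (comb v c) = 0 ↔ c 0 = 0 := by
      rw [← hv0, hv.coef, mul_eq_zero, or_iff_right (mul_ne_zero f3_two (hN' 0))]
    have hrb : B r (mkR (comb v c) hq).1.rep = 0 ↔ bd N' smallR c = 0 := by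
      rw [b_mk_right, ← hrc, b_smul_left, hv.b_comb, mul_eq_zero, or_iff_right f3_two]
    have htail : (∀ j : Fin m, c j.succ.succ.succ = 0) ↔ ∀ z ∈ K, B z (comb v c) = 0 := by
      constructor
      · intro hj z hz
        rw [b_comb_right, Fin.sum_univ_succ, Fin.sum_univ_succ, Fin.sum_univ_succ]
        simp only [v, Fin.cons_succ, Fin.cons_zero, b_comm z x, b_add_right, b_sub_right, b_comm z r, b_comm z s,
          (hKb z hz).1, (hKb z hz).2.1, (hKb z hz).2.2, hj]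
        simp
      · intro hz j
        have h := hz _ (hTK j)
        rw [show T j = v j.succ.succ.succ by simp [v], hv.coef, mul_eq_zero] at h
        exact h.resolve_left (mul_ne_zero f3_two (hN' _))
    constructor
    · intro hS
      refine ⟨hrb.1 (sub _ hS), or_iff_not_imp_left.2 fun hc => htail.2 fun z hz => ?_⟩
      by_cases he' : mkR (comb v c) hq = e
      · have h2 : B z (mkR (comb v c) hq).1.rep = 0 := by rw [he', b_comm]; exact (hKb z hz).1
        exact b_mk_right.1 h2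
      have hadj : Adj rop e (mkR (comb v c) hq) := fun h =>
        hc (hc0.1 (b_mk_right.1 ((nbR_iff' e _).1 ⟨he', h⟩)))
      obtain ⟨k₁, hk₁, hk₁q, t, h, hform⟩ := form _ (sub _ hS) hadj
      have hk₁0 : k₁ = 0 := by_contra fun h0 => hsome k₁ hk₁ hk₁q h0 t h (hform ▸ hS)
      have hb : B z (mkR (comb v c) hq).1.rep = 0 := by
        rw [hform, b_mk_right, hk₁0, zero_add, b_add_right, b_smul_right, b_comm z x, (hKb z hz).1, b_comm z r,
          (hKb z hz).2.1]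
        ring
      exact b_mk_right.1 hb
    · rintro ⟨hbd, hc | hc⟩
      · exact (hsec _ (mkR_nb hq (hc0.2 hc))).2 (hrb.2 hbd)
      · exact grow _ (hgS g₀ hg₀ qg₀) _
          (by rw [b_mk_left, b_mk_right]; exact htail.1 hc g₀ hg₀) (hrb.2 hbd)
  have qh : Q (k + w) = 1 ∧ Q (k - w) = 2 ∧ B (k + w) (k - w) = 0 := by
    refine ⟨by rw [q_add, hkq, hwq, hkw]; ring, ?_, ?_⟩
    · rw [q_sub, hkq, hwq, hkw]; decide +kernel
    · rw [b_add_left, b_sub_right, b_sub_right, b_self_zero hkq, b_self_zero hwq, b_comm w k, hkw]; ring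
  rcases Nat.le_one_iff_eq_zero_or_eq_one.1 hL1 with hL0 | hL1'
  · have hT : IsFrame Q ![(1 : ZMod 3), 2] ![k + w, k - w] := by
      intro i j
      fin_cases i <;> fin_cases j <;> simp [b_self, qh.1, qh.2.1, qh.2.2, b_comm (k - w) (k + w)]
    refine small _ _ hT (by decide) (fun i => by fin_cases i; exacts [K.add_mem hk hw, K.sub_mem hk hw]) (by omega)
      (s' := 13) small_five.1 small_five.2.1 small_five.2.2 ?_ ?_ ?_ ?_ <;> norm_num
  · obtain ⟨l, hl, nl⟩ := exists_aniso_in hL (by omega)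
    have ql : Q l = 2 := (f3_cases nl).resolve_left (hLone l hl)
    obtain ⟨hlK, hkl, hwl⟩ := (hLm l).1 hl
    have hT : IsFrame Q ![(1 : ZMod 3), 1, 1] ![k + w, k - w + l, k - w - l] := by
      intro i j
      fin_cases i <;> fin_cases j <;>
        simp [b_add_left, b_add_right, b_sub_left, b_sub_right, b_self, q_add, q_sub, hkq, hwq, ql, hkw,
          b_comm w k, b_comm l k, b_comm l w, hkl, hwl, QuadraticMap.map_neg] <;> decide +kernel
    have hKkw := K.sub_mem hk hw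
    refine small _ _ hT (by decide)
      (fun i => by fin_cases i; exacts [K.add_mem hk hw, K.add_mem hKkw hlK, K.sub_mem hKkw hlK]) (by omega)
      (s' := 31) small_six.1 small_six.2.1 small_six.2.2 ?_ ?_ ?_ ?_ <;> norm_num

end CfsgLib.FischerClass
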