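import Cfsg.Agent.Lib.FischerClass.OrthThreeLin

/-!
The coordinate space of reflections of norm one: fibres, generation, extension of partial automorphisms,
and the sections at common neighbours.
-/

set_option autoImplicit false
set_option linter.unusedSectionVars false

namespace CfsgLib.FischerClass

open Cfsg CfsgLib.Orth

variable {ι : Type} [Fintype ι] [DecidableEq ι] {Q : QuadraticForm (ZMod 3) (ι → ZMod 3)}

local notation "B" => QuadraticMap.polar (DFunLike.coe Q)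

theorem q_line {a x : ι → ZMod 3} (ha : Q a = 1) (hx : B a x = 0) (hxq : Q x = 0) : Q (a + x) = 1 := by
  rw [q_add, ha, hx, hxq]; ring

/-- The form of a point adjacent to a given one. -/
theorem adj_form {A q : RP Q} (h : Adj rop A q) : ∃ x, x ∈ perpS Q {A.1.rep} ∧ Q x = 0 ∧ x ≠ 0 ∧
    ∃ h1, q = mkR (A.1.rep + x) h1 := by
  rw [adjR_iff] at h
  obtain ⟨hne, hc⟩ := h
  set c := B A.1.rep q.1.rep with hcdef
  set x := (2 * c) • q.1.rep - A.1.rep
  have hx : B A.1.rep x = 0 := by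
    rw [b_sub_right, b_smul_right, b_self, A.2]; linear_combination 2 * f3_sq hc
  have hxq : Q x = 0 := by
    rw [q_sub, q_smul, A.2, b_smul_left, b_comm _ A.1.rep, q.2, ← hcdef]
    linear_combination 2 * f3_sq hc + Fischer.three_eq_zero
  refine ⟨x, mem_perp.2 hx, hxq, fun e => hne ?_, q_line A.2 hx hxq, ?_⟩
  · refine rp_eq (c := 2 * c) ?_
    rw [← sub_eq_zero.1 e, smul_smul, f3_inv hc, one_smul]
  · refine (mkR_self q).symm.trans (mkR_eq_iff.2 ⟨2 * c, ?_⟩)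
    rw [add_sub_cancel, smul_smul, f3_inv hc, one_smul]

theorem line_adj {A : RP Q} {x : ι → ZMod 3} (hx : B A.1.rep x = 0) (hx0 : x ≠ 0)
    (h1 : Q (A.1.rep + x) = 1) : Adj rop A (mkR (A.1.rep + x) h1) := by
  obtain ⟨k, hk, ek⟩ := mkR_rep _ h1
  refine (adjR_iff _ _).2 ⟨fun e => ?_, ?_⟩
  · obtain ⟨c, hc⟩ := mkR_eq_iff.1 (e.trans (mkR_self A).symm)
    have h2 : x = (c - 1) • A.1.rep := by rw [sub_smul, hc, one_smul]; abel
    rw [h2, b_smul_right, b_self, A.2, mul_eq_zero, or_iff_left (by simp [f3_two])] at hx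
    rw [h2, hx, zero_smul] at hx0
    exact hx0 rfl
  · rw [ek, b_smul_right, b_add_right, b_self, A.2, hx, add_zero, mul_one]
    exact mul_ne_zero hk f3_two

theorem fix_iff {A r : RP Q} {x : ι → ZMod 3} (hr : r ∈ Nb rop A) (hx : B A.1.rep x = 0)
    (h1 : Q (A.1.rep + x) = 1) :
    rop (mkR (A.1.rep + x) h1) r = r ↔ B x r.1.rep = 0 := by
  have hAr := (nbR_iff' A r).1 hr
  obtain ⟨k, hk, ek⟩ := mkR_rep _ h1
  rw [rop_eq_iff, or_iff_right, ek, b_smul_left, b_add_left, hAr, zero_add, mul_eq_zero, or_iff_right hk]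
  intro e
  rw [e, ek, b_smul_right, b_add_right, b_self, A.2, hx, add_zero, mul_one] at hAr
  exact mul_ne_zero hk f3_two hAr

/-- Singular vectors orthogonal to the same points of the perp are equal up to sign. -/
theorem perp_line (hB : Nondeg Q) (hn : 5 ≤ Fintype.card ι) {A : RP Q} {x y : ι → ZMod 3}
    (hx : x ∈ perpS Q {A.1.rep}) (hy : y ∈ perpS Q {A.1.rep}) (hx0 : x ≠ 0) (hxq : Q x = 0) (hyq : Q y = 0)
    (h : ∀ r ∈ Nb rop A, B x r.1.rep = 0 → B y r.1.rep = 0) : y ∈ Submodule.span (ZMod 3) {x} := by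
  have hA : Q A.1.rep ≠ 0 := by rw [A.2]; exact one_ne_zero
  refine perp_points hB (perp_nondeg hB hA) hx hy hx0 hxq hyq
    (fun hne => plane_point hB (perp_nondeg hB hA) (by have := perp_finrank hB hA; omega) hx hy hxq hyq hne)
    fun u hu qu hxu => ?_
  obtain ⟨c, hc, ec⟩ := mkR_rep u qu
  have := h _ (mkR_nb qu (mem_perp.1 hu)) (by rw [ec, b_smul_right, hxu, mul_zero])
  rw [ec, b_smul_right, mul_eq_zero] at this
  exact this.resolve_left hc

theorem rop_fib (hB : Nondeg Q) (hn : 5 ≤ Fintype.card ι) (A P P' : RP Q) (h1 : Adj rop A P)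
    (h2 : Adj rop A P') (h : ∀ r ∈ Nb rop A, (rop P r = r ↔ rop P' r = r)) : P' = P ∨ P' = rop A P := by
  obtain ⟨x, hx, hxq, hx0, qx, rfl⟩ := adj_form h1
  obtain ⟨y, hy, hyq, hy0, qy, rfl⟩ := adj_form h2
  obtain ⟨c, hc⟩ := Submodule.mem_span_singleton.1 (perp_line hB hn hx hy hx0 hxq hyq fun r hr hxr =>
    (fix_iff hr (mem_perp.1 hy) qy).1 ((h r hr).1 ((fix_iff hr (mem_perp.1 hx) qx).2 hxr)))
  have hc0 : c ≠ 0 := fun e => hy0 (by rw [← hc, e, zero_smul])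
  rcases f3_cases hc0 with rfl | rfl
  · exact Or.inl (mkR_eq_iff.2 ⟨1, by rw [one_smul, ← hc, one_smul]⟩)
  · refine Or.inr ?_
    conv_rhs => rw [show rop A (mkR _ qx) = rop (mkR A.1.rep A.2) (mkR _ qx) by rw [mkR_self]]
    rw [rop_mk, mkR_eq_iff]
    refine ⟨2, ?_⟩
    rw [b_add_right, b_self, A.2, mem_perp.1 hx, add_zero, mul_one, ← hc]
    match_scalars <;> decide +kernel

theorem rop_gen (hB : Nondeg Q) (A P : RP Q) (hAP : Adj rop A P)
    (T : Set (RP Q)) (hT : ∀ u ∈ T, ∀ v ∈ T, rop u v ∈ T) (hN : Nb rop A ⊆ T) (hA : A ∈ T) (hP : P ∈ T) :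
    T = Set.univ := by
  obtain ⟨x, hx, hxq, hx0, qx, rfl⟩ := adj_form hAP
  have hA0 : Q A.1.rep ≠ 0 := by rw [A.2]; exact one_ne_zero
  refine Set.eq_univ_of_forall fun q => ?_
  by_cases hq : Adj rop A q
  swap
  · by_cases hqA : q = A
    · exact hqA ▸ hA
    · exact hN ⟨hqA, of_not_not hq⟩
  obtain ⟨y, hy, hyq, hy0, qy, rfl⟩ := adj_form hq
  refine sing_orbit hB (perp_nondeg hB hA0) (fun z => ∀ h, mkR (A.1.rep + z) h ∈ T) ?_ ?_ hx hy hxq hyq hx0 hy0
    (fun h => hP) qy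
  · intro z hz hzq _ hp h
    have h' := q_line A.2 (mem_perp.1 hz) hzq
    rw [show mkR _ h = rop (mkR A.1.rep A.2) (mkR _ h') by
      rw [rop_mk, mkR_eq_iff]
      refine ⟨2, ?_⟩
      rw [b_add_right, b_self, A.2, mem_perp.1 hz, add_zero, mul_one]
      match_scalars <;> decide +kernel, mkR_self]
    exact hT _ hA _ (hp h')
  · intro z hz hzq _ u hu qu hp h
    have h' := q_line A.2 (mem_perp.1 hz) hzq
    rw [show mkR _ h = rop (mkR u qu) (mkR _ h') by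
      rw [rop_mk, mkR_eq_iff]
      refine ⟨1, ?_⟩
      rw [one_smul, b_add_right, b_comm u A.1.rep, mem_perp.1 hu, zero_add]
      abel]
    exact hT _ (hN (mkR_nb qu (mem_perp.1 hu))) _ (hp h')

theorem rop_space (hB : Nondeg Q) (hn : 5 ≤ Fintype.card ι) : Space (rop (Q := Q)) :=
  ⟨rop_dense hB hn, rop_gen hB, rop_fib hB hn⟩

/-- The point map of an isometry. -/
noncomputable def rmap (h : (ι → ZMod 3) →ₗ[ZMod 3] ι → ZMod 3) (hh : ∀ x, Q (h x) = Q x) (p : RP Q) : RP Q :=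
  mkR (h p.1.rep) ((hh _).trans p.2)

theorem isometry_b_top {h : (ι → ZMod 3) →ₗ[ZMod 3] ι → ZMod 3} (hh : ∀ x, Q (h x) = Q x) (x y : ι → ZMod 3) :
    B (h x) (h y) = B x y :=
  isometry_b (W := ⊤) (fun z _ => hh z) trivial trivial

theorem rmap_mk {h : (ι → ZMod 3) →ₗ[ZMod 3] ι → ZMod 3} (hh : ∀ x, Q (h x) = Q x) {v : ι → ZMod 3}
    (hv : Q v = 1) : rmap h hh (mkR v hv) = mkR (h v) ((hh v).trans hv) := by
  obtain ⟨c, -, hc⟩ := mkR_rep v hv
  exact mkR_eq_iff.2 ⟨c, by rw [hc, map_smul]⟩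

theorem rmap_op {h : (ι → ZMod 3) →ₗ[ZMod 3] ι → ZMod 3} (hh : ∀ x, Q (h x) = Q x) (p q : RP Q) :
    rmap h hh (rop p q) = rop (rmap h hh p) (rmap h hh q) := by
  conv_lhs => rw [← mkR_self p, ← mkR_self q, rop_mk, rmap_mk]
  rw [rmap, rmap, rop_mk, mkR_eq_iff]
  exact ⟨1, by rw [one_smul, isometry_b_top hh, map_sub, map_smul]⟩

theorem rmap_inj (hB : Nondeg Q) {h : (ι → ZMod 3) →ₗ[ZMod 3] ι → ZMod 3} (hh : ∀ x, Q (h x) = Q x) :
    Function.Injective (rmap h hh) := fun p q e => by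
  obtain ⟨c, hc⟩ := mkR_eq_iff.1 e
  refine rp_eq (c := c) (sub_eq_zero.1 (hB _ fun y => ?_))
  rw [← isometry_b_top hh, map_sub, map_smul, hc, sub_self, b_zero_left]

theorem rop_extends (hB : Nondeg Q) (hn : 5 ≤ Fintype.card ι) : Extends (rop (Q := Q)) := by
  intro A P A' P' hAP hAP' α hα hop hsec
  obtain ⟨x, hx, hxq, hx0, qx, rfl⟩ := adj_form hAP
  obtain ⟨x', hx', hxq', hx0', qx', rfl⟩ := adj_form hAP'
  set a := A.1.rep
  set a' := A'.1.rep
  have na : Q a ≠ 0 := by rw [A.2]; exact one_ne_zero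
  have na' : Q a' ≠ 0 := by rw [A'.2]; exact one_ne_zero
  have f1 := perp_finrank hB na
  have f2 := perp_finrank hB na'
  obtain ⟨h, hh, hφ⟩ := lin_aut hB _ (by omega) (φ := α) (perp_nondeg hB na) (perp_nondeg hB na') rfl (by omega)
    ⟨by rw [← nb_eq_pts, ← nb_eq_pts]; exact hα, fun p hp q hq =>
      hop p (by rw [nb_eq_pts]; exact hp) q (by rw [nb_eq_pts]; exact hq)⟩
  have hhx := hh x hx
  have hb : ∀ {u v}, u ∈ perpS Q {a} → v ∈ perpS Q {a} → B (h u) (h v) = B u v := fun hu hv =>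
    isometry_b (fun z hz => (hh z hz).2) hu hv
  have hx1 : h x ≠ 0 := fun e => hx0 (perp_nondeg hB na x hx fun y hy => by rw [← hb hx hy, e, b_zero_left])
  obtain ⟨l, hl⟩ := Submodule.mem_span_singleton.1 (perp_line hB hn hhx.1 hx' hx1 (hhx.2.trans hxq) hxq'
    fun r hr hr' => by
      obtain ⟨s, hs, rfl⟩ := hα.surjOn hr
      have hs' : s ∈ ptsIn Q (perpS Q {a}) := by rw [← nb_eq_pts]; exact hs
      have hq : Q (h s.1.rep) = 1 := (hh _ hs').2.trans s.2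
      obtain ⟨k, hk, ek⟩ := mkR_rep _ hq
      rw [hφ s hs' hq, ek, b_smul_right, mul_eq_zero, or_iff_right hk, hb hx hs'] at hr'
      exact (fix_iff (hα.mapsTo hs) (mem_perp.1 hx') qx').1
        ((hsec s hs).1 ((fix_iff hs (mem_perp.1 hx) qx).2 hr')))
  have hl0 : l ≠ 0 := fun e => hx0' (by rw [← hl, e, zero_smul])
  let pr : (ι → ZMod 3) →ₗ[ZMod 3] ι → ZMod 3 :=
    LinearMap.id - ((2 : ZMod 3) • (QuadraticMap.polarBilin Q a)).smulRight a
  let H : (ι → ZMod 3) →ₗ[ZMod 3] ι → ZMod 3 :=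
    h ∘ₗ pr + ((2 : ZMod 3) • (QuadraticMap.polarBilin Q a)).smulRight (l • a')
  have hH : ∀ v, H v = h (v - (2 * B a v) • a) + (2 * B a v) • l • a' := fun v => rfl
  have hpr : ∀ v, v - (2 * B a v) • a ∈ perpS Q {a} := fun v => by
    refine mem_perp.2 ?_
    rw [b_sub_right, b_smul_right, b_self, A.2]
    linear_combination -B a v * Fischer.three_eq_zero
  have hHq : ∀ v, Q (H v) = Q v := fun v => by
    rw [hH, q_add, (hh _ (hpr v)).2, q_smul, q_smul, b_smul_right, b_smul_right, b_comm _ a',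
      mem_perp.1 (hh _ (hpr v)).1, q_sub, q_smul, b_smul_right, A.2, A'.2, b_comm v a]
    linear_combination (4 * B a v * B a v) * f3_sq hl0 + 2 * (B a v * B a v) * Fischer.three_eq_zero
  have hHperp : ∀ v, B a v = 0 → H v = h v := fun v hv => by
    rw [hH, hv, mul_zero, zero_smul, zero_smul, sub_zero, add_zero]
  have hHa : H a = l • a' := by
    rw [hH, b_self, A.2, show (2 : ZMod 3) * (2 * 1) = 1 by decide +kernel, one_smul, sub_self, map_zero,
      one_smul, zero_add]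
  haveI : Finite (RP Q) := inferInstance
  refine ⟨Equiv.ofBijective (rmap H hHq) ⟨rmap_inj hB hHq, Finite.surjective_of_injective (rmap_inj hB hHq)⟩,
    rmap_op hHq, ?_, ?_, ?_⟩
  · show mkR (H a) ((hHq a).trans A.2) = A'
    conv_rhs => rw [← mkR_self A']
    exact mkR_eq_iff.2 ⟨l, hHa.symm⟩
  · show rmap H hHq (mkR _ qx) = _
    rw [rmap_mk, mkR_eq_iff]
    refine ⟨l, ?_⟩
    rw [map_add, hHa, hHperp x (mem_perp.1 hx), smul_add, ← hl, smul_smul, f3_sq hl0, one_smul]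
  · intro r hr
    have hr' : r ∈ ptsIn Q (perpS Q {a}) := by rw [← nb_eq_pts]; exact hr
    have hq : Q (h r.1.rep) = 1 := (hh _ hr').2.trans r.2
    rw [hφ r hr' hq]
    show mkR (H r.1.rep) ((hHq _).trans r.2) = _
    exact mkR_eq_iff.2 ⟨1, by rw [one_smul, hHperp _ ((nbR_iff' A r).1 hr)]⟩

variable {G : Type*} [Group G] [Finite G] {D : Set G} {f : RP Q → G} {d a : G}

/-- The common neighbours next to one of them are cut out by a singular vector. -/
theorem orth_three_section (hB : Nondeg Q) (hn : 5 ≤ Fintype.card ι) (X : Ctx D) (C : Co D d rop f) (hd : d ∈ D)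
    (ha : a ∈ D) (hda : ¬ Commute d a) {e : RP Q} (he : e ∈ Sc f a) :
    ∃ r, r ≠ 0 ∧ Q r = 0 ∧ B e.1.rep r = 0 ∧ ∀ q ∈ Nb rop e, (q ∈ Sc f a ↔ B r q.1.rep = 0) := by
  obtain ⟨V⟩ := exists_view X.base C hd ha hda he
  obtain ⟨x, hx, hxq, hx0, qx, hVB⟩ := adj_form (q := V.B) (A := V.A) V.noncomm
  have nA : Q V.A.1.rep ≠ 0 := by rw [V.A.2]; exact one_ne_zero
  have ne' : Q e.1.rep ≠ 0 := by rw [e.2]; exact one_ne_zero
  have f1 := perp_finrank hB nA
  have f2 := perp_finrank hB ne'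
  obtain ⟨h, hh, hφ⟩ := lin_aut hB _ (by omega) (φ := V.τ) (perp_nondeg hB nA) (perp_nondeg hB ne') rfl (by omega)
    ⟨by rw [← nb_eq_pts, ← nb_eq_pts]; exact V.bij, fun p hp q hq =>
      (V.τ_op X.hS C (r := p) (s := q) (by rw [nb_eq_pts]; exact hp) (by rw [nb_eq_pts]; exact hq)).2⟩
  have hb : ∀ {u v}, u ∈ perpS Q {V.A.1.rep} → v ∈ perpS Q {V.A.1.rep} → B (h u) (h v) = B u v :=
    fun hu hv => isometry_b (fun z hz => (hh z hz).2) hu hv
  refine ⟨h x, fun e' => hx0 (perp_nondeg hB nA x hx fun y hy => by rw [← hb hx hy, e', b_zero_left]),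
    (hh x hx).2.trans hxq, mem_perp.1 (hh x hx).1, fun q hq => ?_⟩
  obtain ⟨s, hs, rfl⟩ := V.bij.surjOn hq
  have hs' : s ∈ ptsIn Q (perpS Q {V.A.1.rep}) := by rw [← nb_eq_pts]; exact hs
  have hq' : Q (h s.1.rep) = 1 := (hh _ hs').2.trans s.2
  obtain ⟨k, hk, ek⟩ := mkR_rep _ hq'
  rw [V.mem_iff X.hS hs, hVB, fix_iff hs (mem_perp.1 hx) qx, hφ s hs' hq', ek, b_smul_right, mul_eq_zero,
    or_iff_right hk, hb hx hs']

end CfsgLib.FischerClass
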