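import Cfsg.Agent.Lib.FischerClass.SimpleDerived
import Cfsg.Agent.Lib.Classical.OrthIndexTwo
import Cfsg.Agent.Lib.Classical.OddSimilar
import Cfsg.Agent.Lib.FischerTypes.OmegaCongr
import Cfsg.Agent.S5373
import Cfsg.Agent.S5374
import Cfsg.Agent.S5375
import Cfsg.Agent.S5401

/-!
The simple groups generated by a class of 3-transpositions.
-/

set_option autoImplicit false
set_option linter.style.haveILetI false
set_option linter.unusedSectionVars false

namespace CfsgLib.FischerClass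

open Cfsg
open CfsgLib.HePres (K4)
open CfsgLib.ThreeTransp CfsgLib.ThreeTransp.Relations
open scoped commutatorElement

universe u

/-- A simple nonabelian group has only trivial maps to abelian groups. -/
theorem hom_comm_trivial {G : Type*} [Group G] [IsSimpleGroup G] (hna : ∃ x y : G, x * y ≠ y * x)
    {A : Type*} [CommGroup A] (φ : G →* A) (g : G) : φ g = 1 := by
  refine MonoidHom.mem_ker.1 ?_
  have h : φ.ker = ⊤ := (Subgroup.Normal.eq_bot_or_eq_top (inferInstance : φ.ker.Normal)).resolve_left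
    fun h => by
      obtain ⟨x, y, hxy⟩ := hna
      refine hxy ((MonoidHom.ker_eq_bot_iff φ).1 h ?_)
      rw [map_mul, map_mul, mul_comm]
  exact h ▸ Subgroup.mem_top g

variable {G : Type u} [Group G] [Finite G] [IsSimpleGroup G] {D : Set G}
variable (hna : ∃ x y : G, x * y ≠ y * x)
include hna

theorem not_iso_perm {n : ℕ} (hn : 2 ≤ n) (e : G ≃* Equiv.Perm (Fin n)) : False := by
  have h := hom_comm_trivial hna (Equiv.Perm.sign.comp e.toMonoidHom)
    (e.symm (Equiv.swap ⟨0, by omega⟩ ⟨1, by omega⟩))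
  simp [Equiv.Perm.sign_swap'] at h

theorem not_iso_isometry {ι : Type} [Fintype ι] [DecidableEq ι] {Q : QuadraticForm (ZMod 2) (ι → ZMod 2)}
    (hB : Orth.Nondeg Q) (hn : 1 ≤ Module.finrank (ZMod 2) (ι → ZMod 2))
    (e : G ≃* ↥(Cfsg.isometryGroup (ZMod 2) ⇑Q)) : False := by
  obtain ⟨v, hv⟩ := Orth.exists_aniso hB (by omega)
  obtain ⟨r, hr⟩ := Orth.exists_refl hB hv
  have h := hom_comm_trivial hna ((Orth.dickson hB).comp e.toMonoidHom) (e.symm r)
  simp [Orth.dickson_refl hB hr] at h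

omit hna in
theorem pq_congr {ι : Type} [Fintype ι] [DecidableEq ι] {F : Type*} [Field F] {q r : (ι → F) → F}
    (h : isometryGroup F q = isometryGroup F r) : Nonempty (POmega F q ≃* POmega F r) := by
  have key : ∀ S T : Subgroup (GL ι F), S = T →
      Nonempty ((↥(commutator ↥S) ⧸ Subgroup.center ↥(commutator ↥S)) ≃*
        (↥(commutator ↥T) ⧸ Subgroup.center ↥(commutator ↥T))) := by
    rintro S T rfl
    exact ⟨MulEquiv.refl _⟩
  exact key _ _ h

omit hna in
theorem pomega_odd {m n : ℕ} (hn : n = 2 * m + 1) {Q : QuadraticForm (ZMod 3) (Fin n → ZMod 3)}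
    (hB : Orth.Nondeg Q) : Nonempty (POmega (ZMod 3) ⇑Q ≃* POmega (ZMod 3) (quadFormOdd m (ZMod 3))) := by
  have h2 : (2 : ZMod 3) ≠ 0 := by decide
  obtain ⟨Qo, hQo, hBo⟩ := Orth.exists_quadForm_odd (F := ZMod 3) h2 m
  have hc : Fintype.card (Unit ⊕ (Fin m ⊕ Fin m)) = n := by
    simp only [Fintype.card_sum, Fintype.card_unit, Fintype.card_fin]; omega
  let ε : (Unit ⊕ (Fin m ⊕ Fin m)) ≃ Fin n := Fintype.equivFinOfCardEq hc
  let L : (Fin n → ZMod 3) ≃ₗ[ZMod 3] (Unit ⊕ (Fin m ⊕ Fin m) → ZMod 3) :=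
    LinearEquiv.funCongrLeft (ZMod 3) (ZMod 3) ε
  let Q₂ : QuadraticForm (ZMod 3) (Fin n → ZMod 3) := Qo.comp L.toLinearMap
  have hb : ∀ u v, QuadraticMap.polar (⇑Q₂) u v = QuadraticMap.polar (⇑Qo) (L u) (L v) := fun u v => by
    simp [QuadraticMap.polar, Q₂]
  have hB₂ : Orth.Nondeg Q₂ := fun v h => L.injective (by
    rw [map_zero]
    refine hBo _ fun y => ?_
    obtain ⟨w, rfl⟩ := L.surjective y
    rw [← hb]; exact h w)
  have hnd : ∀ {R : QuadraticForm (ZMod 3) (Fin n → ZMod 3)}, Orth.Nondeg R →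
      (QuadraticMap.polarBilin R).Nondegenerate :=
    fun hR => ⟨fun x hx => hR x hx, fun x hx => hR x fun y => by rw [QuadraticMap.polar_comm]; exact hx y⟩
  obtain ⟨g, c, hc0, hg⟩ := Classical.OddSimilar.exists_similar h2 (hn ▸ odd_two_mul_add_one m) Q Q₂
    (hnd hB) (hnd hB₂)
  let φ := g.trans L
  have h : isometryGroup (ZMod 3) ⇑Q = isometryGroup (ZMod 3) (fun v => c * Q v) := by
    ext x
    constructor
    · intro hx u v
      show c * Q _ = c * Q u
      rw [show Q _ = Q u from hx u v]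
    · intro hx u v
      exact mul_left_cancel₀ hc0 (hx u v)
  obtain ⟨e₁⟩ := pq_congr h
  obtain ⟨e₂⟩ := FischerTypes.pomega_congr (q := fun v => c * Q v) (r := quadFormOdd m (ZMod 3))
    (LinearMap.toMatrix' φ.toLinearMap) (LinearMap.toMatrix' φ.symm.toLinearMap)
    (by rw [← LinearMap.toMatrix'_comp]; simp) (by rw [← LinearMap.toMatrix'_comp]; simp)
    (fun v => by
      rw [← Matrix.toLin'_apply, Matrix.toLin'_toMatrix', ← hQo]
      exact hg v)
  exact ⟨e₁.trans e₂⟩

theorem reflection_case {n : ℕ} (hn : 5 ≤ n) {Q : QuadraticForm (ZMod 3) (Fin n → ZMod 3)}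
    (hB : Orth.Nondeg Q) (e : G ≃* HG Q) :
    ∃ m : ℕ, Nonempty (G ≃* POmega (ZMod 3) (quadFormOdd m (ZMod 3))) := by
  have hn' : 5 ≤ Module.finrank (ZMod 3) (Fin n → ZMod 3) := by rwa [Module.finrank_fin_fun]
  set Z := Subgroup.center ↥(KG Q)
  let π : ↥(KG Q) →* G := e.symm.toMonoidHom.comp (QuotientGroup.mk' Z)
  have hπ : Function.Surjective π := e.symm.surjective.comp (QuotientGroup.mk'_surjective Z)
  have hker : ∀ x, π x = 1 ↔ x ∈ Z := fun x => by
    show e.symm (QuotientGroup.mk' Z x) = 1 ↔ _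
    rw [MulEquiv.map_eq_one_iff]
    exact QuotientGroup.eq_one_iff x
  haveI : (commutator G).Normal := inferInstance
  have hperf : commutator G = ⊤ := (Subgroup.Normal.eq_bot_or_eq_top
    (inferInstance : (commutator G).Normal)).resolve_left fun h => by
      obtain ⟨x, y, hxy⟩ := hna
      have hm : ⁅x, y⁆ ∈ commutator G := Subgroup.commutator_mem_commutator (Subgroup.mem_top x) (Subgroup.mem_top y)
      rw [h, Subgroup.mem_bot, commutatorElement_eq_one_iff_mul_comm] at hm
      exact hxy hm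
  have hsurj : ∀ x : ↥(KG Q), ∃ h ∈ commutator ↥(KG Q), h⁻¹ * x ∈ Z := by
    intro x
    have hx : π x ∈ commutator G := hperf ▸ Subgroup.mem_top _
    rw [commutator_def, ← Subgroup.map_top_of_surjective π hπ, ← Subgroup.map_commutator] at hx
    obtain ⟨h, hh, e'⟩ := hx
    exact ⟨h, hh, (hker _).1 (by rw [map_mul, map_inv, e', inv_mul_cancel])⟩
  rcases Nat.even_or_odd' n with ⟨m, rfl | rfl⟩
  · exfalso
    obtain ⟨v, hv⟩ := Orth.exists_aniso hB (by omega)
    -- a norm one vector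
    obtain ⟨r, hr⟩ : ∃ r : ↥(KG Q), Orth.detHom Q (r : Orth.Grp Q) = -1 := by
      obtain ⟨T, M⟩ := exists_model hB (by rw [Fintype.card_fin]; exact hn)
      obtain ⟨a, ha, -⟩ := M.base.cls.2.1
      obtain ⟨r, hr, -⟩ := ha
      obtain ⟨w, hw, hrefl⟩ := (Fischer.norm_one_iff one_ne_zero _).1 hr
      exact ⟨r, Orth.detHom_refl hrefl⟩
    obtain ⟨h, hh, hz⟩ := hsurj r
    have hh1 : Orth.detHom Q (h : Orth.Grp Q) = 1 :=
      Abelianization.commutator_subset_ker ((Orth.detHom Q).comp (KG Q).subtype) hh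
    have hz' : ((h⁻¹ * r : ↥(KG Q)) : Orth.Grp Q) = 1 ∨
        ((((h⁻¹ * r : ↥(KG Q)) : Orth.Grp Q) : GL (Fin (2 * m)) (ZMod 3)) :
          Matrix (Fin (2 * m)) (Fin (2 * m)) (ZMod 3)) = -1 := by
      refine Orth.commute_El_scalar hB hn' fun a ha => ?_
      rw [← Orth.omega_eq_El hB hn', ← Fischer.map_commutator_reflectionSubgroup hB hn' one_ne_zero] at ha
      obtain ⟨y, -, rfl⟩ := ha
      exact congrArg Subtype.val (Subgroup.mem_center_iff.1 hz y)
    have hd : Orth.detHom Q ((h⁻¹ * r : ↥(KG Q)) : Orth.Grp Q) = -1 := by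
      rw [Subgroup.coe_mul, Subgroup.coe_inv, map_mul, map_inv, hh1, hr, inv_one, one_mul]
    rcases hz' with h' | h'
    · rw [h', map_one] at hd
      exact absurd hd (by decide)
    · have hd' : ((((h⁻¹ * r : ↥(KG Q)) : Orth.Grp Q) : GL (Fin (2 * m)) (ZMod 3)) :
          Matrix (Fin (2 * m)) (Fin (2 * m)) (ZMod 3)).det = -1 := congrArg Units.val hd
      rw [h', Matrix.det_neg, Matrix.det_one, Fintype.card_fin, pow_mul, neg_one_sq, one_pow, mul_one] at hd'
      exact absurd hd' (by decide)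
  · refine ⟨m, ?_⟩
    set K' := commutator ↥(KG Q)
    let ψ : K' →* G := π.comp K'.subtype
    have hψ : Function.Surjective ψ := fun g => by
      obtain ⟨x, rfl⟩ := hπ g
      obtain ⟨h, hh, hz⟩ := hsurj x
      refine ⟨⟨h, hh⟩, ?_⟩
      show π h = π x
      have := (hker _).2 hz
      rwa [map_mul, map_inv, inv_mul_eq_one] at this
    have hkψ : ψ.ker = Subgroup.center K' := by
      ext x
      constructor
      · intro hx
        refine Subgroup.mem_center_iff.2 fun y => Subtype.ext ?_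
        exact Subgroup.mem_center_iff.1 ((hker (x : ↥(KG Q))).1 (MonoidHom.mem_ker.1 hx)) (y : ↥(KG Q))
      intro hx
      refine MonoidHom.mem_ker.2 ((hker (x : ↥(KG Q))).2 ?_)
      have hN : Group.IsSolvable ↥((Subgroup.center K').map K'.subtype) := by
        haveI : Group.IsSolvable (Subgroup.center K') :=
          isSolvable_of_comm fun a b => Subtype.ext (Subgroup.mem_center_iff.1 b.2 a)
        exact solvable_of_surjective (K'.subtype.subgroupMap_surjective _)
      haveI : ((Subgroup.center K').map K'.subtype).Normal := PSolvable.normal_map_of_characteristic K' _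
      exact Fischer.solvable_normal_le_center hB hn' one_ne_zero hN ⟨x, hx, rfl⟩
    let e₁ : G ≃* ↥K' ⧸ Subgroup.center ↥K' :=
      ((QuotientGroup.quotientMulEquivOfEq hkψ.symm).trans
        (QuotientGroup.quotientKerEquivOfSurjective ψ hψ)).symm
    let E : ↥K' ≃* ↥(Cfsg.Omega (ZMod 3) ⇑Q) :=
      (Subgroup.equivMapOfInjective _ _ (Subgroup.subtype_injective _)).trans
        (MulEquiv.subgroupCongr (Fischer.map_commutator_reflectionSubgroup hB hn' one_ne_zero))
    have hE : (Subgroup.center ↥K').map E.toMonoidHom = Subgroup.center ↥(Cfsg.Omega (ZMod 3) ⇑Q) := by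
      refine le_antisymm ?_ fun z hz => ⟨E.symm z, ?_, E.apply_symm_apply z⟩
      · rintro _ ⟨z, hz, rfl⟩
        exact Subgroup.mem_center_iff.2 fun y => by
          obtain ⟨y, rfl⟩ := E.surjective y
          exact (map_mul E y z).symm.trans ((congrArg E (Subgroup.mem_center_iff.1 hz y)).trans (map_mul E z y))
      · exact Subgroup.mem_center_iff.2 fun y => E.injective (by
          rw [map_mul, map_mul, E.apply_symm_apply]
          exact Subgroup.mem_center_iff.1 hz _)
    obtain ⟨e₃⟩ := pomega_odd (m := m) rfl hB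
    exact ⟨(e₁.trans (QuotientGroup.congr _ _ E hE)).trans e₃⟩

/-- The simple groups of the classification. -/
theorem simple_group_cases (F : MathieuCases.{u}) (hD : IsThreeTranspositionClass D) :
    (∃ n : ℕ, Nonempty (G ≃* Matrix.symplecticGroup (Fin n) (ZMod 2))) ∨
    (∃ (F : Type) (_ : Field F) (_ : Fintype F) (n : ℕ), Fintype.card F = 4 ∧ Nonempty (G ≃* Cfsg.PSU n F 2)) ∨
    (∃ m : ℕ, Nonempty (G ≃* Cfsg.POmega (ZMod 3) (Cfsg.quadFormOdd m (ZMod 3)))) ∨
    Cfsg.IsFi22 G ∨ Cfsg.IsFi23 G := by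
  have hperf : commutator G = ⊤ := (Subgroup.Normal.eq_bot_or_eq_top
    (inferInstance : (commutator G).Normal)).resolve_left fun h => by
      obtain ⟨x, y, hxy⟩ := hna
      have hm : ⁅x, y⁆ ∈ commutator G := Subgroup.commutator_mem_commutator (Subgroup.mem_top x) (Subgroup.mem_top y)
      rw [h, Subgroup.mem_bot, commutatorElement_eq_one_iff_mul_comm] at hm
      exact hxy hm
  have hZ : Subgroup.center G = ⊥ := (Subgroup.Normal.eq_bot_or_eq_top
    (inferInstance : (Subgroup.center G).Normal)).resolve_right fun h => by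
      obtain ⟨x, y, hxy⟩ := hna
      exact hxy (Subgroup.mem_center_iff.1 (h ▸ Subgroup.mem_top y) x)
  haveI : IsSimpleGroup (commutator G) := by
    rw [hperf]
    exact Subgroup.topEquiv.isSimpleGroup
  have hnonab : ∃ x y : commutator G, x * y ≠ y * x := by
    obtain ⟨x, y, hxy⟩ := hna
    exact ⟨⟨x, hperf ▸ Subgroup.mem_top x⟩, ⟨y, hperf ▸ Subgroup.mem_top y⟩, fun h => hxy (congrArg Subtype.val h)⟩
  have hG := class_isGroup hD
  have hprim := primitive_of_simple_derived hnonab hD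
  rcases simple_derived_cases F hD hZ hnonab with ⟨e, -⟩ | ⟨m, -, e, -⟩ | ⟨n, -, e, -⟩ |
    ⟨n, hn, e, -⟩ | (⟨m, hm, e, -⟩ | ⟨m, hm, e, -⟩) | ⟨n, hn, Q, hQ, e, -⟩ | h22 | h23 | h24
  · exact (not_iso_perm hna (by norm_num) e).elim
  · exact Or.inl ⟨m, ⟨e⟩⟩
  · exact Or.inr (Or.inl ⟨K4, inferInstance, inferInstance, n, K4.card_eq, ⟨e⟩⟩)
  · exact (not_iso_perm hna (by omega) e).elim
  · obtain ⟨Q, hQ, hB⟩ := Orth.exists_quadForm_plus (F := ZMod 2) m
    rw [← hQ] at e
    exact (not_iso_isometry hna hB (by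
      rw [Module.finrank_fintype_fun_eq_card, Fintype.card_sum, Fintype.card_fin]; omega) e).elim
  · obtain ⟨Q, hQ, hB⟩ := Orth.exists_quadForm_minus (F := ZMod 2) m (a := 1) (b := 1) (by decide)
    rw [← hQ] at e
    exact (not_iso_isometry hna hB (by
      rw [Module.finrank_fintype_fun_eq_card, Fintype.card_sum, Fintype.card_sum, Fintype.card_fin,
        Fintype.card_fin]
      omega) e).elim
  · exact Or.inr (Or.inr (Or.inl (reflection_case hna hn (fun v h => hQ.1 v h) e)))
  · obtain ⟨-, h, -⟩ := Cfsg.Agent.S5373.result hG hprim h22 Cfsg.Agent.S5401.result.2.2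
    exact Or.inr (Or.inr (Or.inr (Or.inl ⟨inferInstance, h.trans (by norm_num)⟩)))
  · obtain ⟨-, -, h, -⟩ := Cfsg.Agent.S5374.result hG hprim h23 Cfsg.Agent.S5401.result.2.2
    exact Or.inr (Or.inr (Or.inr (Or.inr ⟨inferInstance, h.trans (by norm_num)⟩)))
  · exfalso
    obtain ⟨hi, -, hc, -⟩ := Cfsg.Agent.S5375.result hG hprim h24
    haveI : (Cfsg.layer G).Normal := CfsgLib.Layer.layer_normal
    rcases Subgroup.Normal.eq_bot_or_eq_top (inferInstance : (Cfsg.layer G).Normal) with h | h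
    · rw [h, Subgroup.index_bot, hc] at hi; norm_num at hi
    · rw [h, Subgroup.index_top] at hi; norm_num at hi

end CfsgLib.FischerClass
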