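import Cfsg.Agent.Lib.FischerClass.Monodromy

/-!
The stabiliser of a point in a group generated by lifts of a densely connected coordinate space.
-/

set_option autoImplicit false
set_option linter.unusedSectionVars false

namespace CfsgLib.FischerClass

open Cfsg
open CfsgLib.ThreeTransp

variable {K : Type*} [Group K] {P : Type*} [Finite P] {op : P → P → P} {x : P → K} {extra : Set K}

namespace Lifts

variable (L : Lifts op x) (hd : Dense op) (hextra : ∀ y ∈ extra, ∀ p, Commute y (x p))
include L hd hextra

theorem conj_closure {k : K} (hk : k ∈ Subgroup.closure (Set.range x)) {e e' : P}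
    (he : k * x e * k⁻¹ = x e') {u : K} (hu : u ∈ stabGen op x extra e') :
    k⁻¹ * u * k ∈ stabGen op x extra e := by
  have := L.stabGen_conj hextra (inv_mem hk) (L.perm_of_closure (inv_mem hk))
    (e := e') (e' := e) (by rw [← he]; group) hu
  simpa using this

/-- The elements fixing a point lie in the subgroup generated by its neighbours and the elements of
3-power order fixing it. -/
theorem mem_stabGen {e : P} {k : K} (hk : k ∈ Subgroup.closure (Set.range x))
    (hfix : k * x e * k⁻¹ = x e) : k ∈ stabGen op x extra e := by
  classical
  set U := stabGen op x extra e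
  set C := Subgroup.closure (Set.range x)
  -- a transversal
  let T : P → K := fun q =>
    if q = e then 1 else if Adj op e q then edge x e q else
      if h : ∃ z, Adj op z e ∧ Adj op z q then edge x h.choose q * edge x e h.choose else 1
  have hTcl : ∀ q, T q ∈ C := by
    intro q
    simp only [T]
    split_ifs with h1 h2 h3
    exacts [one_mem _, L.edge_mem_closure _ _, mul_mem (L.edge_mem_closure _ _) (L.edge_mem_closure _ _),
      one_mem _]
  have hTconj : ∀ q, T q * x e * (T q)⁻¹ = x q := by
    intro q
    simp only [T]
    split_ifs with h1 h2 h3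
    · simp [h1]
    · exact L.edge_conj h2
    · calc edge x h3.choose q * edge x e h3.choose * x e *
            (edge x h3.choose q * edge x e h3.choose)⁻¹
          = edge x h3.choose q * (edge x e h3.choose * x e * (edge x e h3.choose)⁻¹) *
              (edge x h3.choose q)⁻¹ := by group
        _ = x q := by rw [L.edge_conj (L.adj_symm h3.choose_spec.1), L.edge_conj h3.choose_spec.2]
    · exact absurd (hd.exists_common e q ⟨h1, not_not.1 h2⟩) h3
  have hTadj : ∀ {q}, Adj op e q → T q = edge x e q := fun {q} h => by
    simp only [T, if_neg (L.adj_ne h).symm, if_pos h]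
  have hUconj : ∀ {y : K} {q : P}, y ∈ C → y * x e * y⁻¹ = x q → ∀ u ∈ stabGen op x extra q,
      y⁻¹ * u * y ∈ U := fun hy hyq u hu => L.conj_closure hd hextra hy hyq hu
  -- independence of the middle point
  have indep : ∀ {q z z'}, q ∈ Nb op e → Adj op z e → Adj op z q → Adj op z' e → Adj op z' q →
      (edge x z' q * edge x e z')⁻¹ * (edge x z q * edge x e z) ∈ U := by
    intro q z z' hq h1 h2 h1' h2'
    have hrel := hd.common_conn e q hq z z' h1 h2 h1' h2'
    clear h1' h2'
    induction hrel with
    | refl => rw [inv_mul_cancel]; exact one_mem _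
    | @tail y w hyz hyw ih =>
      obtain ⟨hadj, hwe, hwq⟩ := hyw
      have hy : Adj op y e ∧ Adj op y q := by
        cases hyz with
        | refl => exact ⟨h1, h2⟩
        | tail _ h => exact ⟨h.2.1, h.2.2⟩
      have t1 := L.triangle (extra := extra) y q w hy.2 (L.adj_symm hwq) (L.adj_symm hadj)
      have t2 := L.triangle (extra := extra) e y w (L.adj_symm hy.1) hadj hwe
      have h3 : (edge x w q * edge x e w)⁻¹ * (edge x y q * edge x e y) ∈ U := by
        have e1 : (edge x w q * edge x e w)⁻¹ * (edge x y q * edge x e y) =
            (edge x w e * edge x y w * edge x e y) *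
              ((edge x e y)⁻¹ * (edge x w y * edge x q w * edge x y q) * edge x e y) := by
          simp only [mul_inv_rev, L.edge_inv]
          calc edge x w e * edge x q w * (edge x y q * edge x e y)
              = edge x w e * (edge x y w * (edge x e y * edge x y e) * edge x w y) * edge x q w *
                  (edge x y q * edge x e y) := by
                rw [← L.edge_inv e y, mul_inv_cancel, mul_one, ← L.edge_inv y w, mul_inv_cancel,
                  mul_one]
            _ = _ := by group
        rw [e1]
        exact mul_mem t2 (hUconj (L.edge_mem_closure e y) (L.edge_conj (L.adj_symm hy.1)) _ t1)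
      have := mul_mem h3 ih
      simpa [mul_assoc] using this
  -- the edge condition
  have hedge : ∀ {p q}, Adj op p q → (T q)⁻¹ * edge x p q * T p ∈ U := by
    intro p q hpq
    have hmid : ∀ {r z : P}, r ∈ Nb op e → Adj op z e → Adj op z r →
        (T r)⁻¹ * (edge x z r * edge x e z) ∈ U := by
      intro r z hr h1 h2
      simp only [T, if_neg hr.1, if_neg (show ¬ Adj op e r from fun h => h hr.2),
        dif_pos (show ∃ z, Adj op z e ∧ Adj op z r from ⟨z, h1, h2⟩)]
      have he : ∃ z, Adj op z e ∧ Adj op z r := ⟨z, h1, h2⟩
      exact indep hr h1 h2 he.choose_spec.1 he.choose_spec.2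
    rcases eq_or_ne p e with rfl | hpe
    · rw [hTadj hpq, show T p = 1 by simp [T], mul_one, inv_mul_cancel]; exact one_mem _
    rcases eq_or_ne q e with rfl | hqe
    · rw [hTadj (L.adj_symm hpq), show T q = 1 by simp [T], inv_one, one_mul, ← L.edge_inv,
        inv_mul_cancel]
      exact one_mem _
    by_cases hp : Adj op e p <;> by_cases hq : Adj op e q
    · rw [hTadj hp, hTadj hq, L.edge_inv]
      exact L.triangle e p q hp hpq (L.adj_symm hq)
    · have hqn : q ∈ Nb op e := ⟨hqe, not_not.1 hq⟩
      rw [hTadj hp, mul_assoc]
      exact hmid hqn (L.adj_symm hp) hpq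
    · have hpn : p ∈ Nb op e := ⟨hpe, not_not.1 hp⟩
      rw [hTadj hq]
      have := inv_mem (hmid hpn (L.adj_symm hq) (L.adj_symm hpq))
      rw [mul_inv_rev, inv_inv, mul_inv_rev, L.edge_inv q p] at this
      exact this
    · have hpn : p ∈ Nb op e := ⟨hpe, not_not.1 hp⟩
      have hqn : q ∈ Nb op e := ⟨hqe, not_not.1 hq⟩
      obtain ⟨z, hze, hzp, hzq⟩ := hd.triple e p q hpn hqn hpq
      have a1 := hmid hqn hze hzq
      have a2 := inv_mem (hmid hpn hze hzp)
      have t := L.triangle (extra := extra) z p q hzp hpq (L.adj_symm hzq)
      have a3 := hUconj (L.edge_mem_closure e z) (L.edge_conj (L.adj_symm hze)) _ t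
      have e1 : (T q)⁻¹ * edge x p q * T p = (T q)⁻¹ * (edge x z q * edge x e z) *
          ((edge x e z)⁻¹ * (edge x q z * edge x p q * edge x z p) * edge x e z) *
            ((T p)⁻¹ * (edge x z p * edge x e z))⁻¹ := by
        rw [← L.edge_inv z q]; group
      rw [e1]
      exact mul_mem (mul_mem a1 a3) a2
  -- every generator respects the transversal
  set W : Set K := {g | ∀ q q', g * x q * g⁻¹ = x q' → (T q')⁻¹ * g * T q ∈ U}
  have hW : (C : Set K) ⊆ W ∩ C := by
    refine closure_subset_of_mul_mem ⟨fun q q' h => ?_, one_mem _⟩ ?_ ?_
    · rw [one_mul, inv_one, mul_one] at h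
      rw [L.inj h, mul_one, inv_mul_cancel]; exact one_mem _
    · rintro g ⟨hg, hgC⟩ _ ⟨r, rfl⟩
      refine ⟨fun q q' h => ?_, mul_mem hgC (Subgroup.subset_closure ⟨r, rfl⟩)⟩
      have hrq : x r * x q * (x r)⁻¹ = x (op r q) := by rw [L.inv, L.conj]
      have h1 : g * x (op r q) * g⁻¹ = x q' := by rw [← hrq, ← h]; group
      have h2 : (T (op r q))⁻¹ * x r * T q ∈ U := by
        by_cases hr : op r q = q
        · rw [hr]
          refine hUconj (hTcl q) (hTconj q) _ ?_
          rcases eq_or_ne r q with rfl | hne
          · exact mem_stabGen_self r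
          · exact mem_stabGen_nb ⟨hne, (L.commute_iff q r).1 ((L.commute_iff r q).2 hr).symm⟩
        · have hadj : Adj op q (op r q) := by
            intro e
            have hc := (L.commute_iff q (op r q)).2 e
            have : Commute (x q) (x r * x q * x r) := by rwa [L.conj] at hc
            rw [L.braid r q hr] at this
            have h3 : Commute (x q) (x r) := by
              have h4 := ((Commute.refl (x q)).mul_right this).mul_right (Commute.refl (x q))
              rwa [show x q * (x q * x r * x q) * x q = x r by
                rw [show x q * (x q * x r * x q) * x q = (x q * x q) * x r * (x q * x q) by group,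
                  L.sq, one_mul, mul_one]] at h4
            exact hr ((L.commute_iff r q).1 h3.symm)
          have he : x r = edge x q (op r q) * x q := by
            rw [edge, L.conj, L.braid r q hr]
            calc x r = (x q * x q) * x r * (x q * x q) := by rw [L.sq, one_mul, mul_one]
              _ = _ := by group
          rw [he]
          have := mul_mem (hedge hadj) (hUconj (hTcl q) (hTconj q) _ (mem_stabGen_self q))
          simpa [mul_assoc] using this
      have := mul_mem (hg _ _ h1) h2
      simpa [mul_assoc] using this
    · rintro _ ⟨r, rfl⟩; exact L.inv r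
  have := (hW hk).1 e e hfix
  simpa [T] using this

end Lifts

end CfsgLib.FischerClass
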