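import Cfsg.Agent.Lib.FischerClass.SymShape
import Cfsg.Agent.Lib.Coxeter.TypeA

/-!
Neighbourhood a symmetric group of degree `n`: the group is symmetric of degree `n + 2`.
-/

set_option autoImplicit false
set_option linter.style.haveILetI false
set_option linter.unusedSectionVars false

namespace CfsgLib.FischerClass

open Cfsg
open CfsgLib.ThreeTransp CfsgLib.ThreeTransp.Relations

variable {G : Type*} [Group G] [Finite G] {D : Set G} {n : ℕ} {f : Tp n → G} {d a : G}

theorem mul_comm_pow_two {K : Type*} [Group K] {u v : K} (hu : u * u = 1) (hv : v * v = 1) (h : Commute u v) :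
    (u * v) ^ 2 = 1 := by
  rw [h.mul_pow, pow_two, pow_two, hu, hv, one_mul]

/-- A chain of members beginning with the centre: the group is symmetric. -/
theorem sym_recog (X : Ctx D) (hn : 5 ≤ n) (C : Co D d sop f) (hd : d ∈ D) (ha : a ∈ D)
    (hda : ¬ Commute d a) {x : Fin n} (hS : ∀ p : Tp n, p ∈ Sc f a ↔ p.1 x = x) :
    ∃ e : G ≃* Equiv.Perm (Fin (n + 2)), e '' D = {σ : Equiv.Perm (Fin (n + 2)) | σ.IsSwap} := by
  haveI : NeZero n := ⟨by omega⟩
  set π : Equiv.Perm (Fin n) := Equiv.swap 0 x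
  have hπ0 : π 0 = x := Equiv.swap_apply_left _ _
  have hne : ∀ (k : ℕ) (h : k + 1 < n), π ⟨k, by omega⟩ ≠ π ⟨k + 1, h⟩ := fun k h e => by
    have := congrArg Fin.val (π.injective e)
    simp at this
  let m : ℕ → G := fun k => if k = 0 then d else if k = 1 then a else
    if h : k - 2 + 1 < n then f (tp (hne (k - 2) h)) else 1
  have hm2 : ∀ (k : ℕ) (h : k + 1 < n), m (k + 2) = f (tp (hne k h)) := fun k h => by
    simp [m, show k + 1 < n from h]
  have hmem : ∀ k < n + 1, m k ∈ D := by
    intro k hk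
    rcases k with _ | _ | k
    · exact hd
    · exact ha
    · rw [hm2 k (by omega)]; exact (C.mem _).1
  have hcom : ∀ i j, i < j → j < n + 1 → (Commute (m i) (m j) ↔ i + 1 ≠ j) := by
    intro i j hij hj
    obtain ⟨j, rfl⟩ : ∃ j', j = j' + 1 := ⟨j - 1, by omega⟩
    rcases j with _ | l
    · obtain rfl : i = 0 := by omega
      exact iff_of_false hda (by omega)
    have hl : l + 1 < n := by omega
    rw [show l + 1 + 1 = l + 2 from rfl, hm2 l hl]
    rcases i with _ | _ | k
    · exact iff_of_true (C.mem _).2.2 (by omega)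
    · show Commute a _ ↔ _
      change tp (hne l hl) ∈ Sc f a ↔ _
      rw [hS]
      show Equiv.swap _ _ x = x ↔ _
      rw [← hπ0]
      have h0 : π ⟨l + 1, hl⟩ ≠ π 0 := fun e => by
        have := congrArg Fin.val (π.injective e); simp at this
      rcases Nat.eq_zero_or_pos l with rfl | hpos
      · refine iff_of_false ?_ (by omega)
        show ¬ Equiv.swap (π 0) (π ⟨1, hl⟩) (π 0) = π 0
        rw [Equiv.swap_apply_left]
        exact h0
      · refine iff_of_true (Equiv.swap_apply_of_ne_of_ne (fun e => ?_) h0.symm) (by omega)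
        have := congrArg Fin.val (π.injective e); simp at this; omega
    · have hk : k + 1 < n := by omega
      rw [hm2 k hk, C.com_iff X.hS, sop_tp_iff]
      simp only [ne_eq, π.injective.eq_iff, Fin.ext_iff]
      omega
  have hsq : ∀ k < n + 1, m k * m k = 1 := fun k hk => mul_self_eq_one X.hS (hmem k hk)
  obtain ⟨cs, hcs⟩ := CfsgLib.CoxeterA.exists_system (n + 1)
  have hl : (CoxeterMatrix.A (n + 1)).IsLiftable (fun i : Fin (n + 1) => m i) := by
    intro i j
    have hA : (CoxeterMatrix.A (n + 1)) i j = if i = j then 1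
        else (if (j : ℕ) + 1 = i ∨ (i : ℕ) + 1 = j then 3 else 2) := rfl
    rw [hA]
    by_cases h : i = j
    · rw [if_pos h, pow_one, h, hsq _ j.2]
    · rw [if_neg h]
      have hne' : (i : ℕ) ≠ j := Fin.val_ne_of_ne h
      by_cases h' : (j : ℕ) + 1 = i ∨ (i : ℕ) + 1 = j
      · rw [if_pos h']
        refine mul_pow_three_of_not_commute X.hS (hmem _ i.2) (hmem _ j.2) fun hc => ?_
        rcases h' with h' | h'
        · exact (hcom j i (by omega) i.2).1 hc.symm h'
        · exact (hcom i j (by omega) j.2).1 hc h'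
      · rw [if_neg h']
        refine mul_comm_pow_two (hsq _ i.2) (hsq _ j.2) ?_
        rcases lt_or_gt_of_ne hne' with h'' | h''
        · exact (hcom i j h'' j.2).2 (by omega)
        · exact ((hcom j i h'' i.2).2 (by omega)).symm
  set φ := cs.lift ⟨_, hl⟩
  have hφ : ∀ i : Fin (n + 1), φ (Equiv.swap i.castSucc i.succ) = m i := fun i => by
    rw [← hcs i]; exact CoxeterSystem.lift_apply_simple cs hl i
  have hR : ∀ k < n + 1, m k ∈ φ.range := fun k hk => ⟨_, hφ ⟨k, hk⟩⟩
  -- the adjacent transpositions give all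
  have hall : ∀ p : Tp n, f p ∈ φ.range := by
    have hK : ∀ g : Equiv.Perm (Fin n), g ∈ Submonoid.closure
        (Set.range fun i : Fin (n - 1) => Equiv.swap (⟨i, by omega⟩ : Fin n) ⟨i + 1, by omega⟩) := by
      obtain ⟨r, rfl⟩ : ∃ r, n = r + 1 := ⟨n - 1, by omega⟩
      intro g
      have := Equiv.Perm.mclosure_swap_castSucc_succ r
      rw [show (Set.range fun i : Fin (r + 1 - 1) =>
          Equiv.swap (⟨i, by omega⟩ : Fin (r + 1)) ⟨i + 1, by omega⟩) =
        Set.range fun i : Fin r => Equiv.swap i.castSucc i.succ from rfl, this]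
      trivial
    have key : ∀ g : Equiv.Perm (Fin n), ∃ u ∈ φ.range, ∀ i j (h : i ≠ j),
        ∃ h' : π (g i) ≠ π (g j), u * f (tp (π.injective.ne h)) * u⁻¹ = f (tp h') := by
      intro g
      induction hK g using Submonoid.closure_induction with
      | mem g hg =>
        obtain ⟨⟨k, hk⟩, rfl⟩ := hg
        refine ⟨m (k + 2), hR _ (by omega), fun i j h => ⟨π.injective.ne ((Equiv.injective _).ne h), ?_⟩⟩
        rw [hm2 k (by omega), inv_eq_self X.hS (C.mem _).1, ← C.conj]
        refine congrArg f (Subtype.ext ?_)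
        show Equiv.swap (π ⟨k, _⟩) (π ⟨k + 1, _⟩) * Equiv.swap (π i) (π j) * (Equiv.swap _ _)⁻¹ = Equiv.swap _ _
        rw [← Equiv.swap_apply_apply, π.swap_apply_apply]
        simp
      | one => exact ⟨1, one_mem _, fun i j h => ⟨π.injective.ne h, by simp⟩⟩
      | mul g g' _ _ hu hv =>
        obtain ⟨u, hu, hu'⟩ := hu
        obtain ⟨v, hv, hv'⟩ := hv
        refine ⟨u * v, mul_mem hu hv, fun i j h => ⟨π.injective.ne ((Equiv.injective _).ne h), ?_⟩⟩
        obtain ⟨h1, e1⟩ := hv' i j h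
        obtain ⟨h2, e2⟩ := hu' (g' i) (g' j) (fun e => h1 (congrArg π e))
        calc u * v * f (tp _) * (u * v)⁻¹ = u * (v * f (tp (π.injective.ne h)) * v⁻¹) * u⁻¹ := by group
          _ = _ := by rw [e1]; exact e2
    intro p
    obtain ⟨i, j, h, rfl⟩ := exists_tp p
    have h01 : (⟨0, by omega⟩ : Fin n) ≠ ⟨1, by omega⟩ := by simp
    obtain ⟨g, hg0, hg1⟩ : ∃ g : Equiv.Perm (Fin n), g ⟨0, by omega⟩ = π.symm i ∧ g ⟨1, by omega⟩ = π.symm j := by
      set g0 := Equiv.swap (⟨0, by omega⟩ : Fin n) (π.symm i)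
      refine ⟨Equiv.swap (g0 ⟨1, by omega⟩) (π.symm j) * g0, ?_, ?_⟩
      · rw [Equiv.Perm.mul_apply, Equiv.swap_apply_left]
        refine Equiv.swap_apply_of_ne_of_ne (fun e => h01 ?_) (fun e => h (π.symm.injective e))
        exact g0.injective ((Equiv.swap_apply_left _ _).trans e)
      · rw [Equiv.Perm.mul_apply, Equiv.swap_apply_left]
    obtain ⟨u, hu, hu'⟩ := key g
    obtain ⟨h', e⟩ := hu' _ _ h01
    have hmem' : f (tp (π.injective.ne h01)) ∈ φ.range := by
      have := hR 2 (by omega)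
      rw [hm2 0 (by omega)] at this
      exact this
    rw [show tp h = tp h' from Subtype.ext (by
      show Equiv.swap i j = Equiv.swap _ _
      rw [hg0, hg1, Equiv.apply_symm_apply, Equiv.apply_symm_apply]), ← e]
    exact mul_mem (mul_mem hu hmem') (inv_mem hu)
  have hsurj : Function.Surjective φ := by
    rw [← MonoidHom.range_eq_top]
    refine perp_maximal X.hD X.hprim X.hw hd ?_ ha (hR 1 (by omega)) hda
    refine (Subgroup.closure_le _).2 fun y hy => ?_
    rcases eq_or_ne y d with rfl | hne'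
    · exact hR 0 (by omega)
    · obtain ⟨p, rfl⟩ := C.exists_pt ⟨hy.1, hne', hy.2⟩
      exact hall p
  have hinj : Function.Injective φ := by
    rw [← MonoidHom.ker_eq_bot_iff]
    by_contra hker
    have hle := Equiv.Perm.alternatingGroup_le_of_normal (α := Fin (n + 2)) (by simp; omega)
      (N := φ.ker) ((Subgroup.nontrivial_iff_ne_bot _).2 hker)
    set c : Equiv.Perm (Fin (n + 2)) :=
      Equiv.swap (0 : Fin (n + 1)).castSucc (0 : Fin (n + 1)).succ * Equiv.swap (1 : Fin (n + 1)).castSucc (1 : Fin (n + 1)).succ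
    have hc : c ∈ alternatingGroup (Fin (n + 2)) := by
      rw [Equiv.Perm.mem_alternatingGroup, map_mul, Equiv.Perm.sign_swap (Fin.castSucc_lt_succ).ne,
        Equiv.Perm.sign_swap (Fin.castSucc_lt_succ).ne]
      rfl
    have h1 := hle hc
    rw [MonoidHom.mem_ker, map_mul, hφ, hφ] at h1
    have h0v : ((0 : Fin (n + 1)) : ℕ) = 0 := rfl
    have h1v : ((1 : Fin (n + 1)) : ℕ) = 1 := by rw [Fin.val_one', Nat.one_mod_eq_one.2 (by omega)]
    rw [h0v, h1v] at h1
    have := eq_inv_of_mul_eq_one_left h1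
    change d = a⁻¹ at this
    rw [inv_eq_self X.hS ha] at this
    exact hda (this ▸ Commute.refl _)
  refine ⟨(MulEquiv.ofBijective φ ⟨hinj, hsurj⟩).symm, ?_⟩
  rw [← MulEquiv.coe_toEquiv, Equiv.image_eq_preimage_symm]
  have hzero : φ (Equiv.swap (0 : Fin (n + 1)).castSucc (0 : Fin (n + 1)).succ) = d := hφ 0
  ext σ
  show φ σ ∈ D ↔ σ.IsSwap
  constructor
  · intro h
    obtain ⟨g, hg⟩ := X.exists_conj hd h
    obtain ⟨s, rfl⟩ := hsurj g
    rw [← hzero, ← map_inv, ← map_mul, ← map_mul] at hg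
    rw [← hinj hg]
    exact ⟨s (0 : Fin (n + 1)).castSucc, s (0 : Fin (n + 1)).succ, s.injective.ne (Fin.castSucc_lt_succ).ne,
      (Equiv.swap_apply_apply _ _ _).symm⟩
  · intro h
    obtain ⟨s, hs⟩ := isConj_iff.1 (Equiv.Perm.isConj_swap
      (show (0 : Fin (n + 1)).castSucc ≠ (0 : Fin (n + 1)).succ from (Fin.castSucc_lt_succ).ne) h.choose_spec.choose_spec.1)
    rw [h.choose_spec.choose_spec.2, ← hs, map_mul, map_mul, map_inv, hzero]
    exact X.hc _ d hd

end CfsgLib.FischerClass
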