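import Cfsg.Agent.Lib.FischerClass.OrthModel
import Cfsg.Agent.Lib.FischerClass.SymRecog

/-!
Neighbourhood a symplectic group: the group is orthogonal over the field of two elements, or
symmetric of degree eight.
-/

set_option autoImplicit false
set_option linter.style.haveILetI false
set_option linter.unusedSectionVars false

namespace CfsgLib.FischerClass

open Cfsg CfsgLib.Orth
open CfsgLib.ThreeTransp CfsgLib.ThreeTransp.Relations

variable {m : ℕ}

/-- The shift of the second standard form. -/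
def cOne (i₀ : Fin m) : SV m := Pi.single (.inl i₀) 1 + Pi.single (.inr i₀) 1

theorem qhyp_single (j : Fin m ⊕ Fin m) : qhyp (Pi.single j 1 : SV m) = 0 :=
  Finset.sum_eq_zero fun i _ => by rcases j with k | k <;> simp

theorem sw_inl_inr (i : Fin m) : sw (Pi.single (.inl i) 1 : SV m) (Pi.single (.inr i) 1) = 1 := by
  rw [sw, Classical.SympTrans.f_inr, Pi.single_eq_same]; rfl

theorem qhyp_cOne (i₀ : Fin m) : qhyp (cOne i₀) = 1 := by
  rw [cOne, qhyp_add, qhyp_single, qhyp_single, sw_inl_inr]; rfl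

/-- Norm-one vectors are linked by non-orthogonal steps, in dimension at least six. -/
theorem adj_path (hm : 3 ≤ m) (c : SV m) (S : Set (SP m)) (hS : ∀ p : SP m, p ∈ S ↔ qf c p.1 = 1)
    {e p : SP m} (he : e ∈ S) (hp : p ∈ S) : Relation.ReflTransGen (Link pop S) p e := by
  by_cases hpe : p = e
  · exact hpe ▸ Relation.ReflTransGen.refl
  rcases two_cases (sw p.1 e.1) with h | h
  swap
  · exact Relation.ReflTransGen.single ⟨hp, he, Or.inl ((adj_iff _ _).2 h)⟩
  obtain ⟨z, h1, h2⟩ := exists_two p e (fun e' => hpe e'.symm) 1 1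
  obtain ⟨z', h3, h4, h5⟩ : ∃ z', qf c z' = 1 ∧ sw z' p.1 = 1 ∧ sw z' e.1 = 1 := by
    obtain ⟨w, w1, w2, w3⟩ := exists_perp_two hm p.1 e.1
    obtain ⟨w', hw', hw'1⟩ := adjust (s := {p.1, e.1}) w3 0 1
    have g1 : sw w' p.1 = 0 := (hw' _ (Set.mem_insert _ _)).trans (sw_zero_left _)
    have g2 : sw w' e.1 = 0 := (hw' _ (Set.mem_insert_of_mem _ rfl)).trans (sw_zero_left _)
    rcases two_cases (qf c z) with q0 | q0
    swap
    · exact ⟨z, q0, h1, h2⟩
    rcases two_cases (qf c (z + w)) with q1 | q1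
    swap
    · exact ⟨z + w, q1, by rw [sw_add_left, h1, w1, add_zero], by rw [sw_add_left, h2, w2, add_zero]⟩
    rcases two_cases (qf c (z + w')) with q2 | q2
    swap
    · exact ⟨z + w', q2, by rw [sw_add_left, h1, g1, add_zero], by rw [sw_add_left, h2, g2, add_zero]⟩
    refine ⟨z + (w + w'), ?_, by rw [sw_add_left, sw_add_left, h1, w1, g1, add_zero, add_zero],
      by rw [sw_add_left, sw_add_left, h2, w2, g2, add_zero, add_zero]⟩
    rw [qf_add, qf_add, sw_add_right, sw_comm w' w, hw'1]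
    rw [qf_add] at q1 q2
    revert q0 q1 q2
    generalize qf c z = a
    generalize qf c w = b
    generalize qf c w' = b'
    generalize sw z w = u
    generalize sw z w' = u'
    revert a b b' u u'
    decide
  let Z : SP m := ⟨z', ne_zero_of_sw h4⟩
  have hZ : Z ∈ S := (hS Z).2 h3
  exact (Relation.ReflTransGen.single (b := Z)
    ⟨hp, hZ, Or.inl ((adj_iff _ _).2 (by rw [sw_comm]; exact h4))⟩).tail
    ⟨hZ, he, Or.inl ((adj_iff _ _).2 h5)⟩

/-- A second singular vector orthogonal to a given one, in dimension at least six. -/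
theorem exists_singular_perp (hm : 3 ≤ m) (c u : SV m) (hu : qf c u = 0) :
    ∃ p, p ≠ 0 ∧ p ≠ u ∧ qf c p = 0 ∧ sw p u = 0 := by
  obtain ⟨x, hx, -, hxs⟩ := exists_perp_two hm u u
  have hx0 : x ≠ 0 := fun e => hxs (e ▸ Submodule.zero_mem _)
  have hxu : x ≠ u := fun e => hxs (e ▸ Submodule.subset_span (Set.mem_insert _ _))
  rcases two_cases (qf c x) with h | h
  · exact ⟨x, hx0, hxu, h, hx⟩
  obtain ⟨y, hy1, hy2, hys⟩ := exists_perp_two hm u x
  have hy0 : y ≠ 0 := fun e => hys (e ▸ Submodule.zero_mem _)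
  have hyu : y ≠ u := fun e => hys (e ▸ Submodule.subset_span (Set.mem_insert _ _))
  rcases two_cases (qf c y) with h' | h'
  · exact ⟨y, hy0, hyu, h', hy1⟩
  refine ⟨x + y, fun e => hys ?_, fun e => hys ?_, ?_, by rw [sw_add_left, hx, hy1, add_zero]⟩
  · have : y = x := by rw [← add_two x y, e, add_zero]
    exact this ▸ Submodule.subset_span (Set.mem_insert_of_mem _ rfl)
  · have : y = x + u := by rw [← e, add_two]
    exact this ▸ Submodule.add_mem _ (Submodule.subset_span (Set.mem_insert_of_mem _ rfl))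
      (Submodule.subset_span (Set.mem_insert _ _))
  · rw [qf_add, h, h', sw_comm, hy2]; rfl

/-- Six vectors representing six letters. -/
def six : Fin 6 → SV 2 :=
  ![0, Sum.elim ![0, 0] ![0, 1], Sum.elim ![0, 1] ![0, 0], Sum.elim ![0, 1] ![1, 1],
    Sum.elim ![1, 1] ![0, 1], Sum.elim ![1, 1] ![1, 1]]

set_option synthInstance.maxSize 2048 in
theorem six_spec : (∀ i j : Fin 6, i ≠ j → six i + six j ≠ 0) ∧
    (∀ i j k l : Fin 6, i ≠ j → k ≠ l →
      (six i + six j = six k + six l ↔ (i = k ∧ j = l) ∨ (i = l ∧ j = k))) ∧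
    (∀ v : SV 2, v ≠ 0 → ∃ i j : Fin 6, i ≠ j ∧ six i + six j = v) ∧
    (∀ i j k : Fin 6, i ≠ j → k ≠ i → k ≠ j → sw (six i + six j) (six j + six k) = 1) ∧
    (∀ i j k l : Fin 6, i ≠ j → k ≠ l → i ≠ k → i ≠ l → j ≠ k → j ≠ l →
      sw (six i + six j) (six k + six l) = 0) ∧
    (∀ i j : Fin 6, i ≠ j → (qf (cOne (0 : Fin 2)) (six i + six j) = 1 ↔ i ≠ 0 ∧ j ≠ 0)) := by
  refine ⟨?_, ?_, ?_, ?_, ?_, ?_⟩ <;> decide +kernel

theorem six_swap {i j k : Fin 6} (hij : i ≠ j) :
    six (Equiv.swap i j k) = six k + (if k = i ∨ k = j then six i + six j else 0) := by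
  by_cases h1 : k = i
  · subst h1; rw [Equiv.swap_apply_left, if_pos (Or.inl rfl), add_two]
  by_cases h2 : k = j
  · subst h2
    rw [Equiv.swap_apply_right, if_pos (Or.inr rfl), add_comm (six i) (six k), add_two]
  rw [Equiv.swap_apply_of_ne_of_ne h1 h2, if_neg (by tauto), add_zero]

/-- A transposition of six letters as a vector. -/
noncomputable def sixMap (p : Tp 6) : SP 2 :=
  ⟨six (exists_tp p).choose + six (exists_tp p).choose_spec.choose,
    six_spec.1 _ _ (exists_tp p).choose_spec.choose_spec.choose⟩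

theorem sixMap_tp {i j : Fin 6} (h : i ≠ j) : (sixMap (tp h)).1 = six i + six j := by
  show six (exists_tp (tp h)).choose + six (exists_tp (tp h)).choose_spec.choose = _
  rcases (eq_tp_iff h _).1 (exists_tp (tp h)).choose_spec.choose_spec.choose_spec with ⟨a, b⟩ | ⟨a, b⟩
  · exact congrArg₂ (fun x y => six x + six y) a.symm b.symm
  · exact (congrArg₂ (fun x y => six x + six y) b.symm a.symm).trans (add_comm _ _)

theorem sixMap_spec : Function.Bijective sixMap ∧ ∀ p q, sixMap (sop p q) = pop (sixMap p) (sixMap q) := by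
  obtain ⟨-, s2, s3, s4, s5, -⟩ := six_spec
  refine ⟨⟨fun p q e => ?_, fun v => ?_⟩, fun p q => ?_⟩
  · obtain ⟨i, j, h, rfl⟩ := exists_tp p
    obtain ⟨k, l, h', rfl⟩ := exists_tp q
    have := congrArg Subtype.val e
    rw [sixMap_tp, sixMap_tp] at this
    exact (eq_tp_iff h h').2 ((s2 i j k l h h').1 this)
  · obtain ⟨i, j, h, e⟩ := s3 v.1 v.2
    exact ⟨tp h, Subtype.ext (by rw [sixMap_tp, e])⟩
  · obtain ⟨i, j, h, rfl⟩ := exists_tp p
    obtain ⟨k, l, h', rfl⟩ := exists_tp q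
    have hne : Equiv.swap i j k ≠ Equiv.swap i j l := (Equiv.swap i j).injective.ne h'
    rw [show sop (tp h) (tp h') = tp hne from Subtype.ext (Equiv.swap_apply_apply _ _ _).symm]
    refine Subtype.ext ?_
    rw [pop_val, sixMap_tp, sixMap_tp, sixMap_tp, six_swap h, six_swap h]
    by_cases hk : k = i ∨ k = j <;> by_cases hl : l = i ∨ l = j <;> simp only [hk, hl, if_true, if_false]
    · have e : six k + six l = six i + six j := by
        rcases hk with rfl | rfl <;> rcases hl with rfl | rfl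
        exacts [absurd rfl h', rfl, add_comm _ _, absurd rfl h']
      rw [e, sw_self, zero_smul, add_zero]
      rw [show six k + (six i + six j) + (six l + (six i + six j)) =
        six k + six l + ((six i + six j) + (six i + six j)) by abel, two_add, add_zero, e]
    · push Not at hl
      have : sw (six k + six l) (six i + six j) = 1 := by
        rcases hk with rfl | rfl
        · rw [add_comm (six k) (six l)]; exact s4 l k j (Ne.symm h') hl.2.symm h.symm
        · rw [add_comm (six k) (six l), add_comm (six i) (six k)]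
          exact s4 l k i (Ne.symm h') hl.1.symm h
      rw [this, one_smul, add_zero]
      abel
    · push Not at hk
      have : sw (six k + six l) (six i + six j) = 1 := by
        rcases hl with rfl | rfl
        · exact s4 k l j h' hk.2.symm h.symm
        · rw [add_comm (six i) (six l)]; exact s4 k l i h' hk.1.symm h
      rw [this, one_smul, add_zero]
      abel
    · push Not at hk hl
      rw [s5 k l i j h' h hk.1 hk.2 hl.1 hl.2, zero_smul, add_zero, add_zero, add_zero]

variable {G : Type*} [Group G] [Finite G] {D : Set G} {f : SP m → G} {d a : G}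

/-- The outer member may be moved so that the form is standard. -/
theorem symp_normal (X : Ctx D) (hm : 2 ≤ m) (C : Co D d pop f) (hd : d ∈ D) (ha : a ∈ D)
    (hda : ¬ Commute d a) (i₀ : Fin m) : ∃ b ∈ D, ¬ Commute d b ∧
      ((∀ p : SP m, p ∈ Sc f b ↔ qf 0 p.1 = 1) ∨ ∀ p : SP m, p ∈ Sc f b ↔ qf (cOne i₀) p.1 = 1) := by
  obtain ⟨c, hc⟩ := symp_shape X hm C hd ha hda
  have move : ∀ t : SP m, ∃ b ∈ D, ¬ Commute d b ∧
      ∀ p : SP m, p ∈ Sc f b ↔ qf (c + (qf c t.1 + 1) • t.1) p.1 = 1 := fun t => by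
    refine ⟨f t * a * (f t)⁻¹, X.hc _ a ha, fun h => hda ?_, fun p => ?_⟩
    · have := (C.mem t).2.2
      exact (commute_conjBy (f t) d a).1 (by rwa [← this.eq, mul_inv_cancel_right])
    · rw [← qf_shift, show p.1 + sw p.1 t.1 • t.1 = (pop t p).1 from rfl, ← hc]
      show Commute _ (f p) ↔ Commute a (f (pop t p))
      rw [C.conj, inv_eq_self X.hS (C.mem t).1]
      conv_lhs => rw [← conj_conj X.hS (C.mem t).1 (f p)]
      exact commute_conj_iff X.hS (C.mem t).1 _ _
  rcases two_cases (qhyp c) with h | h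
  · by_cases hc0 : c = 0
    · exact ⟨a, ha, hda, Or.inl fun p => hc0 ▸ hc p⟩
    obtain ⟨b, hb, hdb, hp⟩ := move ⟨c, hc0⟩
    refine ⟨b, hb, hdb, Or.inl fun p => (hp p).trans ?_⟩
    rw [show c + (qf c c + 1) • c = 0 by rw [qf, h, sw_self, add_zero, zero_add, one_smul, two_add]]
  · by_cases hc0 : c + cOne i₀ = 0
    · refine ⟨a, ha, hda, Or.inr fun p => ?_⟩
      rw [show cOne i₀ = c by rw [← add_two c (cOne i₀), hc0, add_zero]]
      exact hc p
    obtain ⟨b, hb, hdb, hp⟩ := move ⟨c + cOne i₀, hc0⟩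
    refine ⟨b, hb, hdb, Or.inr fun p => (hp p).trans ?_⟩
    rw [show c + (qf c (c + cOne i₀) + 1) • (c + cOne i₀) = cOne i₀ by
      rw [qf, qhyp_add, sw_add_right, sw_self, h, qhyp_cOne, zero_add,
        (by decide : ∀ s : ZMod 2, (1 : ZMod 2) + 1 + s + s + 1 = 1), one_smul, add_two]]

/-- In dimension four with a hyperbolic form the two triangles are linked by a triple. -/
theorem four_path (S : Set (SP 2)) (hS : ∀ p : SP 2, p ∈ S ↔ qf 0 p.1 = 1) {p : SP 2} (hp : p ∈ S) :
    Relation.ReflTransGen (Link pop S) p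
      ⟨cOne (0 : Fin 2), fun e => by
        have := qhyp_cOne (0 : Fin 2); rw [e, qhyp_zero] at this; exact zero_ne_one this⟩ := by
  let a : SP 2 := ⟨Sum.elim ![1, 1] ![0, 0], by decide +kernel⟩
  let b : SP 2 := ⟨Sum.elim ![0, 0] ![1, 1], by decide +kernel⟩
  let ab : SP 2 := ⟨Sum.elim ![1, 1] ![1, 1], by decide +kernel⟩
  let e : SP 2 := ⟨cOne (0 : Fin 2), fun e => by
    have := qhyp_cOne (0 : Fin 2); rw [e, qhyp_zero] at this; exact zero_ne_one this⟩
  change Relation.ReflTransGen (Link pop S) p e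
  have he : e ∈ S := (hS e).2 (by rw [qf_zero_shift]; exact qhyp_cOne _)
  have hT : IsTriple pop S a b ab := by
    refine ⟨⟨?_, ?_⟩, ⟨?_, ?_⟩, ⟨?_, ?_⟩, ⟨?_, ?_, ?_⟩, fun u hu => ?_⟩
    iterate 6 decide +kernel
    all_goals rw [hS] at *
    iterate 3 decide +kernel
    revert hu; revert u
    decide +kernel
  have key : ∀ q : SP 2, qf 0 q.1 = 1 → q = e ∨ sw q.1 e.1 = 1 ∨ pop a (pop b (pop ab q)) = e ∨
      sw (pop a (pop b (pop ab q))).1 e.1 = 1 := by decide +kernel
  rcases key p ((hS p).1 hp) with h | h | h | h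
  · exact h ▸ Relation.ReflTransGen.refl
  · exact Relation.ReflTransGen.single ⟨hp, he, Or.inl ((adj_iff _ _).2 h)⟩
  · exact Relation.ReflTransGen.single ⟨hp, he, Or.inr ⟨a, b, ab, hT, h⟩⟩
  · exact (Relation.ReflTransGen.single (b := pop a (pop b (pop ab p)))
      ⟨hp, hT.maps p hp, Or.inr ⟨a, b, ab, hT, rfl⟩⟩).tail
      ⟨hT.maps p hp, he, Or.inl ((adj_iff _ _).2 h)⟩

/-- The split of the minus type form. -/
theorem exists_emb_minus (m : ℕ) : ∃ Q : QuadraticForm (ZMod 2) ((Fin m ⊕ Fin m) ⊕ Fin 2 → ZMod 2),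
    ⇑Q = Cfsg.quadFormMinus m (ZMod 2) 1 1 ∧ Nondeg Q ∧ Nonempty (Emb Q (0 : SV m)) := by
  obtain ⟨Q, hQ, hB⟩ := exists_quadForm_minus (F := ZMod 2) m (a := 1) (b := 1) (by decide)
  refine ⟨Q, hQ, hB, ⟨?_⟩⟩
  refine
    { δ := Sum.elim 0 ![1, 0], α := Sum.elim 0 ![0, 1],
      L := { toFun := fun v => Sum.elim v 0, map_add' := ?_, map_smul' := ?_ },
      qδ := ?_, qα := ?_, δα := ?_, δL := ?_, αL := ?_, qL := ?_, surj := ?_ }
  · intro u v; funext i; rcases i with i | i <;> simp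
  · intro c v; funext i; rcases i with i | i <;> simp
  · rw [hQ]; simp [Cfsg.quadFormMinus]
  · rw [hQ]; simp [Cfsg.quadFormMinus]
  · rw [hQ, polar_minus]; simp
  · intro v; rw [hQ, polar_minus]; simp
  · intro v; rw [hQ, polar_minus]; simp
  · intro v; rw [hQ, qf_zero_shift]; simp [Cfsg.quadFormMinus, qhyp]
  · intro x
    refine ⟨x (.inr 0), x (.inr 1), fun i => x (.inl i), ?_⟩
    funext i; rcases i with i | i
    · simp
    · fin_cases i <;> simp

/-- The split of the plus type form, one pair merged with the plane. -/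
theorem exists_emb_plus (m : ℕ) (i₀ : Fin m) :
    ∃ Q : QuadraticForm (ZMod 2) (Fin (m + 1) ⊕ Fin (m + 1) → ZMod 2),
      ⇑Q = Cfsg.quadFormPlus (m + 1) (ZMod 2) ∧ Nondeg Q ∧ Nonempty (Emb Q (cOne i₀)) := by
  obtain ⟨Q, hQ, hB⟩ := exists_quadForm_plus (F := ZMod 2) (m + 1)
  refine ⟨Q, hQ, hB, ⟨?_⟩⟩
  set z : Fin (m + 1) := Fin.last m
  set o : Fin (m + 1) := i₀.castSucc
  have hoz : o ≠ z := (Fin.castSucc_lt_last i₀).ne
  -- hyperbolic pairs `u₁ v₁` at `z` and `u₂ v₂` at `o`
  let u₁ : SV (m + 1) := Pi.single (.inl z) 1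
  let v₁ : SV (m + 1) := Pi.single (.inr z) 1
  let u₂ : SV (m + 1) := Pi.single (.inl o) 1
  let v₂ : SV (m + 1) := Pi.single (.inr o) 1
  -- the other pairs go to themselves, the first one to the second plane
  let base : SV m →ₗ[ZMod 2] SV (m + 1) :=
    { toFun := fun v => Sum.elim (Fin.snoc (fun i => v (.inl i)) 0) (Fin.snoc (fun i => v (.inr i)) 0)
      map_add' := fun u v => by
        funext i; rcases i with i | i <;> induction i using Fin.lastCases <;> simp
      map_smul' := fun c v => by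
        funext i; rcases i with i | i <;> induction i using Fin.lastCases <;> simp }
  let L : SV m →ₗ[ZMod 2] SV (m + 1) :=
    base + (LinearMap.proj (.inl i₀) : SV m →ₗ[ZMod 2] ZMod 2).smulRight (v₂)
      + (LinearMap.proj (.inr i₀) : SV m →ₗ[ZMod 2] ZMod 2).smulRight (u₁ + v₁ + u₂ + v₂)
  have hB2 : ∀ u v, QuadraticMap.polar (⇑Q) u v = sw u v := fun u v => by
    rw [hQ, polar_plus, sw, Classical.SympTrans.f_apply]
    exact Finset.sum_congr rfl fun i _ =>
      (by decide : ∀ a b c d : ZMod 2, a * d + c * b = b * c - a * d) _ _ _ _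
  have hq : ∀ v, Q v = qhyp v := fun v => by rw [hQ]; rfl
  have hbase : ∀ v, qhyp (base v) = qhyp v := fun v => by
    simp only [qhyp, base, LinearMap.coe_mk, AddHom.coe_mk, Fin.sum_univ_castSucc, Sum.elim_inl,
      Sum.elim_inr, Fin.snoc_castSucc, Fin.snoc_last, mul_zero, add_zero]
  have hbz : ∀ v, sw u₁ (base v) = 0 ∧ sw v₁ (base v) = 0 := fun v => by
    constructor
    · rw [sw_comm, sw, Classical.SympTrans.f_inl]; simp [base, z]
    · rw [sw_comm, sw, Classical.SympTrans.f_inr]; simp [base, z]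
  have hbo : ∀ v, sw u₂ (base v) = v (.inr i₀) ∧ sw v₂ (base v) = v (.inl i₀) := fun v => by
    constructor
    · rw [sw_comm, sw, Classical.SympTrans.f_inl]; simp [base, o]
    · rw [sw_comm, sw, Classical.SympTrans.f_inr, ZMod.neg_eq_self_mod_two]; simp [base, o]
  have hpairs : sw u₁ v₁ = 1 ∧ sw u₂ v₂ = 1 ∧ sw u₁ u₂ = 0 ∧ sw u₁ v₂ = 0 ∧ sw v₁ u₂ = 0 ∧ sw v₁ v₂ = 0 := by
    refine ⟨sw_inl_inr z, sw_inl_inr o, ?_, ?_, ?_, ?_⟩
    · rw [sw, Classical.SympTrans.f_inl]; simp [u₁]
    · rw [sw, Classical.SympTrans.f_inr]; simp [u₁, hoz]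
    · rw [sw, Classical.SympTrans.f_inl]; simp [v₁, hoz]
    · rw [sw, Classical.SympTrans.f_inr]; simp [v₁]
  obtain ⟨p1, p2, p3, p4, p5, p6⟩ := hpairs
  have hs : qhyp u₁ = 0 ∧ qhyp v₁ = 0 ∧ qhyp u₂ = 0 ∧ qhyp v₂ = 0 :=
    ⟨qhyp_single _, qhyp_single _, qhyp_single _, qhyp_single _⟩
  obtain ⟨s1, s2, s3, s4⟩ := hs
  have hL : ∀ v, L v = base v + v (.inl i₀) • v₂ + v (.inr i₀) • (u₁ + v₁ + u₂ + v₂) := fun v => by
    simp [L]
  refine { δ := u₁ + v₁, α := v₁ + u₂ + v₂, L := L, qδ := ?_, qα := ?_, δα := ?_, δL := ?_, αL := ?_,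
           qL := ?_, surj := ?_ }
  · simp [hq, qhyp_add, s1, s2, p1]
  · simp [hq, qhyp_add, sw_add_left, s2, s3, s4, p2, p5, p6]
  · simp only [hB2, sw_add_left, sw_add_right, p1, sw_self, p3, p4, p5, p6, sw_comm u₁ v₁, add_zero, zero_add]
  · intro v
    simp only [hB2, hL, sw_add_left, sw_add_right, sw_smul_right, (hbz v).1, (hbz v).2, sw_self, p1, p3,
      p4, p5, p6, sw_comm u₁ v₁]
    generalize v (.inl i₀) = x
    generalize v (.inr i₀) = y
    revert x y; decide
  · intro v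
    simp only [hB2, hL, sw_add_left, sw_add_right, sw_smul_right, (hbz v).2, (hbo v).1, (hbo v).2, sw_self,
      p1, p2, p3, p4, p5, p6, sw_comm u₁ v₁, sw_comm v₁ u₂, sw_comm u₁ u₂, sw_comm u₂ v₂, sw_comm v₁ v₂,
      sw_comm u₁ v₂]
    generalize v (.inl i₀) = x
    generalize v (.inr i₀) = y
    revert x y; decide
  · intro v
    have hc : sw (cOne i₀) v = v (.inl i₀) + v (.inr i₀) := by
      rw [sw_comm, cOne, sw_add_right, sw, Classical.SympTrans.f_inl, sw, Classical.SympTrans.f_inr,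
        ZMod.neg_eq_self_mod_two, add_comm]
    have hsm : ∀ (k : ZMod 2) (w : SV (m + 1)), qhyp (k • w) = k * qhyp w := fun k w => by
      rcases two_cases k with rfl | rfl <;> simp [qhyp_zero]
    rw [hq, hL, qhyp_add, qhyp_add, hsm, hsm, hbase, qf, hc]
    simp only [qhyp_add, sw_add_left, sw_add_right, sw_smul_right, sw_smul_left, sw_comm u₁ (base v),
      sw_comm v₁ (base v), sw_comm u₂ (base v), sw_comm v₂ (base v), (hbz v).1, (hbz v).2, (hbo v).1, (hbo v).2,
      sw_self, s1, s2, s3, s4, p1, p2, p3, p4, p5, p6, sw_comm u₁ v₂, sw_comm v₁ v₂, sw_comm u₂ v₂]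
    generalize v (.inl i₀) = x
    generalize v (.inr i₀) = y
    generalize qhyp v = w
    revert x y w; decide
  · intro x
    let a := sw x v₁
    let b := sw x u₁
    let g := sw x v₂
    let h := sw x u₂
    let t := a + b
    let q := g + h
    let p := h + t
    let r : SV m := Sum.elim (fun i => if i = i₀ then p else x (.inl i.castSucc))
      (fun i => if i = i₀ then q else x (.inr i.castSucc))
    refine ⟨a + q, t, r, ?_⟩
    have ea : a = x (.inl z) := by
      simp only [a, sw, v₁, Classical.SympTrans.f_inr, ZMod.neg_eq_self_mod_two]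
    have eb : b = x (.inr z) := by simp only [b, sw, u₁, Classical.SympTrans.f_inl]
    have eg : g = x (.inl o) := by
      simp only [g, sw, v₂, Classical.SympTrans.f_inr, ZMod.neg_eq_self_mod_two]
    have eh : h = x (.inr o) := by simp only [h, sw, u₂, Classical.SympTrans.f_inl]
    rw [hL]
    funext i
    rcases i with i | i <;> induction i using Fin.lastCases with
    | last =>
      simp [base, r, t, q, p, u₁, v₁, u₂, v₂, z, o, hoz, hoz.symm, ea, eb, eg, eh,
        Fin.castSucc_ne_last, (Fin.castSucc_ne_last _).symm]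
      try (generalize x (.inl (Fin.last m)) = A; generalize x (.inr (Fin.last m)) = B
           generalize x (.inl i₀.castSucc) = C; generalize x (.inr i₀.castSucc) = E
           revert A B C E; decide)
    | cast j =>
      by_cases hj : j = i₀
      · subst hj
        simp [base, r, t, q, p, u₁, v₁, u₂, v₂, z, o, hoz, hoz.symm, ea, eb, eg, eh,
          Fin.castSucc_ne_last, (Fin.castSucc_ne_last _).symm]
        try (generalize x (.inl (Fin.last m)) = A; generalize x (.inr (Fin.last m)) = B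
             generalize x (.inl j.castSucc) = C; generalize x (.inr j.castSucc) = E
             revert A B C E; decide)
      · simp [base, r, u₁, v₁, u₂, v₂, z, o, hj, Fin.castSucc_inj, Fin.castSucc_ne_last,
          (Fin.castSucc_ne_last _).symm]

/-- Neighbourhood a symplectic group. -/
theorem symp_case (X : Ctx D) (hm : 2 ≤ m) (C : Co D d pop f) (hd : d ∈ D) (ha : a ∈ D)
    (hda : ¬ Commute d a) :
    (m = 2 ∧ ∃ e : G ≃* Equiv.Perm (Fin 8), e '' D = {σ : Equiv.Perm (Fin 8) | σ.IsSwap}) ∨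
    (3 ≤ m ∧ ∃ e : G ≃* ↥(Cfsg.isometryGroup (ZMod 2) (Cfsg.quadFormPlus (m + 1) (ZMod 2))), e '' D =
      {g : ↥(Cfsg.isometryGroup (ZMod 2) (Cfsg.quadFormPlus (m + 1) (ZMod 2))) | (((g : GL (Fin (m + 1) ⊕ Fin (m + 1)) (ZMod 2)) :
        Matrix (Fin (m + 1) ⊕ Fin (m + 1)) (Fin (m + 1) ⊕ Fin (m + 1)) (ZMod 2)) - 1).rank = 1}) ∨
    ∃ e : G ≃* ↥(Cfsg.isometryGroup (ZMod 2) (Cfsg.quadFormMinus m (ZMod 2) 1 1)), e '' D =
      {g : ↥(Cfsg.isometryGroup (ZMod 2) (Cfsg.quadFormMinus m (ZMod 2) 1 1)) | (((g : GL ((Fin m ⊕ Fin m) ⊕ Fin 2) (ZMod 2)) :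
        Matrix ((Fin m ⊕ Fin m) ⊕ Fin 2) ((Fin m ⊕ Fin m) ⊕ Fin 2) (ZMod 2)) - 1).rank = 1} := by
  let i₀ : Fin m := ⟨0, by omega⟩
  obtain ⟨b, hb, hdb, hS | hS⟩ := symp_normal X hm C hd ha hda i₀
  · refine Or.inr (Or.inr ?_)
    obtain ⟨Q, hQ, hB, ⟨M⟩⟩ := exists_emb_minus m
    have hn : 6 ≤ Module.finrank (ZMod 2) ((Fin m ⊕ Fin m) ⊕ Fin 2 → ZMod 2) := by
      rw [Module.finrank_fintype_fun_eq_card, Fintype.card_sum, Fintype.card_sum, Fintype.card_fin, Fintype.card_fin]
      omega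
    rw [← hQ]
    rcases Nat.lt_or_ge m 3 with h2 | h3
    · obtain rfl : m = 2 := by omega
      refine M.recog X hB hn C hd hb hdb hS
        ((hS ⟨cOne (0 : Fin 2), fun e => by
          have := qhyp_cOne (0 : Fin 2); rw [e, qhyp_zero] at this; exact zero_ne_one this⟩).2
          (by rw [qf_zero_shift]; exact qhyp_cOne _)) (fun p hp => four_path _ hS hp) ?_
      decide +kernel
    · obtain ⟨e, he⟩ := X.sc_nonempty C hd hb hdb
      exact M.recog X hB hn C hd hb hdb hS he (fun p hp => adj_path h3 0 _ hS he hp)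
        (fun u _ hu => exists_singular_perp h3 0 u hu)
  · rcases Nat.lt_or_ge m 3 with h2 | h3
    · obtain rfl : m = 2 := by omega
      refine Or.inl ⟨rfl, ?_⟩
      let σ : Tp 6 ≃ SP 2 := Equiv.ofBijective sixMap sixMap_spec.1
      have C6 : Co D d sop (f ∘ σ) :=
        { inj := C.inj.comp σ.injective
          range := by rw [σ.surjective.range_comp, C.range]
          conj := fun p q => by
            show f (sixMap (sop p q)) = _
            rw [sixMap_spec.2, C.conj]; rfl }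
      refine sym_recog X (n := 6) (by norm_num) C6 hd hb hdb (x := 0) fun p => ?_
      obtain ⟨i, j, hij, rfl⟩ := exists_tp p
      show sixMap (tp hij) ∈ Sc f b ↔ Equiv.swap i j 0 = 0
      rw [hS, sixMap_tp]
      refine (six_spec.2.2.2.2.2 i j hij).trans ?_
      revert i j
      decide +kernel
    · refine Or.inr (Or.inl ⟨h3, ?_⟩)
      obtain ⟨Q, hQ, hB, ⟨M⟩⟩ := exists_emb_plus m i₀
      have hn : 6 ≤ Module.finrank (ZMod 2) (Fin (m + 1) ⊕ Fin (m + 1) → ZMod 2) := by
        rw [Module.finrank_fintype_fun_eq_card, Fintype.card_sum, Fintype.card_fin]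
        omega
      rw [← hQ]
      obtain ⟨e, he⟩ := X.sc_nonempty C hd hb hdb
      exact M.recog X hB hn C hd hb hdb hS he (fun p hp => adj_path h3 _ _ hS he hp)
        (fun u _ hu => exists_singular_perp h3 _ u hu)

end CfsgLib.FischerClass
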