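import Cfsg.Agent.Lib.FischerClass.SympSpace

/-!
Neighbourhood a symplectic group: the common neighbours of a non-commuting pair are the vectors of
norm one of a quadratic form polarising to the symplectic form.
-/

set_option autoImplicit false
set_option linter.style.haveILetI false
set_option linter.unusedSectionVars false

namespace CfsgLib.FischerClass

open Cfsg
open CfsgLib.ThreeTransp CfsgLib.ThreeTransp.Relations

attribute [local instance] _root_.Classical.propDecidable

variable {m : ℕ}

/-- The hyperbolic form. -/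
def qhyp (v : SV m) : ZMod 2 := ∑ i, v (.inl i) * v (.inr i)

theorem qhyp_add (u v : SV m) : qhyp (u + v) = qhyp u + qhyp v + sw u v := by
  simp only [qhyp, sw, Classical.SympTrans.f_apply, ← Finset.sum_add_distrib, Pi.add_apply]
  refine Finset.sum_congr rfl fun i _ => ?_
  exact (by decide : ∀ a b c d : ZMod 2, (a + c) * (b + d) = a * b + c * d + (b * c - a * d)) _ _ _ _

/-- The form with given shift. -/
def qf (c v : SV m) : ZMod 2 := qhyp v + sw c v

theorem qf_add (c u v : SV m) : qf c (u + v) = qf c u + qf c v + sw u v := by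
  simp only [qf, qhyp_add, sw_add_right]; ring

theorem qhyp_zero : qhyp (0 : SV m) = 0 := by simp [qhyp]

theorem qf_zero (c : SV m) : qf c 0 = 0 := by simp [qf, qhyp_zero, sw_zero_right]

theorem qf_zero_shift (v : SV m) : qf 0 v = qhyp v := by simp [qf, sw_zero_left]

/-- A vector orthogonal to two others and outside their span. -/
theorem exists_perp_two (hm : 3 ≤ m) (x y : SV m) :
    ∃ w, sw w x = 0 ∧ sw w y = 0 ∧ w ∉ Submodule.span (ZMod 2) {x, y} := by
  by_contra h
  push Not at h
  let L : SV m →ₗ[ZMod 2] (ZMod 2 × ZMod 2) :=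
    { toFun := fun w => (sw w x, sw w y)
      map_add' := fun u v => by simp [sw_add_left]
      map_smul' := fun c v => by simp [sw_smul_left] }
  have hker : LinearMap.ker L ≤ Submodule.span (ZMod 2) {x, y} := fun w hw => by
    have := LinearMap.mem_ker.1 hw
    simp only [L, LinearMap.coe_mk, AddHom.coe_mk, Prod.mk_eq_zero] at this
    exact h w this.1 this.2
  have h1 := L.finrank_range_add_finrank_ker
  have h2 : Module.finrank (ZMod 2) (LinearMap.range L) ≤ 2 := by
    refine (Submodule.finrank_le _).trans ?_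
    simp
  have h3 : Module.finrank (ZMod 2) (LinearMap.ker L) ≤ 2 := by
    refine (Submodule.finrank_mono hker).trans ?_
    have := finrank_span_finset_le_card (R := ZMod 2) ({x, y} : Finset (SV m))
    rw [Finset.coe_pair] at this
    exact this.trans Finset.card_le_two
  rw [Module.finrank_fintype_fun_eq_card, Fintype.card_sum, Fintype.card_fin] at h1
  omega

/-- A non-zero vector orthogonal to two non-orthogonal ones. -/
theorem exists_perp_ne (hm : 2 ≤ m) (x y : SV m) : ∃ w, sw w x = 0 ∧ sw w y = 0 ∧ w ≠ 0 := by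
  by_contra h
  push Not at h
  let L : SV m →ₗ[ZMod 2] (ZMod 2 × ZMod 2) :=
    { toFun := fun w => (sw w x, sw w y)
      map_add' := fun u v => by simp [sw_add_left]
      map_smul' := fun c v => by simp [sw_smul_left] }
  have hker : LinearMap.ker L = ⊥ := (Submodule.eq_bot_iff _).2 fun w hw => by
    have := LinearMap.mem_ker.1 hw
    simp only [L, LinearMap.coe_mk, AddHom.coe_mk, Prod.mk_eq_zero] at this
    exact h w this.1 this.2
  have h1 := L.finrank_range_add_finrank_ker
  have h2 : Module.finrank (ZMod 2) (LinearMap.range L) ≤ 2 := by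
    refine (Submodule.finrank_le _).trans ?_
    simp
  rw [hker, finrank_bot, Module.finrank_fintype_fun_eq_card, Fintype.card_sum, Fintype.card_fin] at h1
  omega

variable {G : Type*} [Group G] [Finite G] {D : Set G} {f : SP m → G} {d a : G}

/-- Next to a common neighbour, each pair of translates contains one of them. -/
theorem symp_section (X : Ctx D) (C : Co D d pop f) (hd : d ∈ D) (ha : a ∈ D) (hda : ¬ Commute d a)
    {e : SP m} (he : e ∈ Sc f a) {y y' : SP m} (hy : y ∈ Nb pop e) (h' : y'.1 = y.1 + e.1) :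
    y' ∈ Sc f a ↔ y ∉ Sc f a := by
  obtain ⟨V⟩ := exists_view X.base C hd ha hda he
  obtain ⟨r, hr, rfl⟩ := V.bij.surjOn hy
  have hr0 : r.1 + V.A.1 ≠ 0 := fun e' => ((nb_iff _ _).1 hr).1 (Subtype.ext (by
    rw [← add_two r.1 V.A.1, e', add_zero]))
  set r' : SP m := ⟨r.1 + V.A.1, hr0⟩
  have hr' : r' ∈ Nb pop V.A := by
    refine (nb_iff _ _).2 ⟨fun e' => r.2 ?_, ?_⟩
    · have := congrArg Subtype.val e'
      exact (add_eq_right.1 this)
    · show sw V.A.1 (r.1 + V.A.1) = 0
      rw [sw_add_right, ((nb_iff _ _).1 hr).2, sw_self, add_zero]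
  obtain ⟨-, htr⟩ := nb_map V.bij (fun r hr s hs => (V.τ_op X.hS C hr hs).2)
  have hy' : y' = V.τ r' := Subtype.ext (by rw [h', htr r hr r' hr' rfl])
  rw [hy', V.mem_iff X.hS hr', V.mem_iff X.hS hr, pop_eq_iff, pop_eq_iff]
  show sw V.B.1 (r.1 + V.A.1) = 0 ↔ _
  rw [sw_add_right, sw_comm V.A.1 V.B.1, (adj_iff _ _).1 V.noncomm]
  exact (by decide : ∀ z : ZMod 2, z + 1 = 0 ↔ ¬ z = 0) _

/-- The common neighbours are the vectors of norm one of a form. -/
theorem symp_shape (X : Ctx D) (hm : 2 ≤ m) (C : Co D d pop f) (hd : d ∈ D) (ha : a ∈ D)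
    (hda : ¬ Commute d a) : ∃ c : SV m, ∀ p : SP m, p ∈ Sc f a ↔ qf c p.1 = 1 := by
  let F : SV m → ZMod 2 := fun v => if h : v = 0 then 0 else if (⟨v, h⟩ : SP m) ∈ Sc f a then 1 else 0
  have hF : ∀ p : SP m, F p.1 = 1 ↔ p ∈ Sc f a := fun p => by
    simp only [F, dif_neg p.2]
    split_ifs with h <;> simpa using h
  have hF0 : F 0 = 0 := dif_pos rfl
  -- additivity on orthogonal pairs
  have flip : ∀ e y : SP m, e ∈ Sc f a → y ≠ e → sw e.1 y.1 = 0 → ∀ z : SP m, z.1 = y.1 + e.1 →
      F z.1 = F y.1 + 1 := by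
    intro e y he hne h z hz
    have hiff : F z.1 = 1 ↔ ¬ F y.1 = 1 := by
      rw [hF, hF]
      exact symp_section X C hd ha hda he ((nb_iff _ _).2 ⟨hne, h⟩) hz
    revert hiff
    generalize F z.1 = x
    generalize F y.1 = w
    revert x w
    decide
  have hperp : ∀ u v : SV m, sw u v = 0 → F (u + v) = F u + F v := by
    intro u v huv
    by_cases hu : u = 0
    · rw [hu, zero_add, hF0, zero_add]
    by_cases hv : v = 0
    · rw [hv, add_zero, hF0, add_zero]
    by_cases hne : u = v
    · rw [hne, two_add, hF0]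
      exact ((by decide : ∀ x : ZMod 2, x + x = 0) _).symm
    have huv0 : u + v ≠ 0 := fun e => hne (by rw [← add_two u v, e, add_zero])
    let U : SP m := ⟨u, hu⟩
    let V' : SP m := ⟨v, hv⟩
    let W : SP m := ⟨u + v, huv0⟩
    rcases two_cases (F u) with h1 | h1 <;> rcases two_cases (F v) with h2 | h2
    · rw [h1, h2]
      rcases two_cases (F (u + v)) with h3 | h3
      · rw [h3]; rfl
      · exfalso
        have := flip W V' ((hF W).1 h3) (fun e => hu (add_eq_right.1 (congrArg Subtype.val e).symm))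
          (by show sw (u + v) v = 0; rw [sw_add_left, huv, sw_self, add_zero]) U
          (by show u = v + (u + v); rw [add_comm u v, add_two])
        rw [show F U.1 = 0 from h1, show F V'.1 = 0 from h2] at this
        exact zero_ne_one (α := ZMod 2) (by simpa using this)
    · rw [h1, h2]
      have := flip V' U ((hF V').1 h2) (fun e => hne (congrArg Subtype.val e)) (by rw [sw_comm]; exact huv) W rfl
      rw [show F U.1 = 0 from h1] at this
      exact this
    · rw [h1, h2]
      have := flip U V' ((hF U).1 h1) (fun e => hne (congrArg Subtype.val e).symm) huv W (add_comm u v)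
      rw [show F V'.1 = 0 from h2] at this
      exact this
    · rw [h2]
      exact flip V' U ((hF V').1 h2) (fun e => hne (congrArg Subtype.val e)) (by rw [sw_comm]; exact huv) W rfl
  -- the defect on hyperbolic pairs is constant
  let K : SV m → SV m → ZMod 2 := fun x y => F (x + y) + F x + F y
  have hKs : ∀ x y, K x y = K y x := fun x y => by simp only [K]; rw [add_comm x y]; ring
  have hKz : ∀ x y z, sw z x = 0 → sw z y = 0 → K (x + z) y = K x y := by
    intro x y z hx hy
    have h1 : F (x + z + y) = F (x + y) + F z := by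
      rw [add_right_comm, hperp]; rw [sw_comm, sw_add_right, hx, hy, add_zero]
    simp only [K, h1, hperp x z (by rw [sw_comm]; exact hx)]
    exact (by decide : ∀ a b c d : ZMod 2, a + b + (c + b) + d = a + c + d) _ _ _ _
  have hKy : ∀ x y, K (x + y) y = K x y := fun x y => by
    simp only [K, add_assoc x y y, two_add, add_zero]
    ring
  have hKfix : ∀ x x' y, sw x y = 1 → sw x' y = 1 → K x y = K x' y := by
    intro x x' y h h'
    set w := x + x'
    have hwy : sw w y = 0 := by rw [sw_add_left, h, h']; rfl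
    set z := w + sw w x • y
    have hz1 : sw z x = 0 := by
      rw [sw_add_left, sw_smul_left, sw_comm x y, h, mul_one]
      exact (by decide : ∀ c : ZMod 2, c + c = 0) _
    have hz2 : sw z y = 0 := by rw [sw_add_left, hwy, sw_smul_left, sw_self, mul_zero, add_zero]
    rcases two_cases (sw w x) with hc | hc
    · have : x' = x + z := by simp only [z, hc, zero_smul, add_zero, w, add_two]
      rw [this, hKz x y z hz1 hz2]
    · have : x' = x + z + y := by
        simp only [z, hc, one_smul, w]
        rw [show x + (x + x' + y) + y = (x + x) + x' + (y + y) by abel, two_add, two_add, zero_add, add_zero]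
      rw [this, hKy, hKz x y z hz1 hz2]
  obtain ⟨κ, hκ⟩ : ∃ κ, ∀ x y, sw x y = 1 → K x y = κ := by
    by_cases hex : ∃ x y : SV m, sw x y = 1
    · obtain ⟨x₀, y₀, h₀⟩ := hex
      refine ⟨K x₀ y₀, fun x y h => ?_⟩
      have hy0 : y ≠ 0 := fun e => by rw [e, sw_zero_right] at h; exact zero_ne_one h
      have hy00 : y₀ ≠ 0 := fun e => by rw [e, sw_zero_right] at h₀; exact zero_ne_one h₀
      obtain ⟨z, h1, h2⟩ : ∃ z, sw z y = 1 ∧ sw z y₀ = 1 := by
        by_cases e : y₀ = y
        · exact ⟨x, h, e ▸ h⟩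
        · exact exists_two ⟨y, hy0⟩ ⟨y₀, hy00⟩ (fun e' => e (congrArg Subtype.val e')) 1 1
      rw [hKfix x z y h h1, hKs z y, hKfix y y₀ z (by rw [sw_comm]; exact h1) (by rw [sw_comm]; exact h2),
        hKs y₀ z, hKfix z x₀ y₀ h2 h₀]
    · push Not at hex
      exact ⟨0, fun x y h => absurd h (hex x y)⟩
  -- two non-commuting common neighbours
  have hκ1 : κ = 1 := by
    obtain ⟨e, he⟩ := X.sc_nonempty C hd ha hda
    obtain ⟨V⟩ := exists_view X.base C hd ha hda he
    obtain ⟨u, hu1, hu2, hu0⟩ := exists_perp_ne hm V.A.1 V.B.1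
    obtain ⟨v, hv1, hv2⟩ : ∃ v, (∀ x ∈ ({V.A.1, V.B.1} : Set (SV m)), sw v x = 0) ∧ sw v u = 1 := by
      obtain ⟨v, h1, h2⟩ := adjust (s := {V.A.1, V.B.1}) (v := u) (fun h => by
        have hAB := (adj_iff _ _).1 V.noncomm
        rcases mem_span_two h with h | h | h | h
        · exact hu0 h
        · rw [h, hAB] at hu2; exact one_ne_zero hu2
        · rw [h, sw_comm, hAB] at hu1; exact one_ne_zero hu1
        · rw [h, sw_add_left, sw_self, zero_add, sw_comm, hAB] at hu1; exact one_ne_zero hu1) 0 1
      exact ⟨v, fun x hx => (h1 x hx).trans (sw_zero_left x), h2⟩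
    have hv0 : v ≠ 0 := ne_zero_of_sw hv2
    have hvA := hv1 _ (Set.mem_insert _ _)
    have hvB := hv1 _ (Set.mem_insert_of_mem _ rfl)
    have hN : ∀ {w : SV m} (h : w ≠ 0), sw w V.A.1 = 0 → sw w V.B.1 = 0 →
        (⟨w, h⟩ : SP m) ∈ Nb pop V.A := by
      intro w h h1 h2
      refine (nb_iff _ _).2 ⟨fun e' => ?_, by rw [sw_comm]; exact h1⟩
      rw [show w = V.A.1 from congrArg Subtype.val e', (adj_iff _ _).1 V.noncomm] at h2
      exact one_ne_zero h2
    have hU := hN hu0 hu1 hu2
    have hV := hN hv0 hvA hvB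
    have su := (V.mem_iff X.hS hU).2 ((pop_eq_iff _ _).2 (by rw [sw_comm]; exact hu2))
    have sv := (V.mem_iff X.hS hV).2 ((pop_eq_iff _ _).2 (by rw [sw_comm]; exact hvB))
    obtain ⟨hform, -⟩ := nb_map V.bij (fun r hr s hs => (V.τ_op X.hS C hr hs).2)
    have hadj : sw (V.τ ⟨u, hu0⟩).1 (V.τ ⟨v, hv0⟩).1 = 1 := by
      rw [hform _ hU _ hV, sw_comm]; exact hv2
    have hsum := (X.sc_closed C su).2 sv
    rw [← hF, pop_of_adj hadj] at hsum
    have := hκ _ _ hadj
    simp only [K, hsum, (hF _).2 su, (hF _).2 sv] at this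
    rw [← this]; rfl
  have hquad : ∀ x y, F (x + y) = F x + F y + sw x y := by
    intro x y
    rcases two_cases (sw x y) with h | h
    · rw [h, add_zero, hperp x y h]
    · rw [h, ← hκ1, ← hκ x y h]
      exact (by decide : ∀ a b c : ZMod 2, a = b + c + (a + b + c)) _ _ _
  let φ : SV m →ₗ[ZMod 2] ZMod 2 :=
    { toFun := fun v => F v + qhyp v
      map_add' := fun x y => by
        rw [hquad, qhyp_add]
        exact (by decide : ∀ a b c d e : ZMod 2, a + b + e + (c + d + e) = a + c + (b + d)) _ _ _ _ _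
      map_smul' := fun c x => by
        rcases two_cases c with rfl | rfl <;> simp [hF0, qhyp_zero] }
  obtain ⟨c, hc⟩ := exists_sw φ
  refine ⟨c, fun p => ?_⟩
  rw [← hF, qf, hc]
  show _ ↔ qhyp p.1 + (F p.1 + qhyp p.1) = 1
  rw [(by decide : ∀ a b : ZMod 2, a + (b + a) = b)]

/-- A transvection moves one form to the other. -/
theorem qf_shift (c : SV m) (t : SP m) (v : SV m) :
    qf c (v + sw v t.1 • t.1) = qf (c + (qf c t.1 + 1) • t.1) v := by
  have h1 : qf (c + (qf c t.1 + 1) • t.1) v = qf c v + (qf c t.1 + 1) * sw v t.1 := by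
    simp only [qf, sw_add_left, sw_smul_left, sw_comm v t.1]; ring
  rw [h1, qf_add, sw_smul_right]
  rcases two_cases (sw v t.1) with h | h <;> rw [h]
  · simp [qf_zero]
  · rw [one_smul]; ring

end CfsgLib.FischerClass
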