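import Cfsg.Agent.Lib.FischerClass.UnitSpace
import Cfsg.Agent.Lib.FischerClass.OrthTwoCase
import Cfsg.Agent.Lib.FischerClass.OrthThreeBasic
import Cfsg.Agent.Lib.FischerClass.SympCase

/-!
The two small coincidences: points of the unitary space of dimension four and vectors of norm one of the
elliptic space of dimension six are points of norm one of five-dimensional spaces over three elements.
-/

set_option autoImplicit false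
set_option linter.style.haveILetI false
set_option linter.unusedSectionVars false

namespace CfsgLib.FischerClass

open Cfsg CfsgLib.Orth
open CfsgLib.HePres (K4)

/-- The form in dimension five with the last weight free. -/
noncomputable def fiveQ (c : ZMod 3) : QuadraticForm (ZMod 3) (Fin 5 → ZMod 3) :=
  QuadraticMap.weightedSumSquares (ZMod 3) (![1, 1, 1, 1, c] : Fin 5 → ZMod 3)

/-- The form, computably. -/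
def fiveF (c : ZMod 3) (v : Fin 5 → ZMod 3) : ZMod 3 :=
  v 0 * v 0 + v 1 * v 1 + v 2 * v 2 + v 3 * v 3 + c * (v 4 * v 4)

/-- Its polar, computably. -/
def fiveB (c : ZMod 3) (u v : Fin 5 → ZMod 3) : ZMod 3 :=
  2 * (u 0 * v 0 + u 1 * v 1 + u 2 * v 2 + u 3 * v 3 + c * (u 4 * v 4))

theorem fiveQ_eq (c : ZMod 3) (v : Fin 5 → ZMod 3) : fiveQ c v = fiveF c v := by
  simp [fiveQ, fiveF, QuadraticMap.weightedSumSquares_apply, Fin.sum_univ_five]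

theorem fiveB_eq (c : ZMod 3) (u v : Fin 5 → ZMod 3) :
    QuadraticMap.polar (DFunLike.coe (fiveQ c)) u v = fiveB c u v := by
  simp only [QuadraticMap.polar, fiveQ_eq, fiveF, fiveB, Pi.add_apply]
  ring

theorem fiveQ_nondeg {c : ZMod 3} (hc : c ≠ 0) : Nondeg (fiveQ c) := by
  intro v h
  have h' : ∀ i, fiveB c v (Pi.single i 1) = 0 := fun i => by rw [← fiveB_eq]; exact h _
  have key : ∀ x : ZMod 3, 2 * x = 0 → x = 0 := by decide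
  have key' : ∀ x : ZMod 3, 2 * (c * x) = 0 → x = 0 := fun x hx =>
    (mul_eq_zero.1 (key _ hx)).resolve_left hc
  funext i
  have := h' i
  fin_cases i <;> simp [fiveB] at this <;> simp <;>
    first
      | exact this
      | exact key _ (by simpa using this)
      | exact key' _ (by simpa using this)
      | exact (this.resolve_left (by decide)).resolve_left hc
      | exact this.resolve_left (by decide)

/-- Two enumerations with one table give an equivalence of the operations. -/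
theorem exists_equiv_of_table {n : ℕ} {A B : Type*} {opA : A → A → A} {opB : B → B → B}
    {α : Fin n → A} {β : Fin n → B} (T : Fin n → Fin n → Fin n) (hα : Function.Bijective α)
    (hβ : Function.Bijective β) (ha : ∀ i j, opA (α i) (α j) = α (T i j))
    (hb : ∀ i j, opB (β i) (β j) = β (T i j)) :
    ∃ σ : A ≃ B, ∀ p q, σ (opA p q) = opB (σ p) (σ q) := by
  refine ⟨(Equiv.ofBijective α hα).symm.trans (Equiv.ofBijective β hβ), fun p q => ?_⟩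
  obtain ⟨i, rfl⟩ := hα.2 p
  obtain ⟨j, rfl⟩ := hα.2 q
  have h : ∀ k, ((Equiv.ofBijective α hα).symm.trans (Equiv.ofBijective β hβ)) (α k) = β k := fun k => by
    rw [Equiv.trans_apply, show (Equiv.ofBijective α hα).symm (α k) = k from
      (Equiv.ofBijective α hα).symm_apply_apply k]
    rfl
  rw [ha, h, h, h, hb]

/-- A vector over four elements from its code. -/
def uDec (k : ℕ) : UV 4 := fun i => ⟨⟨k / 4 ^ i.1 % 4, Nat.mod_lt _ (by norm_num)⟩⟩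

/-- A vector over three elements from its code. -/
def rDec (k : ℕ) : Fin 5 → ZMod 3 := fun i => ((k / 3 ^ i.1 : ℕ) : ZMod 3)

/-- A vector over two elements from its code. -/
def oDec (k : ℕ) : (Fin 2 ⊕ Fin 2) ⊕ Fin 2 → ZMod 2 :=
  Sum.elim (Sum.elim (fun i => ((k / 2 ^ i.1 : ℕ) : ZMod 2)) (fun i => ((k / 2 ^ (2 + i.1) : ℕ) : ZMod 2)))
    (fun i => ((k / 2 ^ (4 + i.1) : ℕ) : ZMod 2))

/-- Codes of the unitary points. -/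
def uPts : List ℕ := [80, 144, 208, 68, 132, 196, 20, 36, 52, 65, 129, 193, 17, 33, 49, 5, 85, 149, 213, 101, 165, 229,
    117, 181, 245, 9, 89, 153, 217, 105, 169, 233, 121, 185, 249, 13, 93, 157, 221, 109, 173, 237, 125, 189,
    253]

/-- Codes of the corresponding points of the first form. -/
def urPts : List ℕ := [81, 120, 201, 145, 115, 103, 226, 196, 184, 208, 220, 178, 127, 139, 97, 1, 3, 228, 129, 147, 9, 156,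
    210, 237, 27, 79, 49, 235, 106, 154, 67, 223, 187, 142, 43, 40, 52, 112, 199, 193, 76, 94, 118, 175,
    70]

/-- The operation on the unitary points. -/
def uTab : List (List ℕ) := [
  [0, 2, 1, 6, 7, 8, 3, 4, 5, 12, 13, 14, 9, 10, 11, 15, 16, 19, 22, 17, 20, 23,
    18, 21, 24, 25, 26, 29, 32, 27, 30, 33, 28, 31, 34, 35, 36, 39, 42, 37, 40, 43, 38, 41,
    44],
  [2, 1, 0, 8, 6, 7, 4, 5, 3, 14, 12, 13, 10, 11, 9, 15, 23, 17, 20, 24, 18, 21,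
    22, 16, 19, 25, 33, 27, 30, 34, 28, 31, 32, 26, 29, 35, 43, 37, 40, 44, 38, 41, 42, 36,
    39],
  [1, 0, 2, 7, 8, 6, 5, 3, 4, 13, 14, 12, 11, 9, 10, 15, 21, 24, 18, 19, 22, 16,
    20, 23, 17, 25, 31, 34, 28, 29, 32, 26, 30, 33, 27, 35, 41, 44, 38, 39, 42, 36, 40, 43,
    37],
  [6, 8, 7, 3, 5, 4, 0, 2, 1, 15, 25, 35, 12, 13, 14, 9, 16, 26, 36, 19, 29, 39,
    22, 32, 42, 10, 17, 27, 37, 20, 30, 40, 23, 33, 43, 11, 18, 28, 38, 21, 31, 41, 24, 34,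
    44],
  [7, 6, 8, 5, 4, 3, 1, 0, 2, 35, 15, 25, 12, 13, 14, 10, 37, 17, 27, 40, 20, 30,
    43, 23, 33, 11, 38, 18, 28, 41, 21, 31, 44, 24, 34, 9, 36, 16, 26, 39, 19, 29, 42, 22,
    32],
  [8, 7, 6, 4, 3, 5, 2, 1, 0, 25, 35, 15, 12, 13, 14, 11, 28, 38, 18, 31, 41, 21,
    34, 44, 24, 9, 26, 36, 16, 29, 39, 19, 32, 42, 22, 10, 27, 37, 17, 30, 40, 20, 33, 43,
    23],
  [3, 4, 5, 0, 1, 2, 6, 8, 7, 9, 10, 11, 15, 25, 35, 12, 16, 17, 18, 26, 27, 28,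
    36, 37, 38, 13, 19, 20, 21, 29, 30, 31, 39, 40, 41, 14, 22, 23, 24, 32, 33, 34, 42, 43,
    44],
  [4, 5, 3, 2, 0, 1, 8, 7, 6, 9, 10, 11, 35, 15, 25, 13, 39, 40, 41, 19, 20, 21,
    29, 30, 31, 14, 42, 43, 44, 22, 23, 24, 32, 33, 34, 12, 36, 37, 38, 16, 17, 18, 26, 27,
    28],
  [5, 3, 4, 1, 2, 0, 7, 6, 8, 9, 10, 11, 25, 35, 15, 14, 32, 33, 34, 42, 43, 44,
    22, 23, 24, 12, 26, 27, 28, 36, 37, 38, 16, 17, 18, 13, 29, 30, 31, 39, 40, 41, 19, 20,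
    21],
  [12, 14, 13, 15, 35, 25, 6, 7, 8, 9, 11, 10, 0, 2, 1, 3, 16, 44, 30, 19, 38, 33,
    22, 41, 27, 5, 26, 24, 40, 29, 18, 43, 32, 21, 37, 4, 36, 34, 20, 39, 28, 23, 42, 31,
    17],
  [13, 12, 14, 25, 15, 35, 6, 7, 8, 11, 10, 9, 1, 0, 2, 4, 31, 17, 42, 34, 20, 36,
    28, 23, 39, 3, 41, 27, 22, 44, 30, 16, 38, 33, 19, 5, 21, 37, 32, 24, 40, 26, 18, 43,
    29],
  [14, 13, 12, 35, 25, 15, 6, 7, 8, 10, 9, 11, 2, 1, 0, 5, 43, 29, 18, 37, 32, 21,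
    40, 26, 24, 4, 23, 39, 28, 17, 42, 31, 20, 36, 34, 3, 33, 19, 38, 27, 22, 41, 30, 16,
    44],
  [9, 10, 11, 3, 4, 5, 15, 35, 25, 0, 1, 2, 12, 14, 13, 6, 16, 17, 18, 44, 42, 43,
    30, 31, 29, 8, 26, 27, 28, 24, 22, 23, 40, 41, 39, 7, 36, 37, 38, 34, 32, 33, 20, 21,
    19],
  [10, 11, 9, 3, 4, 5, 25, 15, 35, 2, 0, 1, 14, 13, 12, 7, 33, 34, 32, 19, 20, 21,
    38, 36, 37, 6, 43, 44, 42, 29, 30, 31, 18, 16, 17, 8, 23, 24, 22, 39, 40, 41, 28, 26,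
    27],
  [11, 9, 10, 3, 4, 5, 35, 25, 15, 1, 2, 0, 13, 12, 14, 8, 41, 39, 40, 27, 28, 26,
    22, 23, 24, 7, 21, 19, 20, 37, 38, 36, 32, 33, 34, 6, 31, 29, 30, 17, 18, 16, 42, 43,
    44],
  [0, 1, 2, 9, 10, 11, 12, 13, 14, 3, 4, 5, 6, 7, 8, 15, 16, 17, 18, 19, 20, 21,
    22, 23, 24, 35, 44, 42, 43, 38, 36, 37, 41, 39, 40, 25, 30, 31, 29, 33, 34, 32, 27, 28,
    26],
  [0, 23, 21, 3, 37, 28, 6, 39, 32, 9, 31, 43, 12, 33, 41, 15, 16, 18, 17, 22, 20, 2,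
    19, 1, 24, 40, 36, 27, 5, 29, 44, 10, 8, 13, 35, 34, 26, 4, 38, 7, 25, 14, 42, 11,
    30],
  [19, 1, 24, 26, 4, 38, 6, 40, 33, 44, 10, 29, 12, 34, 39, 15, 18, 17, 16, 0, 23, 21,
    22, 20, 2, 41, 3, 37, 28, 11, 30, 42, 35, 8, 13, 32, 36, 27, 5, 14, 7, 25, 31, 43,
    9],
  [22, 20, 2, 36, 27, 5, 6, 41, 34, 30, 42, 11, 12, 32, 40, 15, 17, 16, 18, 19, 1, 24,
    0, 23, 21, 39, 26, 4, 38, 43, 9, 31, 13, 35, 8, 33, 3, 37, 28, 25, 14, 7, 10, 29,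
    44],
  [17, 24, 2, 3, 40, 31, 26, 7, 42, 9, 34, 37, 44, 13, 27, 15, 22, 0, 18, 19, 21, 20,
    16, 23, 1, 43, 6, 14, 35, 39, 30, 5, 32, 38, 10, 28, 36, 11, 33, 29, 4, 41, 8, 25,
    12],
  [0, 18, 22, 29, 4, 41, 27, 7, 43, 38, 10, 32, 42, 13, 28, 15, 16, 23, 1, 21, 20, 19,
    2, 17, 24, 44, 35, 6, 14, 3, 40, 31, 11, 33, 36, 26, 34, 37, 9, 39, 30, 5, 12, 8,
    25],
  [23, 1, 16, 39, 30, 5, 28, 7, 44, 33, 36, 11, 43, 13, 26, 15, 2, 17, 24, 20, 19, 21,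
    22, 0, 18, 42, 14, 35, 6, 29, 4, 41, 37, 9, 34, 27, 10, 32, 38, 3, 40, 31, 25, 12,
    8],
  [18, 1, 20, 3, 43, 34, 36, 29, 8, 9, 28, 40, 30, 38, 14, 15, 19, 17, 0, 16, 2, 21,
    22, 24, 23, 37, 26, 41, 10, 7, 12, 35, 42, 33, 5, 31, 6, 25, 13, 39, 11, 27, 32, 4,
    44],
  [21, 16, 2, 32, 4, 44, 37, 30, 8, 41, 10, 26, 31, 36, 14, 15, 1, 20, 18, 19, 17, 0,
    24, 23, 22, 38, 11, 27, 39, 35, 7, 12, 3, 43, 34, 29, 13, 6, 25, 28, 40, 9, 42, 33,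
    5],
  [0, 19, 17, 42, 33, 5, 38, 31, 8, 27, 39, 11, 29, 37, 14, 15, 16, 2, 21, 1, 20, 18,
    23, 22, 24, 36, 40, 9, 28, 12, 35, 7, 32, 4, 44, 30, 25, 13, 6, 10, 26, 41, 3, 43,
    34],
  [0, 1, 2, 10, 11, 9, 13, 14, 12, 5, 3, 4, 8, 6, 7, 35, 40, 41, 39, 43, 44, 42,
    37, 38, 36, 25, 26, 27, 28, 29, 30, 31, 32, 33, 34, 15, 24, 22, 23, 18, 16, 17, 21, 19,
    20],
  [0, 33, 31, 17, 38, 5, 19, 42, 8, 9, 41, 23, 12, 43, 21, 44, 36, 3, 18, 6, 35, 14,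
    22, 11, 40, 25, 26, 28, 27, 32, 30, 2, 29, 1, 34, 20, 16, 37, 4, 39, 24, 10, 7, 13,
    15],
  [29, 1, 34, 3, 18, 36, 20, 43, 8, 24, 10, 39, 12, 44, 19, 42, 16, 37, 4, 14, 6, 35,
    41, 23, 9, 25, 28, 27, 26, 0, 33, 31, 32, 30, 2, 21, 5, 17, 38, 11, 40, 22, 15, 7,
    13],
  [32, 30, 2, 37, 4, 16, 21, 44, 8, 40, 22, 11, 12, 42, 20, 43, 5, 17, 38, 35, 14, 6,
    10, 39, 24, 25, 27, 26, 28, 29, 1, 34, 0, 33, 31, 19, 36, 3, 18, 23, 9, 41, 13, 15,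
    7],
  [27, 34, 2, 20, 41, 5, 6, 22, 36, 9, 44, 17, 24, 13, 37, 38, 16, 11, 43, 39, 3, 21,
    7, 35, 12, 25, 32, 0, 28, 29, 31, 30, 26, 33, 1, 23, 8, 14, 15, 19, 40, 4, 42, 18,
    10],
  [0, 28, 32, 3, 21, 39, 6, 23, 37, 18, 10, 42, 22, 13, 38, 36, 44, 17, 9, 19, 40, 4,
    12, 7, 35, 25, 26, 33, 1, 31, 30, 29, 2, 27, 34, 24, 15, 8, 14, 5, 20, 41, 11, 43,
    16],
  [33, 1, 26, 40, 4, 19, 6, 24, 38, 43, 16, 11, 23, 13, 36, 37, 10, 42, 18, 5, 20, 41,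
    35, 12, 7, 25, 2, 27, 34, 30, 29, 31, 32, 0, 28, 22, 14, 15, 8, 39, 3, 21, 17, 9,
    44],
  [28, 1, 30, 23, 44, 5, 39, 7, 16, 9, 38, 20, 40, 18, 14, 41, 8, 35, 13, 19, 11, 37,
    42, 3, 24, 25, 29, 27, 0, 26, 2, 31, 32, 34, 33, 17, 36, 21, 10, 6, 12, 15, 22, 43,
    4],
  [31, 26, 2, 3, 24, 42, 40, 7, 17, 21, 10, 36, 41, 16, 14, 39, 13, 8, 35, 38, 20, 9,
    22, 43, 4, 25, 1, 30, 28, 29, 27, 0, 34, 33, 32, 18, 11, 37, 19, 15, 6, 12, 5, 23,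
    44],
  [0, 29, 27, 43, 4, 22, 41, 7, 18, 37, 19, 11, 39, 17, 14, 40, 35, 13, 8, 10, 36, 21,
    5, 23, 44, 25, 26, 2, 31, 1, 30, 28, 33, 32, 34, 16, 20, 9, 38, 12, 15, 6, 42, 3,
    24],
  [0, 1, 2, 11, 9, 10, 14, 12, 13, 4, 5, 3, 7, 8, 6, 25, 34, 32, 33, 28, 26, 27,
    31, 29, 30, 15, 20, 21, 19, 23, 24, 22, 17, 18, 16, 35, 36, 37, 38, 39, 40, 41, 42, 43,
    44],
  [0, 43, 41, 18, 4, 27, 22, 7, 29, 9, 21, 33, 12, 23, 31, 30, 26, 17, 3, 19, 34, 10,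
    6, 13, 25, 24, 16, 5, 28, 8, 15, 14, 32, 11, 20, 35, 36, 38, 37, 42, 40, 2, 39, 1,
    44],
  [39, 1, 44, 28, 16, 5, 23, 7, 30, 34, 10, 19, 12, 24, 29, 31, 4, 27, 18, 11, 20, 32,
    25, 6, 13, 22, 26, 17, 3, 14, 8, 15, 21, 33, 9, 35, 38, 37, 36, 0, 43, 41, 42, 40,
    2],
  [42, 40, 2, 3, 26, 17, 24, 7, 31, 20, 32, 11, 12, 22, 30, 29, 16, 5, 28, 33, 9, 21,
    13, 25, 6, 23, 4, 27, 18, 15, 14, 8, 10, 19, 34, 35, 37, 36, 38, 39, 1, 44, 0, 43,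
    41],
  [37, 44, 2, 21, 4, 30, 32, 16, 8, 9, 24, 27, 34, 13, 17, 33, 7, 14, 25, 29, 20, 3,
    22, 28, 10, 18, 26, 11, 23, 19, 5, 31, 6, 15, 12, 35, 42, 0, 38, 39, 41, 40, 36, 43,
    1],
  [0, 38, 42, 31, 19, 5, 33, 17, 8, 28, 10, 22, 32, 13, 18, 34, 25, 7, 14, 4, 30, 21,
    11, 23, 26, 16, 24, 27, 9, 29, 20, 3, 12, 6, 15, 35, 36, 43, 1, 41, 40, 39, 2, 37,
    44],
  [43, 1, 36, 3, 29, 20, 34, 18, 8, 23, 26, 11, 33, 13, 16, 32, 14, 25, 7, 19, 5, 31,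
    27, 9, 24, 17, 10, 22, 28, 4, 30, 21, 15, 12, 6, 35, 2, 37, 44, 40, 39, 41, 42, 0,
    38],
  [38, 1, 40, 24, 4, 33, 6, 26, 19, 9, 18, 30, 20, 28, 14, 27, 16, 31, 10, 8, 12, 25,
    32, 23, 3, 21, 7, 15, 13, 29, 11, 17, 22, 5, 34, 35, 39, 37, 0, 36, 2, 41, 42, 44,
    43],
  [41, 36, 2, 34, 22, 5, 6, 27, 20, 31, 10, 16, 21, 26, 14, 28, 11, 17, 29, 25, 8, 12,
    4, 33, 24, 19, 13, 7, 15, 18, 30, 9, 32, 23, 3, 35, 1, 40, 38, 39, 37, 0, 44, 43,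
    42],
  [0, 39, 37, 3, 32, 23, 6, 28, 21, 17, 29, 11, 19, 27, 14, 26, 30, 9, 18, 12, 25, 8,
    22, 5, 34, 20, 15, 13, 7, 10, 16, 31, 4, 33, 24, 35, 36, 2, 41, 1, 40, 38, 43, 42,
    44]]

/-- Codes of the elliptic vectors. -/
def oPts : List ℕ := [32, 16, 48, 40, 24, 56, 36, 20, 52, 44, 28, 60, 34, 18, 50, 10, 38, 22, 54, 14, 33, 17,
    49, 41, 25, 57, 5, 13, 35, 19, 51, 11, 7, 47, 31, 63]

/-- Codes of the corresponding points of the second form. -/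
def orPts : List ℕ := [27, 117, 144, 9, 198, 225, 85, 49, 76, 166, 67, 40, 102, 219, 192, 93, 100, 217, 190, 91, 169, 70,
    43, 88, 52, 79, 1, 3, 172, 109, 136, 181, 183, 174, 111, 138]

/-- The operation on the elliptic vectors. -/
def oTab : List (List ℕ) := [
  [0, 2, 1, 3, 5, 4, 6, 8, 7, 9, 11, 10, 12, 14, 13, 15, 16, 18, 17, 19, 20, 22,
    21, 23, 25, 24, 26, 27, 28, 30, 29, 31, 32, 33, 35, 34],
  [2, 1, 0, 5, 4, 3, 8, 7, 6, 11, 10, 9, 14, 13, 12, 15, 18, 17, 16, 19, 22, 21,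
    20, 25, 24, 23, 26, 27, 30, 29, 28, 31, 32, 35, 34, 33],
  [1, 0, 2, 4, 3, 5, 7, 6, 8, 10, 9, 11, 13, 12, 14, 15, 17, 16, 18, 19, 21, 20,
    22, 24, 23, 25, 26, 27, 29, 28, 30, 31, 32, 34, 33, 35],
  [0, 5, 4, 3, 2, 1, 6, 11, 10, 9, 8, 7, 15, 13, 14, 12, 19, 17, 18, 16, 20, 25,
    24, 23, 22, 21, 26, 27, 31, 29, 30, 28, 33, 32, 34, 35],
  [5, 1, 3, 2, 4, 0, 11, 7, 9, 8, 10, 6, 12, 15, 14, 13, 16, 19, 18, 17, 25, 21,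
    23, 22, 24, 20, 26, 27, 28, 31, 30, 29, 34, 33, 32, 35],
  [4, 3, 2, 1, 0, 5, 10, 9, 8, 7, 6, 11, 12, 13, 15, 14, 16, 17, 19, 18, 24, 23,
    22, 21, 20, 25, 26, 27, 28, 29, 31, 30, 35, 33, 34, 32],
  [0, 8, 7, 3, 11, 10, 6, 2, 1, 9, 5, 4, 12, 18, 17, 15, 16, 14, 13, 19, 26, 21,
    22, 27, 24, 25, 20, 23, 32, 29, 30, 33, 28, 31, 34, 35],
  [8, 1, 6, 11, 4, 9, 2, 7, 0, 5, 10, 3, 18, 13, 16, 15, 14, 17, 12, 19, 20, 26,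
    22, 23, 27, 25, 21, 24, 28, 32, 30, 34, 29, 33, 31, 35],
  [7, 6, 2, 10, 9, 5, 1, 0, 8, 4, 3, 11, 17, 16, 14, 15, 13, 12, 18, 19, 20, 21,
    26, 23, 24, 27, 22, 25, 28, 29, 32, 35, 30, 33, 34, 31],
  [0, 11, 10, 3, 8, 7, 6, 5, 4, 9, 2, 1, 19, 13, 14, 16, 15, 17, 18, 12, 27, 21,
    22, 26, 24, 25, 23, 20, 28, 35, 34, 31, 32, 33, 30, 29],
  [11, 1, 9, 8, 4, 6, 5, 7, 3, 2, 10, 0, 12, 19, 14, 17, 16, 15, 18, 13, 20, 27,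
    22, 23, 26, 25, 24, 21, 35, 29, 33, 31, 32, 30, 34, 28],
  [10, 9, 2, 7, 6, 5, 4, 3, 8, 1, 0, 11, 12, 13, 19, 18, 16, 17, 15, 14, 20, 21,
    27, 23, 24, 26, 25, 22, 34, 33, 30, 31, 32, 29, 28, 35],
  [0, 14, 13, 15, 4, 5, 6, 18, 17, 19, 10, 11, 12, 2, 1, 3, 16, 8, 7, 9, 20, 30,
    29, 31, 24, 25, 26, 33, 28, 22, 21, 23, 32, 27, 34, 35],
  [14, 1, 12, 3, 15, 5, 18, 7, 16, 9, 19, 11, 2, 13, 0, 4, 8, 17, 6, 10, 30, 21,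
    28, 23, 31, 25, 26, 34, 22, 29, 20, 24, 32, 33, 27, 35],
  [13, 12, 2, 3, 4, 15, 17, 16, 8, 9, 10, 19, 1, 0, 14, 5, 7, 6, 18, 11, 29, 28,
    22, 23, 24, 31, 26, 35, 21, 20, 30, 25, 32, 33, 34, 27],
  [0, 1, 2, 12, 13, 14, 6, 7, 8, 16, 17, 18, 3, 4, 5, 15, 9, 10, 11, 19, 20, 21,
    22, 28, 29, 30, 26, 32, 23, 24, 25, 31, 27, 33, 34, 35],
  [0, 18, 17, 19, 4, 5, 6, 14, 13, 15, 10, 11, 12, 8, 7, 9, 16, 2, 1, 3, 32, 21,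
    22, 23, 35, 34, 28, 27, 26, 29, 30, 31, 20, 33, 25, 24],
  [18, 1, 16, 3, 19, 5, 14, 7, 12, 9, 15, 11, 8, 13, 6, 10, 2, 17, 0, 4, 20, 32,
    22, 35, 24, 33, 29, 27, 28, 26, 30, 31, 21, 25, 34, 23],
  [17, 16, 2, 3, 4, 19, 13, 12, 8, 9, 10, 15, 7, 6, 14, 11, 1, 0, 18, 5, 20, 21,
    32, 34, 33, 25, 30, 27, 28, 29, 26, 31, 22, 24, 23, 35],
  [0, 1, 2, 16, 17, 18, 6, 7, 8, 12, 13, 14, 9, 10, 11, 15, 3, 4, 5, 19, 33, 34,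
    35, 23, 24, 25, 31, 27, 28, 29, 30, 26, 32, 20, 21, 22],
  [0, 22, 21, 3, 25, 24, 26, 7, 8, 27, 10, 11, 12, 30, 29, 15, 32, 17, 18, 33, 20, 2,
    1, 23, 5, 4, 6, 9, 28, 14, 13, 31, 16, 19, 34, 35],
  [22, 1, 20, 25, 4, 23, 6, 26, 8, 9, 27, 11, 30, 13, 28, 15, 16, 32, 18, 34, 2, 21,
    0, 5, 24, 3, 7, 10, 14, 29, 12, 31, 17, 33, 19, 35],
  [21, 20, 2, 24, 23, 5, 6, 7, 26, 9, 10, 27, 29, 28, 14, 15, 16, 17, 32, 35, 1, 0,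
    22, 4, 3, 25, 8, 11, 13, 12, 30, 31, 18, 33, 34, 19],
  [0, 25, 24, 3, 22, 21, 27, 7, 8, 26, 10, 11, 31, 13, 14, 28, 16, 35, 34, 19, 20, 5,
    4, 23, 2, 1, 9, 6, 15, 29, 30, 12, 32, 33, 18, 17],
  [25, 1, 23, 22, 4, 20, 6, 27, 8, 9, 26, 11, 12, 31, 14, 29, 35, 17, 33, 19, 5, 21,
    3, 2, 24, 0, 10, 7, 28, 15, 30, 13, 32, 18, 34, 16],
  [24, 23, 2, 21, 20, 5, 6, 7, 27, 9, 10, 26, 12, 13, 31, 30, 34, 33, 18, 19, 4, 3,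
    22, 1, 0, 25, 11, 8, 28, 29, 15, 14, 32, 17, 16, 35],
  [0, 1, 2, 3, 4, 5, 20, 21, 22, 23, 24, 25, 12, 13, 14, 15, 28, 29, 30, 31, 6, 7,
    8, 9, 10, 11, 26, 27, 16, 17, 18, 19, 32, 33, 34, 35],
  [0, 1, 2, 3, 4, 5, 23, 24, 25, 20, 21, 22, 33, 34, 35, 32, 16, 17, 18, 19, 9, 10,
    11, 6, 7, 8, 26, 27, 28, 29, 30, 31, 15, 12, 13, 14],
  [0, 30, 29, 31, 4, 5, 32, 7, 8, 9, 35, 34, 12, 22, 21, 23, 26, 17, 18, 19, 20, 14,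
    13, 15, 24, 25, 16, 27, 28, 2, 1, 3, 6, 33, 11, 10],
  [30, 1, 28, 3, 31, 5, 6, 32, 8, 35, 10, 33, 22, 13, 20, 24, 16, 26, 18, 19, 14, 21,
    12, 23, 15, 25, 17, 27, 2, 29, 0, 4, 7, 11, 34, 9],
  [29, 28, 2, 3, 4, 31, 6, 7, 32, 34, 33, 11, 21, 20, 14, 25, 16, 17, 26, 19, 13, 12,
    22, 23, 24, 15, 18, 27, 1, 0, 30, 5, 8, 10, 9, 35],
  [0, 1, 2, 28, 29, 30, 33, 34, 35, 9, 10, 11, 23, 24, 25, 15, 16, 17, 18, 26, 20, 21,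
    22, 12, 13, 14, 19, 27, 3, 4, 5, 31, 32, 6, 7, 8],
  [0, 1, 2, 33, 34, 35, 28, 29, 30, 9, 10, 11, 12, 13, 14, 27, 20, 21, 22, 19, 16, 17,
    18, 23, 24, 25, 26, 15, 6, 7, 8, 31, 32, 3, 4, 5],
  [0, 35, 34, 32, 4, 5, 31, 7, 8, 9, 30, 29, 27, 13, 14, 15, 16, 25, 24, 20, 19, 21,
    22, 23, 18, 17, 26, 12, 28, 11, 10, 6, 3, 33, 2, 1],
  [35, 1, 33, 3, 32, 5, 6, 31, 8, 30, 10, 28, 12, 27, 14, 15, 25, 17, 23, 21, 20, 19,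
    22, 18, 24, 16, 26, 13, 11, 29, 9, 7, 4, 2, 34, 0],
  [34, 33, 2, 3, 4, 32, 6, 7, 31, 29, 28, 11, 12, 13, 27, 15, 24, 23, 18, 22, 20, 21,
    19, 17, 16, 25, 26, 14, 10, 9, 30, 8, 5, 1, 0, 35]]

end CfsgLib.FischerClass
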