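import Cfsg.Agent.Lib.FischerClass.Stabiliser

/-!
Uniqueness: two primitive classes with the same coordinates at a member, the same common neighbours
of a non-commuting pair and compatible coordinates at one of them are isomorphic.
-/

set_option autoImplicit false
set_option linter.unusedSectionVars false

namespace CfsgLib.FischerClass

open Cfsg
open CfsgLib.ThreeTransp CfsgLib.ThreeTransp.Relations

/-- What is needed of the coordinate space. -/
structure Space {P : Type*} (op : P → P → P) : Prop where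
  dense : Dense op
  gen : ∀ A B, Adj op A B → ∀ T : Set P, (∀ u ∈ T, ∀ v ∈ T, op u v ∈ T) → Nb op A ⊆ T → A ∈ T →
    B ∈ T → T = Set.univ
  fib : ∀ A B B', Adj op A B → Adj op A B' → (∀ r ∈ Nb op A, (op B r = r ↔ op B' r = r)) →
    B' = B ∨ B' = op A B

/-- Three pairwise commuting points outside `T` whose product preserves `T`. -/
structure IsTriple {P : Type*} (op : P → P → P) (T : Set P) (p q r : P) : Prop where
  pq : q ∈ Nb op p
  pr : r ∈ Nb op p
  qr : r ∈ Nb op q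
  out : p ∉ T ∧ q ∉ T ∧ r ∉ T
  maps : ∀ u ∈ T, op p (op q (op r u)) ∈ T

/-- A step inside `T`: to an adjacent point, or along a triple. -/
def Link {P : Type*} (op : P → P → P) (T : Set P) (u v : P) : Prop :=
  u ∈ T ∧ v ∈ T ∧ (Adj op u v ∨ ∃ p q r, IsTriple op T p q r ∧ op p (op q (op r u)) = v)

/-- The product of three pairwise commuting members, none commuting with `a`, moves `a`. -/
theorem triple_moves {G : Type*} [Group G] {D : Set G} (hS : IsThreeTranspositionSet D)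
    (hc : IsConjClosed D) {a p q r : G}
    (ha : a ∈ D) (hp : p ∈ D) (hq : q ∈ D) (hr : r ∈ D) (hne : p ≠ r) (hpq : Commute p q)
    (hpr : Commute p r) (hqr : Commute q r) (hpa : ¬ Commute a p) (hra : ¬ Commute a r) :
    p * q * r * a * (p * q * r)⁻¹ ≠ a := by
  intro h
  set z := r * a * r with hz
  have h1 : p * a * p = q * z * q := by
    have hinv : (p * q * r)⁻¹ = r * q * p := by
      rw [mul_inv_rev, mul_inv_rev, inv_eq_self hS hp, inv_eq_self hS hq, inv_eq_self hS hr]; group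
    rw [hinv] at h
    calc p * a * p = p * (p * q * r * a * (r * q * p)) * p := by rw [h]
      _ = (p * p) * (q * z * q) * (p * p) := by rw [hz]; group
      _ = q * z * q := by rw [mul_self_eq_one hS hp]; group
  have hzy : Commute z (q * z * q) := by
    rw [← h1, hz, ThreeTransp.braid hS hr ha fun c => hra c.symm,
      ThreeTransp.braid hS hp ha fun c => hpa c.symm]
    exact (commute_conj_iff hS ha r p).2 hpr.symm
  have hzD : z ∈ D := conj_mem hS hc hr ha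
  by_cases hqz : Commute q z
  · rw [conj_eq_of_commute hS hq hqz, hz, ThreeTransp.braid hS hr ha fun c => hra c.symm,
      ThreeTransp.braid hS hp ha fun c => hpa c.symm] at h1
    exact hne (mul_left_cancel (mul_right_cancel h1))
  · rw [ThreeTransp.braid hS hq hzD hqz] at hzy
    have := (commute_conj_iff hS hzD z q).1 (by
      rwa [mul_self_eq_one hS hzD, one_mul])
    exact hqz this.symm

variable {G H : Type*} [Group G] [Finite G] [Group H] [Finite H] {P : Type*}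
  (D : Set G) (E : Set H) (op : P → P → P)

/-- Two pairs with the same picture. -/
structure Match where
  d : G
  a : G
  d' : H
  a' : H
  f : P → G
  f' : P → H
  e : P
  fe : P → G
  fe' : P → H
  A : P
  B : P
  X : Ctx D
  Y : Base E
  S : Space op
  hd : d ∈ D
  ha : a ∈ D
  hd' : d' ∈ E
  ha' : a' ∈ E
  hda : ¬ Commute d a
  hda' : ¬ Commute d' a'
  C : Co D d op f
  C' : Co E d' op f'
  hSc : Sc f a = Sc f' a'
  he : e ∈ Sc f a
  conn : ∀ p ∈ Sc f a, Relation.ReflTransGen (Link op (Sc f a)) p e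
  Ce : Co D (f e) op fe
  Ce' : Co E (f' e) op fe'
  feA : fe A = d
  feA' : fe' A = d'
  feB : fe B = a
  feB' : fe' B = a'
  compat : ∀ r ∈ Nb op A, ∃ q, fe r = f q ∧ fe' r = f' q
  witness : ∀ v ∈ E, ¬ Commute d' v → v = a' ∨ v = d' * a' * d' ∨ (∃ p, v = f' p * a' * f' p) ∨
    ∃ p t, v = f' t * (f' p * a' * f' p) * f' t

omit [Finite G] in
/-- An element commuting with the centre point acts on the coordinates. -/
theorem Co.exists_perm {D : Set G} {op : P → P → P} {f : P → G} {d : G} (C : Co D d op f)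
    (hc : IsConjClosed D) {g : G} (hg : Commute g d) :
    ∃ σ : P → P, (∀ r, g * f r * g⁻¹ = f (σ r)) ∧ Function.Injective σ ∧
      ∀ r s, σ (op r s) = op (σ r) (σ s) := by
  have h : ∀ r, ∃ q, f q = g * f r * g⁻¹ := fun r => C.exists_pt (conj_mem_nbr hc hg (C.mem r))
  choose σ hσ using h
  refine ⟨σ, fun r => (hσ r).symm, fun r s e => C.inj ?_, fun r s => C.inj ?_⟩
  · have := hσ r
    rw [e, hσ s] at this
    exact (mul_left_cancel (mul_right_cancel this)).symm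
  · rw [hσ, C.conj, C.conj, hσ r, hσ s]; group

theorem moved_iff {G : Type*} [Group G] (k l x y : G) :
    k * x * k⁻¹ = l * y * l⁻¹ ↔ l⁻¹ * k * x * (l⁻¹ * k)⁻¹ = y := by
  constructor
  · intro h
    calc l⁻¹ * k * x * (l⁻¹ * k)⁻¹ = l⁻¹ * (k * x * k⁻¹) * l := by group
      _ = y := by rw [h]; group
  · rintro rfl; group

theorem conj_dist {G : Type*} [Group G] (m d a : G) (h : Commute m d) :
    m * (d * a * d) * m⁻¹ = d * (m * a * m⁻¹) * d := by
  calc m * (d * a * d) * m⁻¹ = (m * d) * a * (d * m⁻¹) := by group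
    _ = (d * m) * a * (m⁻¹ * d) := by rw [h.eq, h.inv_left.eq]
    _ = _ := by group

theorem flip_eq_iff {G : Type*} [Group G] {d : G} (x y : G) (h : d * d = 1) :
    d * x * d = y ↔ x = d * y * d := by
  have h2 : ∀ z, d * (d * z * d) * d = z := fun z => by
    rw [show d * (d * z * d) * d = (d * d) * z * (d * d) by group, h, one_mul, mul_one]
  constructor <;> rintro rfl <;> rw [h2]

theorem flip_inj {G : Type*} [Group G] (d x y : G) : d * x * d = d * y * d ↔ x = y :=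
  ⟨fun h => mul_left_cancel (mul_right_cancel h), fun h => by rw [h]⟩

namespace Match

variable {D E op} (M : Match D E op)

/-- The paired coordinates. -/
def pr (p : P) : G × H := (M.f p, M.f' p)

/-- The paired centres. -/
def dd : G × H := (M.d, M.d')

/-- The paired outer members. -/
def aa : G × H := (M.a, M.a')

theorem finiteP (M : Match D E op) : Finite P := Finite.of_injective M.f M.C.inj

theorem lifts : Lifts op M.pr where
  inj _ _ h := M.C.inj (congrArg Prod.fst h)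
  sq p := Prod.ext (mul_self_eq_one M.X.hS (M.C.mem p).1) (mul_self_eq_one M.Y.hS (M.C'.mem p).1)
  conj p q := Prod.ext (M.C.conj p q) (M.C'.conj p q)
  braid p q h := Prod.ext
    (ThreeTransp.braid M.X.hS (M.C.mem p).1 (M.C.mem q).1 fun c => h ((M.C.com_iff M.X.hS p q).1 c))
    (ThreeTransp.braid M.Y.hS (M.C'.mem p).1 (M.C'.mem q).1 fun c => h ((M.C'.com_iff M.Y.hS p q).1 c))

theorem dd_comm (p : P) : Commute M.dd (M.pr p) :=
  Prod.ext (M.C.mem p).2.2.eq (M.C'.mem p).2.2.eq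

/-- The group of the paired coordinates. -/
abbrev K : Subgroup (G × H) := Subgroup.closure (Set.range M.pr)

theorem K_comm {k : G × H} (hk : k ∈ M.K) : Commute k M.dd :=
  Subgroup.mem_centralizer_singleton_iff.1 ((Subgroup.closure_le _).2 (by
    rintro _ ⟨p, rfl⟩
    exact Subgroup.mem_centralizer_singleton_iff.2 (M.dd_comm p).eq.symm) hk)

theorem K_d {k : G × H} (hk : k ∈ M.K) : Commute k.1 M.d ∧ Commute k.2 M.d' :=
  ⟨congrArg Prod.fst (M.K_comm hk).eq, congrArg Prod.snd (M.K_comm hk).eq⟩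

theorem moves {k : G × H} (hk : k ∈ M.K) (p : P) : ∃ q, k * M.pr p * k⁻¹ = M.pr q :=
  haveI := M.finiteP
  M.lifts.perm_of_closure hk p

theorem exists_q {r : P} (hr : r ∈ Nb op M.A) : ∃ q, M.fe r = M.f q ∧ M.fe' r = M.f' q :=
  M.compat r hr

theorem mem_nb_of_fe {r : P} (h : M.fe r ∈ nbr D M.d) : r ∈ Nb op M.A := by
  rw [← M.feA] at h
  exact (M.Ce.nb_iff M.X.hS _ _).2 h

theorem nb_preserved {k : G × H} (hkd : Commute k.1 M.d) {σ : P → P}
    (hσ : ∀ r, k.1 * M.fe r * k.1⁻¹ = M.fe (σ r)) {r : P} (hr : r ∈ Nb op M.A) : σ r ∈ Nb op M.A := by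
  refine M.mem_nb_of_fe ?_
  rw [← hσ]
  refine conj_mem_nbr M.X.hc hkd ?_
  have := (M.Ce.nb_iff M.X.hS M.A r).1 hr
  rwa [M.feA] at this

theorem sync_fix {k : G × H} (hk : k ∈ stabGen op M.pr ∅ M.e) : ∃ σ : P → P,
    ∀ r, k.1 * M.fe r * k.1⁻¹ = M.fe (σ r) ∧ k.2 * M.fe' r * k.2⁻¹ = M.fe' (σ r) := by
  induction hk using Subgroup.closure_induction with
  | mem k hk =>
    rcases hk with ((⟨q, hq, rfl⟩ | hk) | hk) | ⟨hcl, hfix, j, hj⟩
    · have h1 : M.f q ∈ nbr D (M.f M.e) := (M.C.nb_iff M.X.hS _ _).1 hq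
      obtain ⟨r₀, hr₀⟩ := M.Ce.exists_pt h1
      have hr : r₀ ∈ Nb op M.A := M.mem_nb_of_fe (by rw [hr₀]; exact M.C.mem q)
      obtain ⟨q', e1, e2⟩ := M.exists_q hr
      obtain rfl : q' = q := M.C.inj (by rw [← e1, hr₀])
      refine ⟨op r₀, fun r => ⟨?_, ?_⟩⟩
      · rw [M.Ce.conj, hr₀]
        show M.f q' * M.fe r * (M.f q')⁻¹ = _
        rw [inv_eq_self M.X.hS (M.C.mem q').1]
      · rw [M.Ce'.conj, e2]
        show M.f' q' * M.fe' r * (M.f' q')⁻¹ = _
        rw [inv_eq_self M.Y.hS (M.C'.mem q').1]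
    · rw [Set.mem_singleton_iff.1 hk]
      refine ⟨id, fun r => ⟨?_, ?_⟩⟩
      · show M.f M.e * M.fe r * (M.f M.e)⁻¹ = _
        rw [(M.Ce.mem r).2.2.eq, mul_inv_cancel_right]; rfl
      · show M.f' M.e * M.fe' r * (M.f' M.e)⁻¹ = _
        rw [(M.Ce'.mem r).2.2.eq, mul_inv_cancel_right]; rfl
    · exact hk.elim
    · have he1 : Commute k.1 (M.f M.e) := mul_inv_eq_iff_eq_mul.1 (congrArg Prod.fst hfix)
      have he2 : Commute k.2 (M.f' M.e) := mul_inv_eq_iff_eq_mul.1 (congrArg Prod.snd hfix)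
      obtain ⟨σ, hσ, -, hσop⟩ := M.Ce.exists_perm M.X.hc he1
      obtain ⟨τ, hτ, hτi, hτop⟩ := M.Ce'.exists_perm M.Y.hc he2
      have hkd := M.K_d hcl
      have hA : σ M.A = M.A ∧ τ M.A = M.A := by
        constructor
        · refine M.Ce.inj ?_
          rw [← hσ, M.feA, hkd.1.eq, mul_inv_cancel_right]
        · refine M.Ce'.inj ?_
          rw [← hτ, M.feA', hkd.2.eq, mul_inv_cancel_right]
      have hnb : ∀ r ∈ Nb op M.A, τ r = σ r := by
        intro r hr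
        have hσr := M.nb_preserved hkd.1 hσ hr
        obtain ⟨q, e1, e2⟩ := M.exists_q hr
        obtain ⟨q', e1', e2'⟩ := M.exists_q hσr
        obtain ⟨q'', hq''⟩ := M.moves hcl q
        have h1 : k.1 * M.f q * k.1⁻¹ = M.f q'' := congrArg Prod.fst hq''
        have h2 : k.2 * M.f' q * k.2⁻¹ = M.f' q'' := congrArg Prod.snd hq''
        obtain rfl : q'' = q' := M.C.inj (by rw [← h1, ← e1, hσ, e1'])
        exact M.Ce'.inj (by rw [← hτ, e2, h2, e2'])
      have hadjB : Adj op M.A M.B := fun h => M.hda (by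
        rw [← M.feA, ← M.feB]; exact (M.Ce.com_iff M.X.hS _ _).2 h)
      -- equal maps on a generating set are equal
      have heq : ∀ ρ : P → P, (∀ r s, ρ (op r s) = op (ρ r) (ρ s)) →
          (∀ r ∈ Nb op M.A, τ r = ρ r) → τ M.A = ρ M.A → τ M.B = ρ M.B → τ = ρ := by
        intro ρ hρ h1 h2 h3
        have hT : {r | τ r = ρ r} = Set.univ := M.S.gen M.A M.B hadjB _
          (fun u hu v hv => by show τ (op u v) = ρ (op u v); rw [hτop, hρ, hu, hv]) h1 h2 h3
        funext r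
        exact hT.ge (Set.mem_univ r)
      have hadjσ : Adj op M.A (σ M.B) := fun h => hadjB (M.Ce.inj (by
        have h4 : σ (op M.A M.B) = σ M.B := by rw [hσop, hA.1, h]
        have h5 := (hσ (op M.A M.B)).trans ((congrArg M.fe h4).trans (hσ M.B).symm)
        exact mul_left_cancel (mul_right_cancel h5)))
      have hadjτ : Adj op M.A (τ M.B) := fun h => hadjB (hτi (by rw [hτop, hA.2, h]))
      have hsec : ∀ r ∈ Nb op M.A, (op (σ M.B) r = r ↔ op (τ M.B) r = r) := by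
        intro r hr
        have hfin := M.finiteP
        have hσi : Function.Injective σ := fun u v h => M.Ce.inj (by
          have := (hσ u).trans ((congrArg M.fe h).trans (hσ v).symm)
          exact mul_left_cancel (mul_right_cancel this))
        obtain ⟨s, hs⟩ := Finite.surjective_of_injective hσi r
        have hsN : s ∈ Nb op M.A := by
          refine ⟨fun e => hr.1 (by rw [← hs, e, hA.1]), hσi ?_⟩
          rw [hσop, hA.1, hs, hr.2]
        rw [← hs, ← hσop, hσi.eq_iff, ← hnb s hsN, ← hτop, hτi.eq_iff]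
      rcases M.S.fib M.A (σ M.B) (τ M.B) hadjσ hadjτ hsec with h | h
      · have := heq σ hσop hnb (hA.2.trans hA.1.symm) h
        exact ⟨σ, fun r => ⟨hσ r, by rw [hτ, this]⟩⟩
      · exfalso
        have hτeq : τ = op M.A ∘ σ := by
          refine heq _ (fun r s => by
            rw [Function.comp, Function.comp, Function.comp, hσop]
            exact M.Ce.op_dist M.X.hS _ _ _) (fun r hr => ?_) ?_ h
          · rw [hnb r hr, Function.comp, (M.nb_preserved hkd.1 hσ hr).2]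
          · rw [Function.comp, hA.1, hA.2, M.Ce.op_self M.X.hS]
        have hcomm : Function.Commute (op M.A) σ := fun r => by rw [hσop, hA.1]
        have hσN : σ^[3 ^ j] = id := by
          have : ∀ n r, (k.1 ^ n) * M.fe r * (k.1 ^ n)⁻¹ = M.fe (σ^[n] r) := by
            intro n
            induction n with
            | zero => simp
            | succ n ih =>
              intro r
              rw [Function.iterate_succ_apply', ← hσ, ← ih]; simp [pow_succ', mul_assoc]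
          funext r
          refine M.Ce.inj ?_
          rw [← this, show k.1 ^ 3 ^ j = 1 from congrArg Prod.fst hj]; simp
        have hτN : τ^[3 ^ j] = id := by
          have : ∀ n r, (k.2 ^ n) * M.fe' r * (k.2 ^ n)⁻¹ = M.fe' (τ^[n] r) := by
            intro n
            induction n with
            | zero => simp
            | succ n ih =>
              intro r
              rw [Function.iterate_succ_apply', ← hτ, ← ih]; simp [pow_succ', mul_assoc]
          funext r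
          refine M.Ce'.inj ?_
          rw [← this, show k.2 ^ 3 ^ j = 1 from congrArg Prod.snd hj]; simp
        rw [hτeq, hcomm.comp_iterate, hσN, Function.comp_id] at hτN
        have hinv : Function.Involutive (op M.A) := M.Ce.op_op M.X.hS M.A
        rw [hinv.iterate_odd (Odd.pow (by decide))] at hτN
        exact hadjB (congrFun hτN M.B)
  | one => exact ⟨id, fun r => ⟨by simp, by simp⟩⟩
  | mul u v _ _ hu hv =>
    obtain ⟨σ, hσ⟩ := hu
    obtain ⟨τ, hτ⟩ := hv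
    exact ⟨σ ∘ τ, fun r => ⟨by
      show (u.1 * v.1) * M.fe r * (u.1 * v.1)⁻¹ = M.fe (σ (τ r))
      rw [← (hσ _).1, ← (hτ r).1]; group, by
      show (u.2 * v.2) * M.fe' r * (u.2 * v.2)⁻¹ = M.fe' (σ (τ r))
      rw [← (hσ _).2, ← (hτ r).2]; group⟩⟩
  | inv u _ hu =>
    obtain ⟨σ, hσ⟩ := hu
    have hσi : Function.Injective σ := fun r s h => M.Ce.inj (by
      have := ((hσ r).1).trans ((congrArg M.fe h).trans (hσ s).1.symm)
      exact mul_left_cancel (mul_right_cancel this))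
    haveI := M.finiteP
    choose ρ hρ using Finite.surjective_of_injective hσi
    refine ⟨ρ, fun r => ⟨?_, ?_⟩⟩
    · show u.1⁻¹ * M.fe r * u.1⁻¹⁻¹ = _
      conv_lhs => rw [← hρ r, ← (hσ _).1]
      group
    · show u.2⁻¹ * M.fe' r * u.2⁻¹⁻¹ = _
      conv_lhs => rw [← hρ r, ← (hσ _).2]
      group

theorem fe_B_noncomm : Adj op M.A M.B := fun h => M.hda (by
  rw [← M.feA, ← M.feB]; exact (M.Ce.com_iff M.X.hS _ _).2 h)

omit [Finite G] [Finite H] in
/-- The members with the same common neighbours as the given one. -/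
theorem fibre_aux {G : Type*} [Group G] {D : Set G} {P : Type*} {op : P → P → P} (S : Space op)
    (hS3 : IsThreeTranspositionSet D) {d a b : G} {f fe : P → G} {e A B : P} (C : Co D d op f) (Ce : Co D (f e) op fe)
    (feA : fe A = d) (feB : fe B = a) (hda : ¬ Commute d a) (hb : b ∈ D) (hdb : ¬ Commute d b)
    (he : e ∈ Sc f a) (hS : Sc f b = Sc f a) : b = a ∨ b = d * a * d := by
  have hbe : b ∈ nbr D (f e) := ⟨hb, fun h => hdb (by rw [h]; exact (C.mem e).2.2),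
    ((hS ▸ he : e ∈ Sc f b) : Commute b (f e)).symm⟩
  obtain ⟨B', hB'⟩ := Ce.exists_pt hbe
  have h1 : Adj op A B := fun h => hda (by rw [← feA, ← feB]; exact (Ce.com_iff hS3 _ _).2 h)
  have h2 : Adj op A B' := fun h => hdb (by rw [← feA, ← hB']; exact (Ce.com_iff hS3 _ _).2 h)
  have key : ∀ r ∈ Nb op A, (op B r = r ↔ op B' r = r) := by
    intro r hr
    have hr' : fe r ∈ nbr D d := feA ▸ (Ce.nb_iff hS3 A r).1 hr
    obtain ⟨q, hq⟩ := C.exists_pt hr'
    rw [← Ce.com_iff hS3, ← Ce.com_iff hS3, feB, hB', ← hq]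
    exact (Set.ext_iff.1 hS q).symm
  rcases S.fib A B B' h1 h2 key with h | h
  · exact Or.inl (by rw [← hB', h, feB])
  · exact Or.inr (by rw [← hB', h, Ce.conj, feA, feB])

theorem a_ne : M.d * M.a * M.d ≠ M.a := fun h =>
  M.hda (commute_of_conj_eq M.X.hS M.hd h)

theorem a_ne' : M.d' * M.a' * M.d' ≠ M.a' := fun h =>
  M.hda' (commute_of_conj_eq M.Y.hS M.hd' h)

theorem conj_sc_G {k : G × H} {p q : P} (h : k * M.pr p * k⁻¹ = M.pr q) (b : G) :
    q ∈ Sc M.f (k.1 * b * k.1⁻¹) ↔ p ∈ Sc M.f b := by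
  show Commute _ (M.f q) ↔ _
  rw [← show k.1 * M.f p * k.1⁻¹ = M.f q from congrArg Prod.fst h, commute_conjBy]
  exact Iff.rfl

theorem conj_sc_H {k : G × H} {p q : P} (h : k * M.pr p * k⁻¹ = M.pr q) (b : H) :
    q ∈ Sc M.f' (k.2 * b * k.2⁻¹) ↔ p ∈ Sc M.f' b := by
  show Commute _ (M.f' q) ↔ _
  rw [← show k.2 * M.f' p * k.2⁻¹ = M.f' q from congrArg Prod.snd h, commute_conjBy]
  exact Iff.rfl

theorem sc_dad : Sc M.f (M.d * M.a * M.d) = Sc M.f M.a := by
  ext p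
  show Commute _ _ ↔ Commute _ _
  have := commute_conj_iff M.X.hS M.hd M.a (M.f p)
  rwa [conj_eq_of_commute M.X.hS M.hd (M.C.mem p).2.2] at this

theorem sc_dad' : Sc M.f' (M.d' * M.a' * M.d') = Sc M.f' M.a' := by
  ext p
  show Commute _ _ ↔ Commute _ _
  have := commute_conj_iff M.Y.hS M.hd' M.a' (M.f' p)
  rwa [conj_eq_of_commute M.Y.hS M.hd' (M.C'.mem p).2.2] at this

/-- The elements of the paired group stabilising the common neighbours. -/
def Stab (k : G × H) : Prop :=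
  k ∈ M.K ∧ ∀ p q, k * M.pr p * k⁻¹ = M.pr q → (p ∈ Sc M.f M.a ↔ q ∈ Sc M.f M.a)

/-- The stabilising elements agreeing on the two outer members. -/
def Syn (k : G × H) : Prop :=
  M.Stab k ∧ (k.1 * M.a * k.1⁻¹ = M.a ↔ k.2 * M.a' * k.2⁻¹ = M.a')

theorem stab_one : M.Stab 1 := ⟨one_mem _, fun p q h => by
  rw [one_mul, inv_one, mul_one] at h
  rw [M.lifts.inj h]⟩

theorem stab_mul {u v : G × H} (hu : M.Stab u) (hv : M.Stab v) : M.Stab (u * v) :=
  ⟨mul_mem hu.1 hv.1, fun p q h => by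
    obtain ⟨r, hr⟩ := M.moves hv.1 p
    refine (hv.2 p r hr).trans (hu.2 r q ?_)
    rw [← h, ← hr]; group⟩

theorem stab_image {k : G × H} (h : M.Stab k) :
    (k.1 * M.a * k.1⁻¹ = M.a ∨ k.1 * M.a * k.1⁻¹ = M.d * M.a * M.d) ∧
      (k.2 * M.a' * k.2⁻¹ = M.a' ∨ k.2 * M.a' * k.2⁻¹ = M.d' * M.a' * M.d') := by
  obtain ⟨hk, hS⟩ := h
  constructor
  · refine fibre_aux M.S M.X.hS M.C M.Ce M.feA M.feB M.hda (M.X.hc _ _ M.ha) (fun h => M.hda ?_) M.he ?_
    · have h' : Commute (k.1 * M.d * k.1⁻¹) (k.1 * M.a * k.1⁻¹) := by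
        rwa [(M.K_d hk).1.eq, mul_inv_cancel_right]
      exact (commute_conjBy _ _ _).1 h'
    · ext q
      obtain ⟨p, hp⟩ := M.moves (inv_mem hk) q
      have hp' : k * M.pr p * k⁻¹ = M.pr q := by rw [← hp]; group
      rw [M.conj_sc_G hp' M.a, hS p q hp']
  · refine fibre_aux M.S M.Y.hS M.C' M.Ce' M.feA' M.feB' M.hda' (M.Y.hc _ _ M.ha') (fun h => M.hda' ?_)
      (M.hSc ▸ M.he) ?_
    · have h' : Commute (k.2 * M.d' * k.2⁻¹) (k.2 * M.a' * k.2⁻¹) := by
        rwa [(M.K_d hk).2.eq, mul_inv_cancel_right]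
      exact (commute_conjBy _ _ _).1 h'
    · ext q
      obtain ⟨p, hp⟩ := M.moves (inv_mem hk) q
      have hp' : k * M.pr p * k⁻¹ = M.pr q := by rw [← hp]; group
      rw [M.conj_sc_H hp' M.a', ← M.hSc, hS p q hp']

theorem syn_mul {u v : G × H} (hu : M.Syn u) (hv : M.Syn v) : M.Syn (u * v) := by
  refine ⟨M.stab_mul hu.1 hv.1, ?_⟩
  obtain ⟨u1, u2⟩ := M.stab_image hu.1
  have cu1 := (M.K_d hu.1.1).1
  have cu2 := (M.K_d hu.1.1).2
  have e1 : ∀ x, (u * v).1 * x * (u * v).1⁻¹ = u.1 * (v.1 * x * v.1⁻¹) * u.1⁻¹ := fun x => by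
    simp only [Prod.fst_mul]; group
  have e2 : ∀ x, (u * v).2 * x * (u * v).2⁻¹ = u.2 * (v.2 * x * v.2⁻¹) * u.2⁻¹ := fun x => by
    simp only [Prod.snd_mul]; group
  rw [e1, e2]
  by_cases h : v.1 * M.a * v.1⁻¹ = M.a
  · rw [h, hv.2.1 h]; exact hu.2
  · rw [(M.stab_image hv.1).1.resolve_left h, (M.stab_image hv.1).2.resolve_left fun h' => h (hv.2.2 h'),
      conj_dist _ _ _ cu1, conj_dist _ _ _ cu2]
    rw [flip_eq_iff _ _ (mul_self_eq_one M.X.hS M.hd), flip_eq_iff _ _ (mul_self_eq_one M.Y.hS M.hd')]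
    exact ⟨fun e => u2.resolve_left fun e' => M.a_ne ((hu.2.2 e').symm.trans e).symm,
      fun e => u1.resolve_left fun e' => M.a_ne' ((hu.2.1 e').symm.trans e).symm⟩

theorem fixes_of_mem {p : P} (hp : p ∈ Sc M.f M.a) :
    Commute (M.pr p).1 M.a ∧ Commute (M.pr p).2 M.a' :=
  have hp' : p ∈ Sc M.f' M.a' := M.hSc ▸ hp
  ⟨(hp : Commute M.a (M.f p)).symm, (hp' : Commute M.a' (M.f' p)).symm⟩

/-- The common neighbours of the outer member are closed. -/
theorem sc_op {p q : P} (hp : p ∈ Sc M.f M.a) : op p q ∈ Sc M.f M.a ↔ q ∈ Sc M.f M.a := by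
  show Commute M.a (M.f (op p q)) ↔ Commute M.a (M.f q)
  rw [M.C.conj]
  conv_lhs => rw [← conj_eq_of_commute M.X.hS (M.C.mem p).1 (hp : Commute M.a (M.f p)).symm]
  exact commute_conj_iff M.X.hS (M.C.mem p).1 _ _

theorem syn_point {p : P} (hp : p ∈ Sc M.f M.a) : M.Syn (M.pr p) := by
  refine ⟨⟨Subgroup.subset_closure ⟨p, rfl⟩, fun u v h => ?_⟩, ?_⟩
  · rw [M.lifts.inv, ← M.lifts.conj] at h
    rw [← M.lifts.inj h, M.sc_op hp]
  · obtain ⟨h1, h2⟩ := M.fixes_of_mem hp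
    exact iff_of_true (by rw [h1.eq, mul_inv_cancel_right]) (by rw [h2.eq, mul_inv_cancel_right])

theorem syn_triple {p q r : P} (h : IsTriple op (Sc M.f M.a) p q r) :
    M.Syn (M.pr p * M.pr q * M.pr r) := by
  have hrel : ∀ u, M.pr p * M.pr q * M.pr r * M.pr u * (M.pr p * M.pr q * M.pr r)⁻¹ =
      M.pr (op p (op q (op r u))) := fun u => by
    rw [M.lifts.conj, M.lifts.conj, M.lifts.conj, mul_inv_rev, mul_inv_rev, M.lifts.inv, M.lifts.inv,
      M.lifts.inv]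
    group
  refine ⟨⟨mul_mem (mul_mem (Subgroup.subset_closure ⟨p, rfl⟩) (Subgroup.subset_closure ⟨q, rfl⟩))
    (Subgroup.subset_closure ⟨r, rfl⟩), fun u v huv => ?_⟩, ?_⟩
  · rw [hrel] at huv
    obtain rfl := M.lifts.inj huv
    haveI := M.finiteP
    -- an injective map preserving a finite set preserves its complement
    let g : Sc M.f M.a → Sc M.f M.a := fun w => ⟨op p (op q (op r w)), h.maps w w.2⟩
    have ginj : Function.Injective g := fun v w e => by
      have e' := congrArg Subtype.val e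
      have hi := fun x => Function.Involutive.injective (M.C.op_op M.X.hS x)
      exact Subtype.ext (hi r (hi q (hi p e')))
    refine ⟨fun hu => h.maps u hu, fun hu => ?_⟩
    obtain ⟨w, hw⟩ := Finite.surjective_of_injective ginj ⟨_, hu⟩
    have hi := fun x => Function.Involutive.injective (M.C.op_op M.X.hS x)
    exact hi r (hi q (hi p (congrArg Subtype.val hw))) ▸ w.2
  · obtain ⟨op1, op2, op3⟩ := h.out
    have n' : ∀ {x}, x ∉ Sc M.f M.a → x ∉ Sc M.f' M.a' := fun hx h' => hx (M.hSc ▸ h')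
    refine iff_of_false ?_ ?_
    · exact triple_moves M.X.hS M.X.hc M.ha (M.C.mem p).1 (M.C.mem q).1 (M.C.mem r).1
        (fun e => h.pr.1 (M.C.inj e).symm) ((M.C.com_iff M.X.hS p q).2 h.pq.2)
        ((M.C.com_iff M.X.hS p r).2 h.pr.2) ((M.C.com_iff M.X.hS q r).2 h.qr.2) op1 op3
    · exact triple_moves M.Y.hS M.Y.hc M.ha' (M.C'.mem p).1 (M.C'.mem q).1 (M.C'.mem r).1
        (fun e => h.pr.1 (M.C'.inj e).symm) ((M.C'.com_iff M.Y.hS p q).2 h.pq.2)
        ((M.C'.com_iff M.Y.hS p r).2 h.pr.2) ((M.C'.com_iff M.Y.hS q r).2 h.qr.2) (n' op1) (n' op3)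

theorem syn_link {u v : P} (h : Link op (Sc M.f M.a) u v) :
    ∃ s, M.Syn s ∧ s * M.pr u * s⁻¹ = M.pr v := by
  obtain ⟨hu, hv, hadj | ⟨p, q, r, ht, rfl⟩⟩ := h
  · exact ⟨_, M.syn_mul (M.syn_point hu) (M.syn_point hv), M.lifts.edge_conj hadj⟩
  · refine ⟨_, M.syn_triple ht, ?_⟩
    rw [M.lifts.conj, M.lifts.conj, M.lifts.conj, mul_inv_rev, mul_inv_rev, M.lifts.inv, M.lifts.inv,
      M.lifts.inv]
    group

/-- A stabilising element fixing the base point agrees. -/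
theorem syn_fix {k : G × H} (hk : M.Stab k) (hfix : k * M.pr M.e * k⁻¹ = M.pr M.e) : M.Syn k := by
  refine ⟨hk, ?_⟩
  haveI := M.finiteP
  obtain ⟨σ, hσ⟩ := M.sync_fix (M.lifts.mem_stabGen (extra := ∅) M.S.dense (fun _ h => h.elim) hk.1 hfix)
  obtain ⟨h1, h2⟩ := hσ M.B
  rw [M.feB] at h1
  rw [M.feB'] at h2
  rw [h1, h2, ← M.feB, ← M.feB', M.Ce.inj.eq_iff, M.Ce'.inj.eq_iff]

/-- An element stabilising the common neighbours fixes both outer members or neither. -/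
theorem sync {k : G × H} (hk : k ∈ M.K)
    (hS : ∀ p q, k * M.pr p * k⁻¹ = M.pr q → (p ∈ Sc M.f M.a ↔ q ∈ Sc M.f M.a)) :
    k.1 * M.a * k.1⁻¹ = M.a ↔ k.2 * M.a' * k.2⁻¹ = M.a' := by
  obtain ⟨q₀, hq₀⟩ := M.moves hk M.e
  have hq₀S : q₀ ∈ Sc M.f M.a := (hS _ _ hq₀).1 M.he
  obtain ⟨s, hs, hse⟩ : ∃ s, M.Syn s ∧ s * M.pr q₀ * s⁻¹ = M.pr M.e := by
    have hrel := M.conn q₀ hq₀S
    generalize M.e = e₁ at hrel ⊢
    induction hrel with
    | refl => exact ⟨1, ⟨M.stab_one, by simp⟩, by simp⟩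
    | tail _ h ih =>
      obtain ⟨s, hs, hse⟩ := ih
      obtain ⟨t, ht, hte⟩ := M.syn_link h
      refine ⟨t * s, M.syn_mul ht hs, ?_⟩
      rw [← hte, ← hse]; group
  have hst : M.Stab (s * k) := M.stab_mul hs.1 ⟨hk, hS⟩
  have hsk : M.Syn (s * k) := M.syn_fix hst (by
    calc s * k * M.pr M.e * (s * k)⁻¹ = s * (k * M.pr M.e * k⁻¹) * s⁻¹ := by group
      _ = M.pr M.e := by rw [hq₀, hse])
  have hsinv : M.Syn s⁻¹ := by
    have hst' : M.Stab s⁻¹ := ⟨inv_mem hs.1.1, fun p q h => (hs.1.2 q p (by rw [← h]; group)).symm⟩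
    refine ⟨hst', ?_⟩
    have m1 : s.1⁻¹ * M.a * (s.1⁻¹)⁻¹ = M.a ↔ s.1 * M.a * s.1⁻¹ = M.a := by
      constructor <;> intro e <;> conv_lhs => rw [← e]
      all_goals group
    have m2 : s.2⁻¹ * M.a' * (s.2⁻¹)⁻¹ = M.a' ↔ s.2 * M.a' * s.2⁻¹ = M.a' := by
      constructor <;> intro e <;> conv_lhs => rw [← e]
      all_goals group
    show (s⁻¹).1 * _ * _ = _ ↔ (s⁻¹).2 * _ * _ = _
    simp only [Prod.fst_inv, Prod.snd_inv]
    rw [m1, m2]
    exact hs.2
  have := (M.syn_mul hsinv hsk).2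
  rwa [inv_mul_cancel_left] at this

/-- Where the group of the paired coordinates sends the outer pair. -/
theorem pair_image {k : G × H} (hk : k ∈ M.K) :
    (k.1 * M.a * k.1⁻¹ = M.a ↔ k.2 * M.a' * k.2⁻¹ = M.a') ∧
      (k.1 * M.a * k.1⁻¹ = M.d * M.a * M.d ↔ k.2 * M.a' * k.2⁻¹ = M.d' * M.a' * M.d') := by
  by_cases hS : ∀ p q, k * M.pr p * k⁻¹ = M.pr q → (p ∈ Sc M.f M.a ↔ q ∈ Sc M.f M.a)
  · have h1 := M.sync hk hS
    obtain ⟨hG, hH⟩ := M.stab_image ⟨hk, hS⟩
    refine ⟨h1, fun h => hH.resolve_left fun h' => M.a_ne (h ▸ h1.2 h'),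
      fun h => hG.resolve_left fun h' => M.a_ne' (h ▸ h1.1 h')⟩
  · push Not at hS
    obtain ⟨p, q, hpq, hne⟩ := hS
    have key : ∀ b, Sc M.f b = Sc M.f M.a → k.1 * M.a * k.1⁻¹ ≠ b := by
      intro b hb e
      have := M.conj_sc_G hpq M.a
      rw [e, hb] at this
      tauto
    have key' : ∀ b, Sc M.f' b = Sc M.f' M.a' → k.2 * M.a' * k.2⁻¹ ≠ b := by
      intro b hb e
      have := M.conj_sc_H hpq M.a'
      rw [e, hb, ← M.hSc] at this
      tauto
    exact ⟨iff_of_false (key _ rfl) (key' _ rfl), iff_of_false (key _ M.sc_dad) (key' _ M.sc_dad')⟩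

/-- The paired members: the centre, the coordinates and the orbit of the outer members. -/
def Om : Set (G × H) :=
  {M.dd} ∪ Set.range M.pr ∪
    {w | ∃ k ∈ M.K, w = k * M.aa * k⁻¹ ∨ w = k * (M.dd * M.aa * M.dd) * k⁻¹}

theorem dd_sq : M.dd * M.dd = 1 :=
  Prod.ext (mul_self_eq_one M.X.hS M.hd) (mul_self_eq_one M.Y.hS M.hd')

theorem orbit_not_commute {k : G × H} (hk : k ∈ M.K) {w : G × H}
    (hw : w = k * M.aa * k⁻¹ ∨ w = k * (M.dd * M.aa * M.dd) * k⁻¹) :
    ¬ Commute M.d w.1 ∧ ¬ Commute M.d' w.2 := by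
  have hd1 : k.1 * M.d * k.1⁻¹ = M.d := by rw [(M.K_d hk).1.eq, mul_inv_cancel_right]
  have hd2 : k.2 * M.d' * k.2⁻¹ = M.d' := by rw [(M.K_d hk).2.eq, mul_inv_cancel_right]
  constructor <;> rcases hw with rfl | rfl <;> intro h
  · exact M.hda ((commute_conjBy _ _ _).1 (hd1.symm ▸ h : Commute (k.1 * M.d * k.1⁻¹) (k.1 * M.a * k.1⁻¹)))
  · have := (commute_conjBy _ _ _).1
      (hd1.symm ▸ h : Commute (k.1 * M.d * k.1⁻¹) (k.1 * (M.d * M.a * M.d) * k.1⁻¹))
    have h' := (commute_conj_iff M.X.hS M.hd M.d M.a).1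
    rw [conj_eq_of_commute M.X.hS M.hd (Commute.refl M.d)] at h'
    exact M.hda (h' this)
  · exact M.hda' ((commute_conjBy _ _ _).1 (hd2.symm ▸ h : Commute (k.2 * M.d' * k.2⁻¹) (k.2 * M.a' * k.2⁻¹)))
  · have := (commute_conjBy _ _ _).1
      (hd2.symm ▸ h : Commute (k.2 * M.d' * k.2⁻¹) (k.2 * (M.d' * M.a' * M.d') * k.2⁻¹))
    have h' := (commute_conj_iff M.Y.hS M.hd' M.d' M.a').1
    rw [conj_eq_of_commute M.Y.hS M.hd' (Commute.refl M.d')] at h'
    exact M.hda' (h' this)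

theorem om_functional {v w : G × H} (hv : v ∈ M.Om) (hw : w ∈ M.Om) : v.1 = w.1 ↔ v.2 = w.2 := by
  rcases hv with (hv | ⟨p, rfl⟩) | ⟨k, hk, hv⟩ <;> rcases hw with (hw | ⟨q, rfl⟩) | ⟨l, hl, hw⟩
  · rw [Set.mem_singleton_iff.1 hv, Set.mem_singleton_iff.1 hw]
    exact iff_of_true rfl rfl
  · rw [Set.mem_singleton_iff.1 hv]
    exact iff_of_false (fun h => (M.C.mem q).2.1 h.symm) (fun h => (M.C'.mem q).2.1 h.symm)
  · rw [Set.mem_singleton_iff.1 hv]
    have h := M.orbit_not_commute hl hw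
    exact iff_of_false (fun e => h.1 (e ▸ Commute.refl _)) (fun e => h.2 (e ▸ Commute.refl _))
  · rw [Set.mem_singleton_iff.1 hw]
    exact iff_of_false (M.C.mem p).2.1 (M.C'.mem p).2.1
  · show M.f p = M.f q ↔ M.f' p = M.f' q
    rw [M.C.inj.eq_iff, M.C'.inj.eq_iff]
  · have h := M.orbit_not_commute hl hw
    exact iff_of_false (fun e => h.1 (e ▸ (M.C.mem p).2.2)) (fun e => h.2 (e ▸ (M.C'.mem p).2.2))
  · rw [Set.mem_singleton_iff.1 hw]
    have h := M.orbit_not_commute hk hv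
    exact iff_of_false (fun e => h.1 (e.symm ▸ Commute.refl _)) (fun e => h.2 (e.symm ▸ Commute.refl _))
  · have h := M.orbit_not_commute hk hv
    exact iff_of_false (fun e => h.1 (e.symm ▸ (M.C.mem q).2.2)) (fun e => h.2 (e.symm ▸ (M.C'.mem q).2.2))
  · have hm : l⁻¹ * k ∈ M.K := mul_mem (inv_mem hl) hk
    obtain ⟨h1, h2⟩ := M.pair_image hm
    have e1 := (M.K_d hm).1
    have e2 := (M.K_d hm).2
    have dd1 := mul_self_eq_one M.X.hS M.hd
    have dd2 := mul_self_eq_one M.Y.hS M.hd'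
    rcases hv with rfl | rfl <;> rcases hw with rfl | rfl <;>
      (show (k.1 * _ * k.1⁻¹ = l.1 * _ * l.1⁻¹) ↔ (k.2 * _ * k.2⁻¹ = l.2 * _ * l.2⁻¹)) <;>
      refine (moved_iff _ _ _ _).trans (Iff.trans ?_ (moved_iff _ _ _ _).symm)
    · exact h1
    · exact h2
    · show (l⁻¹ * k).1 * (M.d * M.a * M.d) * (l⁻¹ * k).1⁻¹ = M.a ↔
        (l⁻¹ * k).2 * (M.d' * M.a' * M.d') * (l⁻¹ * k).2⁻¹ = M.a'
      rw [conj_dist _ _ _ e1, conj_dist _ _ _ e2, flip_eq_iff _ _ dd1, flip_eq_iff _ _ dd2]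
      exact h2
    · show (l⁻¹ * k).1 * (M.d * M.a * M.d) * (l⁻¹ * k).1⁻¹ = M.d * M.a * M.d ↔
        (l⁻¹ * k).2 * (M.d' * M.a' * M.d') * (l⁻¹ * k).2⁻¹ = M.d' * M.a' * M.d'
      rw [conj_dist _ _ _ e1, conj_dist _ _ _ e2, flip_inj, flip_inj]
      exact h1

theorem d_pair : M.dd * M.aa * M.dd ∈ M.Om :=
  Or.inr ⟨1, one_mem _, Or.inr (by simp)⟩

theorem aa_mem : M.aa ∈ M.Om := Or.inr ⟨1, one_mem _, Or.inl (by simp)⟩

theorem pr_sq (p : P) : M.pr p * M.pr p = 1 := M.lifts.sq p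

theorem om_pr {w : G × H} (hw : w ∈ M.Om) (p : P) : M.pr p * w * M.pr p ∈ M.Om := by
  have hp : M.pr p ∈ M.K := Subgroup.subset_closure ⟨p, rfl⟩
  rcases hw with (hw | ⟨q, rfl⟩) | ⟨k, hk, hw⟩
  · refine Or.inl (Or.inl ?_)
    rw [Set.mem_singleton_iff.1 hw, ← (M.dd_comm p).eq, mul_assoc, M.pr_sq, mul_one]
    rfl
  · exact Or.inl (Or.inr ⟨op p q, M.lifts.conj p q⟩)
  · refine Or.inr ⟨M.pr p * k, mul_mem hp hk, ?_⟩
    have hi := M.lifts.inv p
    rcases hw with rfl | rfl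
    · exact Or.inl (by rw [mul_inv_rev, hi]; group)
    · exact Or.inr (by rw [mul_inv_rev, hi]; group)

theorem om_dd {w : G × H} (hw : w ∈ M.Om) : M.dd * w * M.dd ∈ M.Om := by
  rcases hw with (hw | ⟨q, rfl⟩) | ⟨k, hk, hw⟩
  · refine Or.inl (Or.inl ?_)
    rw [Set.mem_singleton_iff.1 hw, M.dd_sq, one_mul]; rfl
  · refine Or.inl (Or.inr ⟨q, ?_⟩)
    rw [(M.dd_comm q).eq, mul_assoc, M.dd_sq, mul_one]
  · refine Or.inr ⟨k, hk, ?_⟩
    have hc := M.K_comm hk
    have e : ∀ y, M.dd * (k * y * k⁻¹) * M.dd = k * (M.dd * y * M.dd) * k⁻¹ := fun y => by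
      calc M.dd * (k * y * k⁻¹) * M.dd = (M.dd * k) * y * (k⁻¹ * M.dd) := by group
        _ = (k * M.dd) * y * (M.dd * k⁻¹) := by rw [hc.eq, hc.inv_left.eq]
        _ = _ := by group
    rcases hw with rfl | rfl
    · exact Or.inr (e _)
    · refine Or.inl ?_
      rw [e, show M.dd * (M.dd * M.aa * M.dd) * M.dd = (M.dd * M.dd) * M.aa * (M.dd * M.dd) by group,
        M.dd_sq, one_mul, mul_one]

/-- A paired member and a paired coordinate commute in both groups or in neither. -/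
theorem om_commute {w : G × H} (hw : w ∈ M.Om) (p : P) :
    Commute w.1 (M.f p) ↔ Commute w.2 (M.f' p) := by
  have h1 : Commute w.1 (M.f p) ↔ (M.pr p * w * M.pr p).1 = w.1 :=
    ⟨fun h => conj_eq_of_commute M.X.hS (M.C.mem p).1 h.symm,
      fun h => (commute_of_conj_eq M.X.hS (M.C.mem p).1 h).symm⟩
  have h2 : Commute w.2 (M.f' p) ↔ (M.pr p * w * M.pr p).2 = w.2 :=
    ⟨fun h => conj_eq_of_commute M.Y.hS (M.C'.mem p).1 h.symm,
      fun h => (commute_of_conj_eq M.Y.hS (M.C'.mem p).1 h).symm⟩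
  rw [h1, h2]
  exact M.om_functional (M.om_pr hw p) hw

theorem om_fst {w : G × H} (hw : w ∈ M.Om) : w.1 ∈ D ∧ w.2 ∈ E := by
  rcases hw with (hw | ⟨q, rfl⟩) | ⟨k, hk, rfl | rfl⟩
  · rw [Set.mem_singleton_iff.1 hw]; exact ⟨M.hd, M.hd'⟩
  · exact ⟨(M.C.mem q).1, (M.C'.mem q).1⟩
  · exact ⟨M.X.hc _ _ M.ha, M.Y.hc _ _ M.ha'⟩
  · exact ⟨M.X.hc _ _ (conj_mem M.X.hS M.X.hc M.hd M.ha),
      M.Y.hc _ _ (conj_mem M.Y.hS M.Y.hc M.hd' M.ha')⟩

theorem aa_braid {p : P} (hp : p ∉ Sc M.f M.a) :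
    M.aa * (M.pr p * M.aa * M.pr p) * M.aa = M.pr p := by
  have h1 : ¬ Commute M.a (M.f p) := hp
  have h2 : ¬ Commute M.a' (M.f' p) := fun h => hp (M.hSc ▸ (h : p ∈ Sc M.f' M.a'))
  refine Prod.ext ?_ ?_
  · show M.a * (M.f p * M.a * M.f p) * M.a = M.f p
    rw [ThreeTransp.braid M.X.hS (M.C.mem p).1 M.ha fun h => h1 h.symm, conj_conj M.X.hS M.ha]
  · show M.a' * (M.f' p * M.a' * M.f' p) * M.a' = M.f' p
    rw [ThreeTransp.braid M.Y.hS (M.C'.mem p).1 M.ha' fun h => h2 h.symm, conj_conj M.Y.hS M.ha']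

theorem aa_sq : M.aa * M.aa = 1 :=
  Prod.ext (mul_self_eq_one M.X.hS M.ha) (mul_self_eq_one M.Y.hS M.ha')

theorem aa_pr (p : P) : M.aa * M.pr p * M.aa ∈ M.Om := by
  have h : M.pr p * M.aa * M.pr p ∈ M.Om := M.om_pr M.aa_mem p
  by_cases hp : p ∈ Sc M.f M.a
  · refine Or.inl (Or.inr ⟨p, ?_⟩)
    have hp' : p ∈ Sc M.f' M.a' := M.hSc ▸ hp
    exact (Prod.ext (conj_eq_of_commute M.X.hS M.ha hp) (conj_eq_of_commute M.Y.hS M.ha' hp')).symm
  · have := M.aa_braid hp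
    rw [show M.aa * M.pr p * M.aa = M.aa * (M.aa * (M.pr p * M.aa * M.pr p) * M.aa) * M.aa by rw [this],
      show M.aa * (M.aa * (M.pr p * M.aa * M.pr p) * M.aa) * M.aa =
        (M.aa * M.aa) * (M.pr p * M.aa * M.pr p) * (M.aa * M.aa) by group, M.aa_sq, one_mul, mul_one]
    exact h

theorem aa_step {w : G × H} (p : P) (hw : w = M.pr p * M.aa * M.pr p) : M.aa * w * M.aa ∈ M.Om := by
  subst hw
  by_cases hp : p ∈ Sc M.f M.a
  · have hp' : p ∈ Sc M.f' M.a' := M.hSc ▸ hp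
    have : M.pr p * M.aa * M.pr p = M.aa := Prod.ext
      (conj_eq_of_commute M.X.hS (M.C.mem p).1 (hp : Commute M.a (M.f p)).symm)
      (conj_eq_of_commute M.Y.hS (M.C'.mem p).1 (hp' : Commute M.a' (M.f' p)).symm)
    rw [this, M.aa_sq, one_mul]
    exact M.aa_mem
  · rw [M.aa_braid hp]; exact Or.inl (Or.inr ⟨p, rfl⟩)

theorem om_aa {w : G × H} (hw : w ∈ M.Om) : M.aa * w * M.aa ∈ M.Om := by
  rcases hw with (hw | ⟨q, rfl⟩) | ⟨k, hk, hw⟩
  · rw [Set.mem_singleton_iff.1 hw]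
    have : M.aa * M.dd * M.aa = M.dd * M.aa * M.dd := Prod.ext
      (ThreeTransp.braid M.X.hS M.hd M.ha M.hda).symm
      (ThreeTransp.braid M.Y.hS M.hd' M.ha' M.hda').symm
    rw [this]; exact M.d_pair
  · exact M.aa_pr q
  · have hwO : w ∈ M.Om := Or.inr ⟨k, hk, hw⟩
    have hwE := (M.om_fst hwO).2
    have hnc := (M.orbit_not_commute hk hw).2
    have heq : ∀ w' ∈ M.Om, w'.2 = w.2 → w = w' := fun w' hw' h =>
      Prod.ext ((M.om_functional hwO hw').2 h.symm) h.symm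
    rcases M.witness w.2 hwE hnc with h | h | ⟨p, h⟩ | ⟨p, t, h⟩
    · rw [heq _ M.aa_mem h.symm, M.aa_sq, one_mul]; exact M.aa_mem
    · rw [heq _ M.d_pair h.symm]
      refine Or.inl (Or.inl ?_)
      show M.aa * (M.dd * M.aa * M.dd) * M.aa = M.dd
      refine Prod.ext ?_ ?_
      · show M.a * (M.d * M.a * M.d) * M.a = M.d
        rw [ThreeTransp.braid M.X.hS M.hd M.ha M.hda, conj_conj M.X.hS M.ha]
      · show M.a' * (M.d' * M.a' * M.d') * M.a' = M.d'
        rw [ThreeTransp.braid M.Y.hS M.hd' M.ha' M.hda', conj_conj M.Y.hS M.ha']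
    · exact M.aa_step p (heq _ (M.om_pr M.aa_mem p) h.symm)
    · have hmem := M.om_pr (M.om_pr M.aa_mem p) t
      rw [heq _ hmem h.symm]
      by_cases hp : p ∈ Sc M.f M.a
      · have hp' : p ∈ Sc M.f' M.a' := M.hSc ▸ hp
        have e : M.pr p * M.aa * M.pr p = M.aa := Prod.ext
          (conj_eq_of_commute M.X.hS (M.C.mem p).1 (hp : Commute M.a (M.f p)).symm)
          (conj_eq_of_commute M.Y.hS (M.C'.mem p).1 (hp' : Commute M.a' (M.f' p)).symm)
        rw [e]; exact M.aa_step t rfl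
      · have e : M.aa * (M.pr t * (M.pr p * M.aa * M.pr p) * M.pr t) * M.aa =
            (M.aa * M.pr t * M.aa) * M.pr p * (M.aa * M.pr t * M.aa) := by
          conv_rhs => rw [← M.aa_braid hp]
          rw [show M.aa * M.pr t * M.aa * (M.aa * (M.pr p * M.aa * M.pr p) * M.aa) * (M.aa * M.pr t * M.aa)
            = M.aa * M.pr t * (M.aa * M.aa) * (M.pr p * M.aa * M.pr p) * (M.aa * M.aa) * M.pr t * M.aa by group,
            M.aa_sq]
          group
        rw [e]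
        have hu := M.aa_pr t
        set u := M.aa * M.pr t * M.aa
        obtain ⟨hu1, hu2⟩ := M.om_fst hu
        by_cases hc : Commute u.1 (M.f p)
        · refine Or.inl (Or.inr ⟨p, ?_⟩)
          exact (Prod.ext (conj_eq_of_commute M.X.hS hu1 hc)
            (conj_eq_of_commute M.Y.hS hu2 ((M.om_commute hu p).1 hc))).symm
        · have : u * M.pr p * u = M.pr p * u * M.pr p := Prod.ext
            (ThreeTransp.braid M.X.hS hu1 (M.C.mem p).1 hc)
            (ThreeTransp.braid M.Y.hS hu2 (M.C'.mem p).1 fun h => hc ((M.om_commute hu p).2 h))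
          rw [this]; exact M.om_pr hu p

theorem K_fst_surj {g : G} (hg : g ∈ Subgroup.closure {y : G | y ∈ D ∧ Commute M.d y}) :
    ∃ k ∈ M.K, g * M.a * g⁻¹ = k.1 * M.a * k.1⁻¹ ∨ g * M.a * g⁻¹ = k.1 * (M.d * M.a * M.d) * k.1⁻¹ := by
  have h : ∃ k ∈ M.K, g = k.1 ∨ g = k.1 * M.d := by
    induction hg using Subgroup.closure_induction with
    | mem y hy =>
      rcases eq_or_ne y M.d with rfl | hne
      · exact ⟨1, one_mem _, Or.inr (by simp)⟩
      · obtain ⟨p, rfl⟩ := M.C.exists_pt ⟨hy.1, hne, hy.2⟩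
        exact ⟨M.pr p, Subgroup.subset_closure ⟨p, rfl⟩, Or.inl rfl⟩
    | one => exact ⟨1, one_mem _, Or.inl rfl⟩
    | mul u v _ _ hu hv =>
      obtain ⟨k, hk, hu⟩ := hu
      obtain ⟨l, hl, hv⟩ := hv
      have hdl := (M.K_d hl).1.eq
      refine ⟨k * l, mul_mem hk hl, ?_⟩
      rcases hu with rfl | rfl <;> rcases hv with rfl | rfl
      · exact Or.inl rfl
      · exact Or.inr (by simp [mul_assoc])
      · exact Or.inr (by simp only [Prod.fst_mul, mul_assoc]; rw [hdl])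
      · refine Or.inl ?_
        simp only [Prod.fst_mul]
        calc k.1 * M.d * (l.1 * M.d) = k.1 * (M.d * l.1) * M.d := by group
          _ = k.1 * l.1 * (M.d * M.d) := by rw [← hdl]; group
          _ = k.1 * l.1 := by rw [mul_self_eq_one M.X.hS M.hd, mul_one]
    | inv u _ hu =>
      obtain ⟨k, hk, hu⟩ := hu
      refine ⟨k⁻¹, inv_mem hk, ?_⟩
      rcases hu with rfl | rfl
      · exact Or.inl rfl
      · refine Or.inr ?_
        simp only [mul_inv_rev, Prod.fst_inv, inv_eq_self M.X.hS M.hd]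
        exact ((M.K_d hk).1.inv_left.eq).symm
  obtain ⟨k, hk, rfl | rfl⟩ := h
  · exact ⟨k, hk, Or.inl rfl⟩
  · exact ⟨k, hk, Or.inr (by rw [mul_inv_rev, inv_eq_self M.X.hS M.hd]; group)⟩

/-- The members on the first side all occur. -/
theorem om_surj {y : G} (hy : y ∈ D) : ∃ w ∈ M.Om, w.1 = y := by
  rcases eq_or_ne y M.d with rfl | hne
  · exact ⟨M.dd, Or.inl (Or.inl rfl), rfl⟩
  by_cases hc : Commute M.d y
  · obtain ⟨p, rfl⟩ := M.C.exists_pt ⟨hy, hne, hc⟩
    exact ⟨M.pr p, Or.inl (Or.inr ⟨p, rfl⟩), rfl⟩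
  · obtain ⟨g, hg, rfl⟩ := transitive_not_commute M.X.hD M.X.hprim M.X.hw M.hd M.ha hy M.hda hc
    obtain ⟨k, hk, h | h⟩ := M.K_fst_surj hg
    · exact ⟨k * M.aa * k⁻¹, Or.inr ⟨k, hk, Or.inl rfl⟩, h.symm⟩
    · exact ⟨k * (M.dd * M.aa * M.dd) * k⁻¹, Or.inr ⟨k, hk, Or.inr rfl⟩, h.symm⟩

/-- The other match, sides exchanged, used for surjectivity on the second side. -/
theorem om_surj' {y : H} (hy : y ∈ E) : ∃ w ∈ M.Om, w.2 = y := by
  rcases eq_or_ne y M.d' with rfl | hne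
  · exact ⟨M.dd, Or.inl (Or.inl rfl), rfl⟩
  by_cases hc : Commute M.d' y
  · obtain ⟨p, rfl⟩ := M.C'.exists_pt ⟨hy, hne, hc⟩
    exact ⟨M.pr p, Or.inl (Or.inr ⟨p, rfl⟩), rfl⟩
  · rcases M.witness y hy hc with rfl | rfl | ⟨p, rfl⟩ | ⟨p, t, rfl⟩
    · exact ⟨M.aa, M.aa_mem, rfl⟩
    · exact ⟨_, M.d_pair, rfl⟩
    · exact ⟨_, M.om_pr M.aa_mem p, rfl⟩
    · exact ⟨_, M.om_pr (M.om_pr M.aa_mem p) t, rfl⟩

/-- The two groups are isomorphic, member to member. -/
theorem iso (M : Match D E op) : ∃ φ : G ≃* H, φ '' D = E := by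
  set Γ := Subgroup.closure (Set.range M.pr ∪ {M.dd, M.aa})
  have hgen : ∀ y ∈ Set.range M.pr ∪ {M.dd, M.aa}, y * y = 1 := by
    rintro _ (⟨p, rfl⟩ | rfl | rfl)
    exacts [M.pr_sq p, M.dd_sq, M.aa_sq]
  have hpres : ∀ g ∈ Γ, ∀ w ∈ M.Om, g * w * g⁻¹ ∈ M.Om := by
    have : (Γ : Set (G × H)) ⊆ {g | ∀ w ∈ M.Om, g * w * g⁻¹ ∈ M.Om} := by
      refine closure_subset_of_mul_mem (fun w hw => by simpa using hw) ?_
        (fun y hy => inv_eq_of_mul_eq_one_left (hgen y hy))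
      intro g hg y hy w hw
      have hyw : y * w * y ∈ M.Om := by
        rcases hy with ⟨p, rfl⟩ | rfl | rfl
        exacts [M.om_pr hw p, M.om_dd hw, M.om_aa hw]
      have := hg _ hyw
      rwa [show g * (y * w * y) * g⁻¹ = g * y * w * (g * y)⁻¹ by
        rw [mul_inv_rev, inv_eq_of_mul_eq_one_left (hgen y hy)]; group] at this
    exact this
  have hdegen : ∀ g ∈ Γ, g.1 = 1 → g.2 = 1 := by
    intro g hg h
    rw [← Subgroup.mem_bot, ← M.Y.hZ]
    refine le_center_of_forall M.Y.hD.2.2 (H := Subgroup.zpowers g.2) ?_ (Subgroup.mem_zpowers _)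
    intro x hx y hy
    obtain ⟨w, hw, rfl⟩ := M.om_surj' hy
    have h1 : (g * w * g⁻¹).1 = w.1 := by simp [h]
    have h2 := (M.om_functional (hpres g hg w hw) hw).1 h1
    have hc : Commute g.2 w.2 := mul_inv_eq_iff_eq_mul.1 h2
    obtain ⟨i, rfl⟩ := Subgroup.mem_zpowers_iff.1 hx
    exact (hc.zpow_left i).symm
  have hdegen' : ∀ g ∈ Γ, g.2 = 1 → g.1 = 1 := by
    intro g hg h
    rw [← Subgroup.mem_bot, ← M.X.hZ]
    refine le_center_of_forall M.X.hD.2.2 (H := Subgroup.zpowers g.1) ?_ (Subgroup.mem_zpowers _)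
    intro x hx y hy
    obtain ⟨w, hw, rfl⟩ := M.om_surj hy
    have h1 : (g * w * g⁻¹).2 = w.2 := by simp [h]
    have h2 := (M.om_functional (hpres g hg w hw) hw).2 h1
    have hc : Commute g.1 w.1 := mul_inv_eq_iff_eq_mul.1 h2
    obtain ⟨i, rfl⟩ := Subgroup.mem_zpowers_iff.1 hx
    exact (hc.zpow_left i).symm
  let πG : Γ →* G := (MonoidHom.fst G H).comp Γ.subtype
  let πH : Γ →* H := (MonoidHom.snd G H).comp Γ.subtype
  have injG : Function.Injective πG := (injective_iff_map_eq_one _).2 fun g hg =>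
    Subtype.ext (Prod.ext hg (hdegen g g.2 hg))
  have injH : Function.Injective πH := (injective_iff_map_eq_one _).2 fun g hg =>
    Subtype.ext (Prod.ext (hdegen' g g.2 hg) hg)
  have hddΓ : M.dd ∈ Γ := Subgroup.subset_closure (Or.inr (Or.inl rfl))
  have haaΓ : M.aa ∈ Γ := Subgroup.subset_closure (Or.inr (Or.inr rfl))
  have hprΓ : ∀ p, M.pr p ∈ Γ := fun p => Subgroup.subset_closure (Or.inl ⟨p, rfl⟩)
  have surG : Function.Surjective πG := by
    rw [← MonoidHom.range_eq_top]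
    refine perp_maximal M.X.hD M.X.hprim M.X.hw M.hd ?_ M.ha ⟨⟨_, haaΓ⟩, rfl⟩ M.hda
    refine (Subgroup.closure_le _).2 fun y hy => ?_
    rcases eq_or_ne y M.d with rfl | hne
    · exact ⟨⟨_, hddΓ⟩, rfl⟩
    · obtain ⟨p, rfl⟩ := M.C.exists_pt ⟨hy.1, hne, hy.2⟩
      exact ⟨⟨_, hprΓ p⟩, rfl⟩
  have surH : Function.Surjective πH := by
    rw [← MonoidHom.range_eq_top, eq_top_iff, ← M.Y.hD.2.2, Subgroup.closure_le]
    intro y hy
    obtain ⟨w, hw, rfl⟩ := M.om_surj' hy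
    have hKΓ : M.K ≤ Γ := (Subgroup.closure_le _).2 (by rintro _ ⟨p, rfl⟩; exact hprΓ p)
    refine ⟨⟨w, ?_⟩, rfl⟩
    rcases hw with (hw | ⟨q, rfl⟩) | ⟨k, hk, rfl | rfl⟩
    · exact (Set.mem_singleton_iff.1 hw).symm ▸ hddΓ
    · exact hprΓ q
    · exact mul_mem (mul_mem (hKΓ hk) haaΓ) (inv_mem (hKΓ hk))
    · exact mul_mem (mul_mem (hKΓ hk) (mul_mem (mul_mem hddΓ haaΓ) hddΓ)) (inv_mem (hKΓ hk))
  let e1 := MulEquiv.ofBijective πG ⟨injG, surG⟩
  let e2 := MulEquiv.ofBijective πH ⟨injH, surH⟩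
  refine ⟨e1.symm.trans e2, ?_⟩
  have hed : (e1.symm.trans e2) M.d = M.d' := by
    rw [MulEquiv.trans_apply, show e1.symm M.d = ⟨M.dd, hddΓ⟩ from e1.symm_apply_eq.2 rfl]
    rfl
  ext y
  constructor
  · rintro ⟨x, hx, rfl⟩
    obtain ⟨g, rfl⟩ := M.X.exists_conj M.hd hx
    rw [map_mul, map_mul, map_inv, hed]
    exact M.Y.hc _ _ M.hd'
  · intro hy
    obtain ⟨g, rfl⟩ := M.Y.exists_conj M.hd' hy
    refine ⟨(e1.symm.trans e2).symm g * M.d * ((e1.symm.trans e2).symm g)⁻¹, M.X.hc _ _ M.hd, ?_⟩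
    rw [map_mul, map_mul, map_inv, hed, MulEquiv.apply_symm_apply]

end Match

end CfsgLib.FischerClass
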