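import Cfsg.Agent.Lib.FischerClass.UnitSeven

/-!
Unitary groups of dimension five: for each possible lift of the nine points, a word fixing the common
neighbours next to the standard point but permuting a line without fixed points.
-/

set_option autoImplicit false
set_option maxRecDepth 100000

namespace CfsgLib.FischerClass

open Cfsg
open CfsgLib.HePres (K4)

/-- A vector by its code. -/
def cv5 (m : ℕ) : UV 5 := ![kc m, kc (m / 4), kc (m / 16), kc (m / 64), kc (m / 256)]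

/-- The standard point. -/
def e5 : UV 5 := cv5 5

/-- Three vectors away from the first two coordinates. -/
def gen5 (k : Fin 3) : UV 5 := ![cv5 80, cv5 144, cv5 320] k

/-- Their combinations. -/
def wOf5 (c : Fin 3 → K4) : UV 5 := ∑ k, c k • gen5 k

/-- The combinations with their lifts. -/
def vOf5 (t c : Fin 3 → K4) : UV 5 := wOf5 c + (∑ k, c k * t k) • e5

/-- One step. -/
def cop5 (c' c : Fin 3 → K4) : Fin 3 → K4 := c' + uh (wOf5 c') (wOf5 c) • c

def n3 : Fin 3 → K4 := cop5 (Pi.single 1 1) (Pi.single 0 1)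
def n4 : Fin 3 → K4 := cop5 (Pi.single 2 1) (Pi.single 0 1)
def n5 : Fin 3 → K4 := cop5 (Pi.single 2 1) (Pi.single 1 1)
def n6 : Fin 3 → K4 := cop5 n4 (Pi.single 1 1)
def n7 : Fin 3 → K4 := cop5 n3 (Pi.single 2 1)
def n8 : Fin 3 → K4 := cop5 n6 (Pi.single 2 1)

/-- The nine points. -/
def nine (i : Fin 9) : Fin 3 → K4 :=
  ![Pi.single 0 1, Pi.single 1 1, Pi.single 2 1, n3, n4, n5, n6, n7, n8] i

/-- The words. -/
def words5 : List (List ℕ) := [
  [404, 36, 713, 404, 217, 297],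
  [596, 993, 132, 132, 557, 1009],
  [660, 257, 884, 852, 93, 257, 576, 5],
  [404, 217, 297, 660, 257, 884, 181, 325],
  [132, 977, 628, 404, 36, 713, 576, 528],
  [852, 93, 257, 660, 257, 884, 528, 272],
  [660, 257, 884, 132, 557, 1009, 784, 320],
  [660, 257, 884, 404, 217, 297, 208, 320],
  [660, 257, 884, 852, 93, 257, 549, 320],
  [596, 993, 132, 404, 217, 297, 85, 832],
  [404, 36, 713, 132, 557, 1009, 277, 80],
  [596, 993, 132, 132, 977, 628, 528, 272],
  [132, 557, 1009, 660, 257, 884, 901, 832],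
  [660, 257, 884, 404, 217, 297, 837, 528],
  [404, 217, 297, 596, 993, 132, 85, 784],
  [404, 217, 297, 660, 257, 884, 165, 85],
  [132, 977, 628, 404, 36, 713, 528, 320],
  [852, 93, 257, 660, 257, 884, 576, 5],
  [404, 36, 713, 404, 217, 297, 181, 325],
  [660, 257, 884, 404, 217, 297, 272, 320]]

/-- For each lift: the word, the fixed point and the line. -/
def table5 : List (ℕ × ℕ × ℕ) := [
  (9, 4, 68), (1, 6, 596), (13, 4, 596), (18, 6, 340), (4, 3, 68), (3, 4, 260),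
  (11, 1, 356), (14, 4, 516), (2, 8, 260), (15, 8, 20), (7, 1, 68), (0, 5, 772),
  (6, 8, 772), (5, 1, 340), (8, 3, 132), (10, 7, 132), (3, 4, 260), (8, 3, 132),
  (2, 8, 260), (15, 8, 20), (11, 1, 356), (9, 4, 68), (6, 8, 772), (13, 4, 596),
  (7, 1, 68), (10, 7, 132), (1, 6, 596), (4, 3, 68), (0, 5, 772), (12, 7, 260),
  (16, 8, 516), (5, 1, 340), (12, 7, 260), (4, 3, 68), (0, 5, 772), (6, 8, 772),
  (10, 7, 132), (11, 1, 356), (15, 8, 20), (2, 8, 260), (13, 4, 596), (7, 1, 68),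
  (9, 4, 68), (8, 3, 132), (1, 6, 596), (14, 4, 516), (5, 1, 340), (3, 4, 260),
  (19, 3, 196), (16, 8, 516), (10, 7, 132), (17, 8, 260), (8, 3, 132), (0, 5, 772),
  (12, 7, 260), (1, 6, 596), (14, 4, 516), (6, 8, 772), (3, 4, 260), (7, 1, 68),
  (5, 1, 340), (2, 8, 260), (4, 3, 68), (9, 4, 68)]

/-- A word applied to a vector. -/
def actV (w : List (UV 5)) (v : UV 5) : UV 5 := w.foldr (fun p x => x + uh x p • p) v

/-- The entry of a lift. -/
def pick5 (t : Fin 3 → K4) : ℕ × ℕ × ℕ :=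
  table5.getD (16 * (t 0).code.val + 4 * (t 1).code.val + (t 2).code.val) (0, 0, 0)

/-- The word of a lift. -/
def word5 (t : Fin 3 → K4) : List (UV 5) := (words5.getD (pick5 t).1 []).map cv5

/-- The point of a lift. -/
def fix5 (t : Fin 3 → K4) : Fin 9 := ⟨(pick5 t).2.1 % 9, Nat.mod_lt _ (by norm_num)⟩

/-- The line of a lift. -/
def line5 (t : Fin 3 → K4) : UV 5 := cv5 (pick5 t).2.2

theorem five_basic : uh e5 e5 = 0 ∧ e5 ≠ 0 ∧ (∀ k, gen5 k 0 = 0 ∧ gen5 k 1 = 0) ∧
    (∀ i, wOf5 (nine i) ≠ 0 ∧ uh (wOf5 (nine i)) (wOf5 (nine i)) = 0) := by decide +kernel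

theorem five_complete : ∀ x y z : K4, ![0, 0, x, y, z] = (0 : UV 5) ∨
    uh (![0, 0, x, y, z] : UV 5) ![0, 0, x, y, z] ≠ 0 ∨
    ∃ (i : Fin 9) (c : K4), ![0, 0, x, y, z] = c • wOf5 (nine i) := by decide +kernel

theorem five_words : words5.all (fun w => w.all fun m => decide (cv5 m ≠ 0 ∧ uh (cv5 m) (cv5 m) = 0)) = true := by
  decide +kernel

/-- The condition on a lift. -/
def Good5 (T : Fin 3 → K4) : Prop :=
  (∃ k : K4, actV (word5 T) e5 = k • e5) ∧
    (∀ i, ∃ (j : Fin 9) (k : K4), actV (word5 T) (vOf5 T (nine i)) = k • vOf5 T (nine j)) ∧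
    (∃ k : K4, actV (word5 T) (vOf5 T (nine (fix5 T))) = k • vOf5 T (nine (fix5 T))) ∧
    uh (line5 T) (line5 T) = 0 ∧ uh (line5 T) (vOf5 T (nine (fix5 T))) = 0 ∧
    (∀ k : K4, k • vOf5 T (nine (fix5 T)) ≠ line5 T) ∧
    ∀ s : K4, (∃ u v : K4, actV (word5 T) (line5 T + s • vOf5 T (nine (fix5 T))) =
        u • vOf5 T (nine (fix5 T)) + v • line5 T) ∧
      ∀ k : K4, actV (word5 T) (line5 T + s • vOf5 T (nine (fix5 T))) ≠
        k • (line5 T + s • vOf5 T (nine (fix5 T)))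

instance (T : Fin 3 → K4) : Decidable (Good5 T) := by unfold Good5; infer_instance

theorem five_checks : ∀ a b c : K4, Good5 ![a, b, c] := by
  decide +kernel

end CfsgLib.FischerClass
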